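/-
Isometries of prime period of Hermitian forms: invariant totally isotropic subspaces.
-/
import Cfsg.Agent.Lib.PrimeIso.Alt
import Cfsg.Agent.Lib.PrimeIso.Rev

set_option autoImplicit false
set_option linter.unusedSectionVars false
set_option maxHeartbeats 1000000

namespace CfsgLib.HermIso

open Polynomial Module CfsgLib.PrimeIso CfsgLib.MaxSub.Elusive

universe u v

variable {F : Type u} [Field F] [Fintype F] {σ : F →+* F} {V : Type v} [AddCommGroup V] [Module F V]
  [FiniteDimensional F V]

/-- A Hermitian form with respect to the involution `a ↦ a ^ q`. -/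
structure Herm (q : ℕ) (B : V →ₛₗ[σ] V →ₗ[F] F) : Prop where
  card : Fintype.card F = q ^ 2
  frob : ∀ a, σ a = a ^ q
  symm : ∀ x y, B y x = σ (B x y)
  nd : ∀ x, (∀ y, B x y = 0) → x = 0

/-- No vector is orthogonal to the whole subspace. -/
def NDS (B : V →ₛₗ[σ] V →ₗ[F] F) (W : Submodule F V) : Prop := ∀ x ∈ W, (∀ y ∈ W, B x y = 0) → x = 0

variable {q : ℕ} {B : V →ₛₗ[σ] V →ₗ[F] F} {T : Module.End F V}

theorem Herm.one_lt (H : Herm q B) : 1 < q := by
  have h1 := Fintype.one_lt_card (α := F)
  rw [H.card] at h1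
  by_contra h
  interval_cases q <;> simp at h1

theorem Herm.invol (H : Herm q B) (a : F) : σ (σ a) = a := by
  rw [H.frob, H.frob, ← pow_mul, ← sq, ← H.card, FiniteField.pow_card]

theorem Herm.refl (H : Herm q B) : B.IsRefl := fun x y h => by rw [H.symm, h, map_zero]

theorem Herm.moved (H : Herm q B) : ∃ a, σ a ≠ a := by
  classical
  by_contra hno
  push Not at hno
  have hq := H.one_lt
  obtain ⟨g, hg⟩ := IsCyclic.exists_ofOrder_eq_natCard (α := Fˣ)
  rw [Nat.card_units, Nat.card_eq_fintype_card, H.card] at hg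
  have h2 : g ^ (q - 1) = 1 := by
    refine mul_right_cancel (b := g) ?_
    rw [← pow_succ, Nat.sub_add_cancel hq.le, one_mul]
    exact Units.ext (by rw [Units.val_pow_eq_pow_val, ← H.frob, hno])
  have h3 := Nat.le_of_dvd (by omega) (orderOf_dvd_of_pow_eq_one h2)
  have h4 : 2 * q ≤ q ^ 2 := by rw [sq]; exact Nat.mul_le_mul_right q hq
  omega

omit [Fintype F] in
theorem fix_perp {r : ℕ} (h : PerIso B T r) {x y : V} (hx : x ∈ LinearMap.ker (aeval T (X - C (1 : F))))
    (hy : y ∈ LinearMap.ker (aeval T (geom F r))) : B x y = 0 ∧ (x = y → x = 0) := by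
  have hTx : T x = x := by simpa [sub_eq_zero] using hx
  have hpow : ∀ n : ℕ, (T ^ n) x = x := fun n => by
    induction n with
    | zero => rfl
    | succ n ih => rw [pow_succ, Module.End.mul_apply, hTx, ih]
  have hy' : ∑ j ∈ Finset.range r, (T ^ j) y = 0 := by simpa [geom] using hy
  refine ⟨?_, fun e => ?_⟩
  · have h1 : ∀ j : ℕ, B x ((T ^ j) y) = B x y := fun j => by
      conv_lhs => rw [← hpow j, h.pow]
    have h2 := congrArg (B x) hy'
    rw [map_sum, map_zero, Finset.sum_congr rfl fun j _ => h1 j] at h2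
    simpa [h.unit] using h2
  · subst e
    rw [Finset.sum_congr rfl fun j _ => hpow j] at hy'
    simp only [Finset.sum_const, Finset.card_range, ← Nat.cast_smul_eq_nsmul F] at hy'
    exact (smul_eq_zero.mp hy').resolve_left h.unit

omit [Fintype F] in
theorem finrank_split {r : ℕ} (h : PerIso B T r) {W : Submodule F V} (hW : Inv T W) :
    finrank F ↥(W ⊓ LinearMap.ker (aeval T (X - C (1 : F)))) +
      finrank F ↥(W ⊓ LinearMap.ker (aeval T (geom F r))) = finrank F W ∧
    (W ⊓ LinearMap.ker (aeval T (X - C (1 : F)))) ⊔ (W ⊓ LinearMap.ker (aeval T (geom F r))) = W := by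
  have h1 := finrank_ker_prod_le (T := T) hW {X - C (1 : F), geom F r}
  have h0 : aeval T (Multiset.prod {X - C (1 : F), geom F r}) = 0 := by
    rw [Multiset.prod_pair, geom, Polynomial.C_1, mul_comm, geom_sum_mul]
    simp [h.per]
  rw [h0, LinearMap.ker_zero, inf_top_eq] at h1
  simp only [Multiset.insert_eq_cons, Multiset.map_cons, Multiset.map_singleton, Multiset.sum_cons,
    Multiset.sum_singleton] at h1
  have h2 := Submodule.finrank_sup_add_finrank_inf_eq (W ⊓ LinearMap.ker (aeval T (X - C (1 : F))))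
    (W ⊓ LinearMap.ker (aeval T (geom F r)))
  have h3 : W ⊓ LinearMap.ker (aeval T (X - C (1 : F))) ⊓ (W ⊓ LinearMap.ker (aeval T (geom F r))) = ⊥ :=
    (Submodule.eq_bot_iff _).mpr fun x hx => (fix_perp h hx.1.2 hx.2.2).2 rfl
  have hle : (W ⊓ LinearMap.ker (aeval T (X - C (1 : F)))) ⊔ (W ⊓ LinearMap.ker (aeval T (geom F r))) ≤ W :=
    sup_le inf_le_left inf_le_left
  have h4 := Submodule.finrank_mono hle
  rw [h3, finrank_bot, add_zero] at h2
  exact ⟨by omega, Submodule.eq_of_le_of_finrank_eq hle (by omega)⟩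

/-- The fixed part and the moved part are non-degenerate. -/
theorem nds_parts (H : Herm q B) {r : ℕ} (h : PerIso B T r) :
    NDS B (LinearMap.ker (aeval T (X - C (1 : F)))) ∧ NDS B (LinearMap.ker (aeval T (geom F r))) := by
  obtain ⟨-, hsup⟩ := finrank_split h (inv_top (T := T))
  rw [top_inf_eq, top_inf_eq] at hsup
  constructor <;> refine fun x hx hp => H.nd x fun y => ?_ <;>
    obtain ⟨a, ha, b, hb, rfl⟩ := Submodule.mem_sup.mp (hsup.ge (Submodule.mem_top (x := y))) <;> rw [map_add]
  · rw [hp a ha, (fix_perp h hx hb).1, add_zero]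
  · rw [hp b hb, H.refl _ _ (fix_perp h ha hx).1, add_zero]

/-- An isotropic subspace is at most half of a non-degenerate one. -/
theorem two_mul_le (H : Herm q B) {X Y : Submodule F V} (hXY : X ≤ Y) (hX : ∀ x ∈ X, ∀ y ∈ X, B x y = 0)
    (hY : NDS B Y) : 2 * finrank F X ≤ finrank F Y := by
  classical
  let b := Module.finBasis F X
  let f : Fin (finrank F X) → Module.Dual F Y := fun a => (B (b a : V)).comp Y.subtype
  have hf : LinearIndependent F f := by
    refine Fintype.linearIndependent_iff.mpr fun c hc => ?_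
    have hy : ((∑ a, σ (c a) • b a : X) : V) = 0 := hY _ (hXY (SetLike.coe_mem _)) fun y hy => by
      have := LinearMap.congr_fun hc ⟨y, hy⟩
      simp only [f, LinearMap.sum_apply, LinearMap.smul_apply, LinearMap.comp_apply, Submodule.subtype_apply,
        LinearMap.zero_apply, smul_eq_mul] at this
      simp only [Submodule.coe_sum, Submodule.coe_smul, map_sum, LinearMap.map_smulₛₗ, LinearMap.sum_apply,
        LinearMap.smul_apply, smul_eq_mul, H.invol]
      exact this
    intro a
    have := Fintype.linearIndependent_iff.mp b.linearIndependent _ (Subtype.ext hy) a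
    exact σ.injective (this.trans (map_zero σ).symm)
  let Φ := Submodule.span F (Set.range f)
  have h1 : finrank F Φ = finrank F X := by
    rw [finrank_span_eq_card hf, Fintype.card_fin]
  have h2 : X.comap Y.subtype ≤ Φ.dualCoannihilator := fun x hx => by
    rw [Submodule.mem_dualCoannihilator]
    intro φ hφ
    induction hφ using Submodule.span_induction with
    | mem φ hφ => obtain ⟨a, rfl⟩ := hφ; exact hX _ (b a).2 _ hx
    | zero => rfl
    | add φ ψ _ _ h3 h4 => rw [LinearMap.add_apply, h3, h4, add_zero]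
    | smul c φ _ h3 => rw [LinearMap.smul_apply, h3, smul_zero]
  have h3 := Submodule.finrank_mono h2
  have h4 := Subspace.finrank_add_finrank_dualCoannihilator_eq Φ
  rw [(Submodule.comapSubtypeEquivOfLe hXY).finrank_eq] at h3
  omega

/-- A component without isotropic invariant subspaces has at most the dimension of its polynomial. -/
theorem comp_le (H : Herm q B) {N : ℕ} (h : PerIso B T N) {U : Submodule F V} (hU : Inv T U)
    (hno : ∀ X ≤ U, Inv T X → (∀ x ∈ X, ∀ y ∈ X, B x y = 0) → X = ⊥) {g : F[X]} (hgm : g.Monic)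
    (hodd : Odd g.natDegree) : finrank F ↥(U ⊓ LinearMap.ker (aeval T g)) ≤ g.natDegree := by
  classical
  by_contra hlt
  push Not at hlt
  set Y := U ⊓ LinearMap.ker (aeval T g)
  obtain ⟨l, hl⟩ := hodd
  let F₀ : Subfield F := RingHom.eqLocusField σ (RingHom.id F)
  have hmem : ∀ a : F, a ∈ F₀ ↔ σ a = a := fun a => Iff.rfl
  have : Module.Finite F₀ F := Module.Finite.of_finite
  have : FiniteDimensional F₀ V := Module.Finite.trans F V
  have : Fintype F₀ := Fintype.ofFinite F₀
  obtain ⟨θ₁, hθ₁⟩ := H.moved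
  obtain ⟨θ₀, hθ₀⟩ : ∃ θ : F, θ + σ θ ≠ 0 := by
    by_contra hno'
    push Not at hno'
    refine hθ₁ ?_
    have h1 := hno' 1
    rw [map_one] at h1
    have := hno' θ₁
    linear_combination this - θ₁ * h1
  let β : Fin g.natDegree → (V →ₗ[F₀] V →ₗ[F₀] F₀) := fun a =>
    let k := ((a : ℕ) + 1) / 2
    let θ : F := if (a : ℕ) = 0 then θ₀ else if Odd (a : ℕ) then 1 else θ₁
    LinearMap.mk₂ F₀ (fun x y => (⟨θ * B x ((T ^ k) y) + σ (θ * B x ((T ^ k) y)), (hmem _).mpr (by
        rw [map_add, H.invol, add_comm])⟩ : F₀))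
      (fun x x' y => Subtype.ext (by
        simp only [map_add, LinearMap.add_apply, mul_add, AddMemClass.coe_add]; ring))
      (fun c x y => Subtype.ext (by
        show θ * B ((c : F) • x) ((T ^ k) y) + σ (θ * B ((c : F) • x) ((T ^ k) y)) = (c : F) * _
        simp only [LinearMap.map_smulₛₗ, LinearMap.smul_apply, smul_eq_mul, (hmem (c : F)).mp c.2, map_mul]
        ring))
      (fun x y y' => Subtype.ext (by
        simp only [map_add, mul_add, AddMemClass.coe_add]; ring))
      (fun c x y => Subtype.ext (by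
        show θ * B x ((T ^ k) ((c : F) • y)) + σ (θ * B x ((T ^ k) ((c : F) • y))) = (c : F) * _
        simp only [map_smul, smul_eq_mul, (hmem (c : F)).mp c.2, map_mul]
        ring))
  have hrk : 2 * g.natDegree < finrank F₀ (Y.restrictScalars F₀) := by
    have h2 : 2 ≤ finrank F₀ F := by
      by_contra hc
      push Not at hc
      have hpos : 0 < finrank F₀ F := Module.finrank_pos
      obtain ⟨c, hc'⟩ := exists_smul_eq_of_finrank_eq_one (K := F₀) (show finrank F₀ F = 1 by omega) one_ne_zero θ₁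
      refine hθ₁ ?_
      rw [← hc', Subfield.smul_def, smul_eq_mul, mul_one]
      exact (hmem _).mp c.2
    have h3 : finrank F₀ (Y.restrictScalars F₀) = finrank F₀ F * finrank F Y :=
      (Module.finrank_mul_finrank F₀ F Y).symm
    have := Nat.mul_le_mul_right (finrank F Y) h2
    omega
  obtain ⟨x, hx, hx0, hb⟩ := exists_common_zero (Y.restrictScalars F₀) β hrk
  have hs : ∀ k, k ≤ l → B x ((T ^ k) x) = 0 := fun k hk => by
    rcases Nat.eq_zero_or_pos k with rfl | hk0
    · have h0 := congrArg Subtype.val (hb ⟨0, by omega⟩)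
      simp only [β, LinearMap.mk₂_apply, if_true, ZeroMemClass.coe_zero] at h0
      rw [show (0 + 1) / 2 = 0 from rfl, map_mul, ← H.symm, pow_zero, Module.End.one_apply, ← add_mul] at h0
      rw [pow_zero, Module.End.one_apply]
      exact (mul_eq_zero.mp h0).resolve_left hθ₀
    · have ho := congrArg Subtype.val (hb ⟨2 * k - 1, by omega⟩)
      have he := congrArg Subtype.val (hb ⟨2 * k, by omega⟩)
      simp only [β, LinearMap.mk₂_apply, ZeroMemClass.coe_zero, if_neg (show 2 * k - 1 ≠ 0 by omega), map_one,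
        if_neg (show 2 * k ≠ 0 by omega), if_pos (show Odd (2 * k - 1) from ⟨k - 1, by omega⟩),
        if_neg (Nat.not_odd_iff_even.mpr (even_two_mul k)), show (2 * k - 1 + 1) / 2 = k by omega,
        show (2 * k + 1) / 2 = k by omega, one_mul, map_mul] at ho he
      have : (θ₁ - σ θ₁) * B x ((T ^ k) x) = 0 := by linear_combination he - σ θ₁ * ho
      exact (mul_eq_zero.mp this).resolve_left (sub_ne_zero.mpr (Ne.symm hθ₁))
  have hlN : l ≤ l * N := Nat.le_mul_of_pos_right l h.pos
  have hlN1 : T ^ (l * N) = 1 := by rw [mul_comm, pow_mul, h.per, one_pow]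
  have hall := window (a := l * N - l) hgm h (show aeval T g x = 0 from LinearMap.mem_ker.mp hx.2) fun k hk => by
    rcases le_or_gt k l with hkl | hkl
    · rw [← h.pow (l - k), ← Module.End.mul_apply, ← pow_add, show l - k + (l * N - l + k) = l * N by omega,
        hlN1, Module.End.one_apply, H.symm, hs _ (by omega), map_zero]
    · rw [show l * N - l + k = k - l + l * N by omega, h.periodic, hs _ (by omega)]
  refine hx0 ?_
  have h1 := hno (cyc T x) (cyc_le hU hx.1) (inv_cyc x)
    (ts_cyc (ok := fun _ => True) trivial (fun _ _ _ _ _ => trivial) (fun _ _ _ => trivial) (fun _ _ => trivial) h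
      trivial hall).2
  exact (Submodule.mem_bot F).mp (h1 ▸ mem_cyc x)

/-- The kernel of a factor which is not self-conjugate is totally isotropic. -/
theorem ker_ts (H : Herm q B) {r : ℕ} (h : PerIso B T r) {g : F[X]} (hgi : Irreducible g)
    (hrev : ¬ g ∣ (g.map σ).reverse) {x y : V} (hx : aeval T g x = 0) (hy : aeval T g y = 0) : B x y = 0 := by
  obtain ⟨u, w, huw⟩ := hgi.coprime_iff_not_dvd.mpr hrev
  set z := aeval T w x
  have hz : aeval T (g.map σ).reverse z = x := by
    have h1 := congrArg (fun P => aeval T P x) huw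
    simp only [map_add, map_mul, map_one, LinearMap.add_apply, Module.End.mul_apply, Module.End.one_apply, hx,
      map_zero, zero_add] at h1
    rw [← Module.End.mul_apply, ← map_mul, mul_comm, map_mul, Module.End.mul_apply]
    exact h1
  set i := g.natDegree with hi
  set y' := (T ^ (i * (r - 1))) y
  have hy' : aeval T g y' = 0 := LinearMap.mem_ker.mp ((inv_ker g).pow _ y (LinearMap.mem_ker.mpr hy))
  have hyy : (T ^ i) y' = y := by
    rw [← Module.End.mul_apply, ← pow_add, show i + i * (r - 1) = r * i by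
      obtain ⟨k, hk⟩ : ∃ k, r = k + 1 := ⟨r - 1, by have := h.pos; omega⟩
      rw [hk, Nat.add_sub_cancel]; ring, pow_mul, h.per, one_pow, Module.End.one_apply]
  clear_value y'
  have hdeg : (g.map σ).natDegree = i := natDegree_map _
  rw [← hz, ← hyy, aeval_eq_sum_range' (Nat.lt_succ_of_le (hdeg ▸ reverse_natDegree_le (g.map σ))),
    LinearMap.sum_apply, map_sum, LinearMap.sum_apply]
  calc ∑ l ∈ Finset.range (i + 1), B (((g.map σ).reverse.coeff l • T ^ l) z) ((T ^ i) y')
      = ∑ l ∈ Finset.range (i + 1), g.coeff (i - l) * B z ((T ^ (i - l)) y') := by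
        refine Finset.sum_congr rfl fun l hl => ?_
        have hl' : l ≤ i := Nat.le_of_lt_succ (Finset.mem_range.mp hl)
        rw [LinearMap.smul_apply, LinearMap.map_smulₛₗ, LinearMap.smul_apply, smul_eq_mul, Polynomial.coeff_reverse,
          hdeg, Polynomial.revAt_le hl', coeff_map, H.invol]
        conv_lhs => rw [show (T ^ i) y' = (T ^ l) ((T ^ (i - l)) y') by
          rw [← Module.End.mul_apply, ← pow_add, Nat.add_sub_cancel' hl'], h.pow]
    _ = ∑ j ∈ Finset.range (i + 1), g.coeff j * B z ((T ^ j) y') := by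
        rw [← Finset.sum_range_reflect (fun j => g.coeff j * B z ((T ^ j) y')) (i + 1)]
        refine Finset.sum_congr rfl fun l hl => ?_
        rw [Nat.add_sub_cancel]
    _ = B z (aeval T g y') := by
        rw [aeval_eq_sum_range, LinearMap.sum_apply, map_sum]
        simp [hi]
    _ = 0 := by rw [hy', map_zero]

section Roots

variable {p r : ℕ} [Fact p.Prime] [CharP F p] [Fact r.Prime]

/-- No factor is self-conjugate unless the order of `-q` is that of `q²`. -/
theorem not_dvd_conj (H : Herm q B) (hrp : r ≠ p)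
    (hne : (-(q : ZMod r)) ^ orderOf (Fintype.card F : ZMod r) ≠ 1) {g : F[X]}
    (hgi : Irreducible g) (hgd : g ∣ geom F r) : ¬ g ∣ (g.map σ).reverse := by
  intro hrev
  have : Fact (Irreducible g) := ⟨hgi⟩
  have : FiniteDimensional F (AdjoinRoot g) := (AdjoinRoot.powerBasis hgi.ne_zero).finite
  have : Finite (AdjoinRoot g) := Module.finite_of_finite F
  set a := AdjoinRoot.root g
  have hga : aeval a g = 0 := by rw [AdjoinRoot.aeval_eq, AdjoinRoot.mk_self]
  have har : a ^ r = 1 := by
    obtain ⟨Q, hQ⟩ := hgd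
    have : aeval a (geom F r * (X - 1)) = 0 := by rw [hQ, map_mul, map_mul, hga, zero_mul, zero_mul]
    rw [geom, geom_sum_mul] at this
    simpa [sub_eq_zero] using this
  have ha1 : a ≠ 1 := fun e => by
    obtain ⟨Q, hQ⟩ := hgd
    have h1 : aeval a (geom F r) = 0 := by rw [hQ, map_mul, hga, zero_mul]
    rw [e] at h1
    refine CfsgLib.GLClassNumber.natCast_ne_zero_of_prime_ne (F := F) (p := p) (Fact.out : r.Prime) hrp
      ((algebraMap F (AdjoinRoot g)).injective ?_)
    simpa [geom] using h1
  have hord : orderOf a = r := orderOf_eq_prime har ha1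
  have hr1 := (Fact.out : r.Prime).one_le
  have hinv : a ^ (r - 1) * a = 1 := by rw [← pow_succ, Nat.sub_add_cancel hr1, har]
  let _ : Invertible (a ^ (r - 1)) := ⟨a, (mul_comm _ _).trans hinv, hinv⟩
  have h1 : aeval (a ^ (r - 1)) (g.map σ) = 0 := by
    refine (Polynomial.eval₂_reverse_eq_zero_iff (algebraMap F (AdjoinRoot g)) (a ^ (r - 1)) (g.map σ)).mp ?_
    show aeval a (g.map σ).reverse = 0
    rw [AdjoinRoot.aeval_eq, AdjoinRoot.mk_eq_zero]
    exact hrev
  have : CharP (AdjoinRoot g) p :=
    charP_of_injective_algebraMap (algebraMap F (AdjoinRoot g)).injective p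
  obtain ⟨k, hk⟩ : ∃ k, q = p ^ k := by
    obtain ⟨d, hp, hd⟩ := FiniteField.card F p
    obtain ⟨k, -, hk⟩ := (Nat.dvd_prime_pow hp).mp (show q ∣ p ^ (d : ℕ) from ⟨q, by rw [← hd, H.card, sq]⟩)
    exact ⟨k, hk⟩
  have h2 : aeval (a ^ ((r - 1) * q)) g = 0 := by
    have h3 := congrArg (· ^ q) h1
    simp only [zero_pow (show q ≠ 0 by have := H.one_lt; omega)] at h3
    rw [aeval_eq_sum_range, natDegree_map, hk, sum_pow_char_pow, ← hk] at h3
    rw [aeval_eq_sum_range, ← h3]
    refine Finset.sum_congr rfl fun l _ => ?_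
    rw [Algebra.smul_def, Algebra.smul_def, mul_pow, ← map_pow, coeff_map, ← H.frob, H.invol, ← pow_mul, ← pow_mul,
      ← pow_mul]
    congr 2
    ring
  let φ : AdjoinRoot g →ₐ[F] AdjoinRoot g :=
    AdjoinRoot.liftAlgHom g (Algebra.ofId F (AdjoinRoot g)) (a ^ ((r - 1) * q)) h2
  obtain ⟨s, hs⟩ := (FiniteField.bijective_frobeniusAlgHom_pow F (AdjoinRoot g)).2 φ
  have h4 : a ^ (Fintype.card F ^ (s : ℕ)) = a ^ ((r - 1) * q) := by
    have h5 := DFunLike.congr_fun hs a
    rw [show φ a = a ^ ((r - 1) * q) from AdjoinRoot.liftAlgHom_root g _ _ h2] at h5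
    rw [← h5]
    simp only [AlgHom.coe_pow, FiniteField.coe_frobeniusAlgHom, pow_iterate]
  rw [(orderOf_pos_iff.mp (hord.symm ▸ (Fact.out : r.Prime).pos)).pow_eq_pow_iff_modEq, hord, ← ZMod.natCast_eq_natCast_iff, Nat.cast_pow, Nat.cast_mul,
    Nat.cast_sub hr1, ZMod.natCast_self, Nat.cast_one, zero_sub, neg_one_mul] at h4
  refine hne ?_
  rw [← h4, ← pow_mul, mul_comm, pow_mul, pow_orderOf_eq_one, one_pow]

/-- Totally isotropic invariant parts of the moved space. -/
theorem exists_ts_moved (H : Herm q B) (hrp : r ≠ p) (h : PerIso B T r) :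
    ∃ W ≤ LinearMap.ker (aeval T (geom F r)), Inv T W ∧ (∀ x ∈ W, ∀ y ∈ W, B x y = 0) ∧
      finrank F (LinearMap.ker (aeval T (geom F r))) ≤ 2 * finrank F W +
        (if (-(q : ZMod r)) ^ orderOf (Fintype.card F : ZMod r) = 1 ∧ Odd (orderOf (Fintype.card F : ZMod r))
          then r - 1 else if (-(q : ZMod r)) ^ orderOf (Fintype.card F : ZMod r) = 1 then finrank F V else 0) := by
  classical
  set b := orderOf (Fintype.card F : ZMod r)
  set R := LinearMap.ker (aeval T (geom F r))
  obtain ⟨g, -, hg, hprod⟩ := exists_factors (F := F) (p := p) (r := r) hrp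
  obtain ⟨W, hW, hWT, hWts, hWd⟩ := exists_max_ts h (fun _ => True) trivial (fun _ _ _ _ _ => trivial) R (inv_ker _)
    (if (-(q : ZMod r)) ^ b = 1 ∧ Odd b then r - 1 else if (-(q : ZMod r)) ^ b = 1 then finrank F V else 0)
    fun U hUR hUT hno => by
      have hno' : ∀ X ≤ U, Inv T X → (∀ x ∈ X, ∀ y ∈ X, B x y = 0) → X = ⊥ :=
        fun X hX hXT hXts => hno X hX hXT ⟨fun _ _ => trivial, hXts⟩
      have h1 := finrank_ker_prod_le (T := T) hUT (Finset.univ.val.map g)
      rw [hprod, inf_eq_left.mpr hUR, Multiset.map_map] at h1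
      split_ifs with hs hs'
      · refine le_trans h1 ?_
        calc _ ≤ ((Finset.univ.val : Multiset (Fin ((r - 1) / b))).map fun _ => b).sum :=
              Multiset.sum_map_le_sum_map _ _ fun a _ => by
                have := comp_le H h hUT hno' (hg a).2.1 (by rw [(hg a).2.2.1]; exact hs.2)
                rwa [(hg a).2.2.1] at this
          _ ≤ r - 1 := by
              simp only [Multiset.map_const', Multiset.sum_replicate, Finset.card_val, Finset.card_univ,
                Fintype.card_fin, smul_eq_mul]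
              exact Nat.div_mul_le_self _ _
      · exact Submodule.finrank_le U
      · refine le_trans h1 (le_of_eq ?_)
        refine Multiset.sum_eq_zero fun x hx => ?_
        obtain ⟨a, -, rfl⟩ := Multiset.mem_map.mp hx
        show finrank F ↥(U ⊓ LinearMap.ker (aeval T (g a))) = 0
        rw [hno' _ inf_le_left (hUT.inf (inv_ker _)) fun x hx y hy =>
          ker_ts H h (hg a).1 (not_dvd_conj H hrp hs' (hg a).1 (hg a).2.2.2) (LinearMap.mem_ker.mp hx.2)
            (LinearMap.mem_ker.mp hy.2), finrank_bot]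
  exact ⟨W, hW, hWT, hWts.2, hWd⟩

end Roots

/-- Totally isotropic subspaces of a fixed space. -/
theorem exists_ts_fixed (H : Herm q B) {r : ℕ} (h : PerIso B T r) {m : ℕ}
    (hm : 2 * m ≤ finrank F (LinearMap.ker (aeval T (X - C (1 : F))))) :
    ∃ W ≤ LinearMap.ker (aeval T (X - C (1 : F))), Inv T W ∧ finrank F W = m ∧ ∀ x ∈ W, ∀ y ∈ W, B x y = 0 := by
  set A := LinearMap.ker (aeval T (X - C (1 : F)))
  obtain ⟨W, hW, -, hWts, hWd⟩ := exists_max_ts h (fun _ => True) trivial (fun _ _ _ _ _ => trivial) A (inv_ker _) 1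
    fun U hUA hUT hno => by
      have := comp_le H h hUT (fun X hX hXT hXts => hno X hX hXT ⟨fun _ _ => trivial, hXts⟩)
        (monic_X_sub_C (1 : F)) (by rw [natDegree_X_sub_C]; exact odd_one)
      rwa [natDegree_X_sub_C, inf_eq_left.mpr hUA] at this
  obtain ⟨Y, hY, hYd⟩ : ∃ Y ≤ W, finrank F Y = m := by
    let b := Module.finBasis F W
    refine ⟨Submodule.span F (Set.range fun i : Fin m => (b ⟨i, by omega⟩ : V)), Submodule.span_le.mpr ?_, ?_⟩
    · rintro _ ⟨i, rfl⟩; exact (b _).2
    · rw [finrank_span_eq_card, Fintype.card_fin]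
      exact (b.linearIndependent.comp (fun i : Fin m => (⟨i, by omega⟩ : Fin (finrank F W)))
        fun i j e => Fin.ext (by simpa using congrArg Fin.val e)).map' W.subtype W.ker_subtype
  refine ⟨Y, hY.trans hW, fun x hx => ?_, hYd, fun x hx y hy => hWts.2 x (hY hx) y (hY hy)⟩
  rw [show T x = x by simpa [A, sub_eq_zero] using hW (hY hx)]
  exact hx

end CfsgLib.HermIso
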