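/-
Invariant totally isotropic subspaces of a given dimension.
-/
import Cfsg.Agent.Lib.HermIso.Basic

set_option autoImplicit false
set_option linter.unusedSectionVars false
set_option maxHeartbeats 1000000

namespace CfsgLib.HermIso

open Polynomial Module CfsgLib.PrimeIso CfsgLib.MaxSub.Elusive

universe u v

variable {F : Type u} [Field F] [Fintype F] {σ : F →+* F} {V : Type v} [AddCommGroup V] [Module F V]
  [FiniteDimensional F V] {q : ℕ} {B : V →ₛₗ[σ] V →ₗ[F] F} {T : Module.End F V}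
  {p r : ℕ} [Fact p.Prime] [CharP F p] [Fact r.Prime]

omit [FiniteDimensional F V] in
/-- The orders of `q²` and of `-q`. -/
theorem orders (hF : Fintype.card F = q ^ 2) (hrp : r ≠ p) {b c : ℕ}
    (hb : b = orderOf (Fintype.card F : ZMod r)) (hc : c = orderOf (-(q : ZMod r))) :
    0 < b ∧ 0 < c ∧ ((c = b ∧ Odd b ∧ (-(q : ZMod r)) ^ b = 1) ∨ (c = 2 * b ∧ (-(q : ZMod r)) ^ b ≠ 1)) := by
  have hbpos : 0 < b := hb ▸ order_pos (F := F) (p := p) (r := r) hrp
  have hsq : (Fintype.card F : ZMod r) = (-(q : ZMod r)) ^ 2 := by rw [hF, Nat.cast_pow, neg_sq]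
  have hcpos : 0 < c := by
    rw [hc, orderOf_pos_iff, isOfFinOrder_iff_pow_eq_one]
    refine ⟨2 * b, by omega, ?_⟩
    rw [pow_mul, ← hsq, hb, pow_orderOf_eq_one]
  rw [hsq, orderOf_pow' _ two_ne_zero, ← hc] at hb
  refine ⟨hbpos, hcpos, ?_⟩
  rcases Nat.even_or_odd c with ⟨k, hk⟩ | ho
  · rw [Nat.gcd_eq_right ⟨k, by omega⟩] at hb
    refine Or.inr ⟨by omega, fun e => ?_⟩
    have := Nat.le_of_dvd hbpos (hc ▸ orderOf_dvd_of_pow_eq_one e)
    omega
  · rw [(Nat.coprime_two_right.mpr ho).gcd_eq_one, Nat.div_one] at hb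
    exact Or.inl ⟨hb.symm, hb ▸ ho, by rw [hb, hc, pow_orderOf_eq_one]⟩

/-- The moved part: its dimension and an isotropic half. -/
theorem moved_data (H : Herm q B) (hrp : r ≠ p) (h : PerIso B T r) {b c : ℕ}
    (hb : b = orderOf (Fintype.card F : ZMod r)) (hc : c = orderOf (-(q : ZMod r))) :
    ∃ E w, finrank F (LinearMap.ker (aeval T (geom F r))) = E * c ∧
      (c = b → E ≤ 2 * w + (r - 1) / b) ∧ (c = 2 * b → E = w) ∧
      ∀ a ≤ w, ∃ W ≤ LinearMap.ker (aeval T (geom F r)), Inv T W ∧ finrank F W = a * b ∧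
        ∀ x ∈ W, ∀ y ∈ W, B x y = 0 := by
  obtain ⟨hbpos, hcpos, hcase⟩ := orders (p := p) H.card hrp hb hc
  obtain ⟨W, hWR, hWT, hWts, hle⟩ := exists_ts_moved (p := p) H hrp h
  rw [← hb] at hle
  set R := LinearMap.ker (aeval T (geom F r))
  have hdims : ∀ U ≤ R, Inv T U → b ∣ finrank F U ∧ ∀ k, k * b ≤ finrank F U → ∃ X ≤ U, Inv T X ∧ finrank F X = k * b :=
    fun U hUR hUT => dims_of_ker (fun g h1 h2 h3 => hb ▸ geom_degree (p := p) (Fact.out : r.Prime) hrp h1 h2 h3) hUT hUR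
  obtain ⟨⟨w, hw⟩, hex⟩ := hdims W hWR hWT
  obtain ⟨⟨E, hE⟩, -⟩ := hdims R le_rfl (inv_ker _)
  have hge : 2 * finrank F W ≤ finrank F R := two_mul_le H hWR hWts (nds_parts H h).2
  have hsub : ∀ a ≤ w, ∃ X ≤ R, Inv T X ∧ finrank F X = a * b ∧ ∀ x ∈ X, ∀ y ∈ X, B x y = 0 := fun a ha => by
    obtain ⟨X, hXW, hXT, hXd⟩ := hex a (by rw [hw, mul_comm b w]; exact Nat.mul_le_mul_right b ha)
    exact ⟨X, hXW.trans hWR, hXT, hXd, fun x hx y hy => hWts x (hXW hx) y (hXW hy)⟩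
  rcases hcase with ⟨hcb, hodd, hpow⟩ | ⟨hcb, hpow⟩
  · rw [if_pos ⟨hpow, hodd⟩] at hle
    refine ⟨E, w, by rw [hE, hcb, mul_comm], fun _ => ?_, fun h2 => by omega, hsub⟩
    have ht : (r - 1) / b * b = r - 1 := Nat.div_mul_cancel (hb ▸ order_dvd_pred (F := F) hrp)
    refine Nat.le_of_mul_le_mul_right (c := b) ?_ hbpos
    rw [add_mul, ht, show 2 * w * b = 2 * (b * w) by ring, ← hw, show E * b = b * E by ring, ← hE]
    exact hle
  · rw [if_neg (fun e => hpow e.1), if_neg hpow] at hle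
    exact ⟨w, w, by rw [hcb, show w * (2 * b) = 2 * (b * w) by ring, ← hw]; omega, fun h1 => by omega,
      fun _ => rfl, hsub⟩

/-- An invariant totally isotropic subspace of a given dimension. -/
theorem exists_ts (H : Herm q B) (hrp : r ≠ p) (h : PerIso B T r) {n m b c : ℕ} (hn : finrank F V = n)
    (hb : b = orderOf (Fintype.card F : ZMod r)) (hc : c = orderOf (-(q : ZMod r))) (hmn : 2 * m ≤ n)
    (h1 : 2 * (m % b) ≤ n % c) (h2 : c = b → (r - 1) / b + 2 * (m / b) ≤ n / b) :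
    ∃ W, Inv T W ∧ finrank F W = m ∧ ∀ x ∈ W, ∀ y ∈ W, B x y = 0 := by
  obtain ⟨hbpos, hcpos, hcase⟩ := orders (p := p) H.card hrp hb hc
  obtain ⟨E, w, hR, hself, hnon, hsub⟩ := moved_data (p := p) H hrp h hb hc
  obtain ⟨hsum, -⟩ := finrank_split h (inv_top (T := T))
  rw [top_inf_eq, top_inf_eq, hR, finrank_top, hn] at hsum
  set a := min (m / b) w with ha
  obtain ⟨X, hXR, hXT, hXd, hXts⟩ := hsub a (min_le_right _ _)
  have ham : a * b ≤ m := (Nat.mul_le_mul_right b (min_le_left _ _)).trans (Nat.div_mul_le_self m b)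
  have hrest : 2 * (m - a * b) + E * c ≤ n := by
    have e2 := Nat.div_add_mod' m b
    rcases le_total (m / b) w with hw | hw
    · rw [ha, min_eq_left hw, show m - m / b * b = m % b by omega]
      have h3 : E * c ≤ n / c * c :=
        Nat.mul_le_mul_right c ((Nat.le_div_iff_mul_le hcpos).mpr (by omega))
      have := Nat.div_add_mod' n c
      omega
    · rw [ha, min_eq_right hw]
      have hwm : w * b ≤ m := (Nat.mul_le_mul_right b hw).trans (Nat.div_mul_le_self m b)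
      rcases hcase with ⟨hcb, -⟩ | ⟨hcb, -⟩
      · subst hcb
        have h3 := Nat.mul_le_mul_right c (hself rfl)
        have h4 := Nat.mul_le_mul_right c (h2 rfl)
        have := Nat.div_add_mod' n c
        rw [add_mul, mul_assoc] at h3 h4
        omega
      · rw [hnon hcb, hcb, show w * (2 * b) = 2 * (w * b) by ring]
        omega
  obtain ⟨Y, hYA, hYT, hYd, hYts⟩ := exists_ts_fixed H h (m := m - a * b) (by omega)
  refine ⟨X ⊔ Y, hXT.sup hYT, ?_, fun x hx y hy => ?_⟩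
  · have h3 := Submodule.finrank_sup_add_finrank_inf_eq X Y
    rw [(Submodule.eq_bot_iff (X ⊓ Y)).mpr fun z hz => (fix_perp h (hYA hz.2) (hXR hz.1)).2 rfl, finrank_bot, hXd, hYd] at h3
    omega
  · obtain ⟨x₁, hx₁, x₂, hx₂, rfl⟩ := Submodule.mem_sup.mp hx
    obtain ⟨y₁, hy₁, y₂, hy₂, rfl⟩ := Submodule.mem_sup.mp hy
    simp only [map_add, LinearMap.add_apply, hXts x₁ hx₁ y₁ hy₁, hYts x₂ hx₂ y₂ hy₂,
      (fix_perp h (hYA hx₂) (hXR hy₁)).1, H.refl _ _ (fix_perp h (hYA hy₂) (hXR hx₁)).1, add_zero]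

/-- An element whose `r`th power is a scalar that is no `r`th power. -/
theorem exists_ts_block (H : Herm q B) {z : F} (hz : z ^ (q + 1) = 1) (hpow : T ^ r = z • 1)
    (hiso : ∀ x y, B (T x) (T y) = B x y) (hnp : ∀ a : F, a ^ r ≠ z) (hrp : r ≠ p) (hr2 : r ≠ 2) {n m : ℕ}
    (hn : finrank F V = n) (hmn : 2 * m ≤ n) (hrm : r ∣ m) :
    ∃ W, Inv T W ∧ finrank F W = m ∧ ∀ x ∈ W, ∀ y ∈ W, B x y = 0 := by
  classical
  have hr : r.Prime := Fact.out
  have hper : T ^ (r * (q + 1)) = 1 := by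
    rw [pow_mul, hpow, _root_.smul_pow, one_pow, hz, one_smul]
  have hN : ((r * (q + 1) : ℕ) : F) ≠ 0 := by
    rw [Nat.cast_mul]
    refine mul_ne_zero (CfsgLib.GLClassNumber.natCast_ne_zero_of_prime_ne (p := p) hr hrp) fun e => ?_
    obtain ⟨d, hp, hd⟩ := FiniteField.card F p
    have hpq : p ∣ q := (Fact.out : p.Prime).dvd_of_dvd_pow (H.card ▸ hd ▸ dvd_pow_self p d.ne_zero)
    have hp1 := (Nat.dvd_add_right hpq).mp ((CharP.cast_eq_zero_iff F p (q + 1)).mp e)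
    exact (Fact.out : p.Prime).not_dvd_one hp1
  have h : PerIso B T (r * (q + 1)) := ⟨H.refl, hiso, hper, hN⟩
  set g : F[X] := X ^ r - C z
  have hgm : g.Monic := monic_X_pow_sub_C z hr.ne_zero
  have hgd : g.natDegree = r := natDegree_X_pow_sub_C
  have hgi : Irreducible g := X_pow_sub_C_irreducible_of_prime hr hnp
  have hker : ∀ U : Submodule F V, U ≤ LinearMap.ker (aeval T g) := fun U x _ => by
    rw [LinearMap.mem_ker, map_sub, map_pow, aeval_X, aeval_C, hpow, Module.algebraMap_end_eq_smul_id]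
    show z • (1 : Module.End F V) x - z • x = 0
    rw [Module.End.one_apply, sub_self]
  have hdims : ∀ U : Submodule F V, Inv T U → r ∣ finrank F U ∧
      ∀ k, k * r ≤ finrank F U → ∃ X ≤ U, Inv T X ∧ finrank F X = k * r := fun U hU =>
    dims_of_ker (P := g) (fun g' h1 h2 h3 => by
      rw [← hgd]; exact natDegree_eq_of_degree_eq (degree_eq_degree_of_associated (h1.associated_of_dvd hgi h3)))
      hU (hker U)
  obtain ⟨W, -, hWT, hWts, hWd⟩ := exists_max_ts h (fun _ => True) trivial (fun _ _ _ _ _ => trivial) ⊤ inv_top r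
    fun U _ hUT hno => by
      have := comp_le H h hUT (fun X hX hXT hXts => hno X hX hXT ⟨fun _ _ => trivial, hXts⟩) hgm
        (by rw [hgd]; exact hr.odd_of_ne_two hr2)
      rwa [hgd, inf_eq_left.mpr (hker U)] at this
  obtain ⟨⟨e, he⟩, -⟩ := hdims ⊤ inv_top
  rw [finrank_top, hn] at he hWd
  obtain ⟨⟨w, hw⟩, hex⟩ := hdims W hWT
  obtain ⟨k, rfl⟩ := hrm
  have hk : 2 * k ≤ e := Nat.le_of_mul_le_mul_left (show r * (2 * k) ≤ r * e by rw [← he]; linarith) hr.pos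
  have he' : e ≤ 2 * w + 1 := Nat.le_of_mul_le_mul_left (show r * e ≤ r * (2 * w + 1) by
    rw [← he]; rw [hw] at hWd; linarith) hr.pos
  obtain ⟨Y, hY, hYT, hYd⟩ := hex k (by rw [hw, mul_comm k r]; exact Nat.mul_le_mul_left r (by omega))
  exact ⟨Y, hYT, by rw [hYd, mul_comm], fun x hx y hy => hWts.2 x (hY hx) y (hY hy)⟩

end CfsgLib.HermIso
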