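/-
Block-diagonal unitary elements of prime period.
-/
import Cfsg.Agent.Lib.HermIso.Fixed
import Cfsg.Agent.Lib.UnitaryBasic
import Cfsg.Agent.Lib.UnitaryOrder
import Cfsg.Agent.Lib.IsotropicHerm
import Cfsg.Agent.Lib.ExtOrth.Bad

set_option autoImplicit false
set_option linter.unusedSectionVars false
set_option maxHeartbeats 1000000

namespace CfsgLib.HermIso

open Polynomial Module CfsgLib.PrimeIso CfsgLib.MaxSub.Elusive
open scoped Matrix MatrixGroups

universe u

variable {F : Type u} [Field F] [Fintype F] {q n : ℕ}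

/-- The standard Hermitian form as a sesquilinear map. -/
theorem exists_herm (hF : Fintype.card F = q ^ 2) (n : ℕ) :
    ∃ (σ : F →+* F) (B : (Fin n → F) →ₛₗ[σ] (Fin n → F) →ₗ[F] F), Herm q B ∧
      ∀ x y, B x y = Cfsg.hermForm n F q y x := by
  obtain ⟨σ, B, -, -, hσ, hS, hnd, hB⟩ := CfsgLib.IsotropicCount.herm_sesq hF n
  exact ⟨σ, B, ⟨hF, hσ, fun x y => (hS.eq x y).symm, hnd.1⟩, hB⟩

theorem cast_ne_zero_add_one {p : ℕ} [Fact p.Prime] [CharP F p] (hF : Fintype.card F = q ^ 2) :
    ((q + 1 : ℕ) : F) ≠ 0 := fun e => by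
  obtain ⟨d, hp, hd⟩ := FiniteField.card F p
  have hpq : p ∣ q := (Fact.out : p.Prime).dvd_of_dvd_pow (hF ▸ hd ▸ dvd_pow_self p d.ne_zero)
  exact (Fact.out : p.Prime).not_dvd_one ((Nat.dvd_add_right hpq).mp ((CharP.cast_eq_zero_iff F p (q + 1)).mp e))

variable {p r : ℕ} [Fact p.Prime] [CharP F p] [Fact r.Prime]

theorem gu_iso {σ : F →+* F} {B : (Fin n → F) →ₛₗ[σ] (Fin n → F) →ₗ[F] F}
    (hB : ∀ x y, B x y = Cfsg.hermForm n F q y x) {y : GL (Fin n) F} (hy : y ∈ Cfsg.GU n F q) (u v : Fin n → F) :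
    B (Matrix.toLin' (y : Matrix (Fin n) (Fin n) F) u) (Matrix.toLin' (y : Matrix (Fin n) (Fin n) F) v) = B u v := by
  rw [hB, hB, Matrix.toLin'_apply, Matrix.toLin'_apply]
  exact (CfsgLib.UnitaryBasic.mem_GU y).mp hy v u

theorem perIso_gu {σ : F →+* F} {B : (Fin n → F) →ₛₗ[σ] (Fin n → F) →ₗ[F] F} (H : Herm q B)
    (hB : ∀ x y, B x y = Cfsg.hermForm n F q y x) (hrp : r ≠ p) {y : GL (Fin n) F} (hy : y ∈ Cfsg.GU n F q)
    (hyr : y ^ r = 1) : PerIso B (Matrix.toLin' (y : Matrix (Fin n) (Fin n) F)) r := by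
  refine ⟨H.refl, gu_iso hB hy, ?_, CfsgLib.GLClassNumber.natCast_ne_zero_of_prime_ne (p := p) Fact.out hrp⟩
  have : Matrix.toLinAlgEquiv' ((y : Matrix (Fin n) (Fin n) F) ^ r) = 1 := by
    rw [← Units.val_pow_eq_pow_val, hyr, Units.val_one, map_one]
  rwa [map_pow] at this

/-- The determinant of a unitary element of period `r` prime to `q + 1`. -/
theorem det_eq_one (hF : Fintype.card F = q ^ 2) (hrq : Nat.Coprime r (q + 1)) {y : GL (Fin n) F}
    (hy : y ∈ Cfsg.GU n F q) (hyr : y ^ r = 1) : (y : Matrix (Fin n) (Fin n) F).det = 1 := by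
  have h1 : Matrix.GeneralLinearGroup.det y ^ r = 1 := by rw [← map_pow, hyr, map_one]
  have h2 := CfsgLib.UnitaryBasic.det_pow hF hy
  have h3 := pow_gcd_eq_one.mpr ⟨h1, h2⟩
  rw [hrq.gcd_eq_one, pow_one] at h3
  exact congrArg Units.val h3

omit [Fintype F] in
theorem aeval_transfer {V W : Type*} [AddCommGroup V] [Module F V] [AddCommGroup W] [Module F W]
    (L : V →ₗ[F] W) (T : Module.End F V) (S : Module.End F W) (h : ∀ v, L (T v) = S (L v)) (g : F[X]) :
    ∀ v, L (aeval T g v) = aeval S g (L v) := by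
  induction g using Polynomial.induction_on' with
  | add f g hf hg => intro v; simp [hf, hg]
  | monomial l a =>
    intro v
    simp only [aeval_monomial, Module.End.mul_apply, Module.algebraMap_end_apply, map_smul]
    congr 1
    induction l with
    | zero => rfl
    | succ l ih => rw [pow_succ', pow_succ', Module.End.mul_apply, Module.End.mul_apply, h, ih]

section Blocks

variable {c E k : ℕ} (e : Fin n ≃ (Fin c × Fin E) ⊕ Fin k) (X : Fin E → GL (Fin c) F)

/-- The block-diagonal matrix. -/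
def blockMat : Matrix (Fin n) (Fin n) F :=
  (Matrix.fromBlocks (Matrix.blockDiagonal fun s => (X s : Matrix (Fin c) (Fin c) F)) 0 0 1).submatrix e e

/-- The coordinates of one block. -/
def part (s : Fin E) : (Fin n → F) →ₗ[F] (Fin c → F) := LinearMap.funLeft F F fun a => e.symm (Sum.inl (a, s))

/-- The remaining coordinates. -/
def tail : (Fin n → F) →ₗ[F] (Fin k → F) := LinearMap.funLeft F F fun j => e.symm (Sum.inr j)

/-- One block as a subspace. -/
def ins (s : Fin E) : (Fin c → F) →ₗ[F] (Fin n → F) where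
  toFun u i := Sum.elim (fun a => if a.2 = s then u a.1 else 0) (fun _ => 0) (e i)
  map_add' u w := funext fun i => by
    rcases h : e i with a | j
    · by_cases h1 : a.2 = s <;> simp [h, h1]
    · simp [h]
  map_smul' t u := funext fun i => by
    rcases h : e i with a | j
    · by_cases h1 : a.2 = s <;> simp [h, h1]
    · simp [h]

omit [Fintype F] in
theorem ext_parts {v w : Fin n → F} (h : ∀ s, part e s v = part e s w) (h' : tail e v = tail e w) : v = w := by
  funext i
  obtain ⟨x, rfl⟩ := e.symm.surjective i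
  rcases x with ⟨a, s⟩ | j
  · exact congrFun (h s) a
  · exact congrFun h' j

omit [Fintype F] in
theorem part_mul (s : Fin E) (v : Fin n → F) :
    part e s (Matrix.toLin' (blockMat e X) v) = Matrix.toLin' (X s : Matrix (Fin c) (Fin c) F) (part e s v) := by
  classical
  funext a
  simp only [part, LinearMap.funLeft_apply, Matrix.toLin'_apply, blockMat, Matrix.mulVec, dotProduct]
  rw [← e.symm.sum_comp]
  simp [Fintype.sum_sum_type, Fintype.sum_prod_type, Matrix.blockDiagonal_apply]

omit [Fintype F] in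
theorem tail_mul (v : Fin n → F) : tail e (Matrix.toLin' (blockMat e X) v) = tail e v := by
  classical
  funext j
  simp only [tail, LinearMap.funLeft_apply, Matrix.toLin'_apply, blockMat, Matrix.mulVec, dotProduct]
  rw [← e.symm.sum_comp]
  simp [Fintype.sum_sum_type, Matrix.one_apply]

omit [Fintype F] in
theorem herm_parts (u v : Fin n → F) : Cfsg.hermForm n F q u v =
    (∑ s, Cfsg.hermForm c F q (part e s u) (part e s v)) + Cfsg.hermForm k F q (tail e u) (tail e v) := by
  simp only [Cfsg.hermForm, part, tail, LinearMap.funLeft_apply]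
  rw [← e.symm.sum_comp, Fintype.sum_sum_type, Fintype.sum_prod_type]
  congr 1
  exact Finset.sum_comm

omit [Fintype F] in
theorem block_det : (blockMat e X).det = ∏ s, (X s : Matrix (Fin c) (Fin c) F).det := by
  classical
  rw [blockMat, Matrix.det_submatrix_equiv_self, Matrix.det_fromBlocks_zero₂₁, Matrix.det_one, mul_one,
    Matrix.det_blockDiagonal]

omit [Fintype F] in
theorem part_ins (s t : Fin E) (u : Fin c → F) : part e t (ins e s u) = if t = s then u else 0 := by
  funext a
  by_cases h : t = s <;> simp [part, ins, h]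

omit [Fintype F] in
theorem tail_ins (s : Fin E) (u : Fin c → F) : tail e (ins e s u) = 0 := by
  funext j
  simp [tail, ins]

/-- The unitary element with the given blocks. -/
theorem exists_blocks (hX : ∀ s, X s ∈ Cfsg.GU c F q) (hXr : ∀ s, X s ^ r = 1)
    (hgeom : ∀ s, aeval (Matrix.toLin' (X s : Matrix (Fin c) (Fin c) F)) (geom F r) = 0) (hrp : r ≠ p) :
    ∃ y : GL (Fin n) F, y ∈ Cfsg.GU n F q ∧ y ^ r = 1 ∧ (y : Matrix (Fin n) (Fin n) F) = blockMat e X ∧
      finrank F (LinearMap.ker (aeval (Matrix.toLin' (y : Matrix (Fin n) (Fin n) F)) (Polynomial.X - C (1 : F)))) = k := by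
  classical
  set T := Matrix.toLin' (blockMat e X) with hT
  have hone : ∀ (l : ℕ) (s : Fin E) (v : Fin n → F),
      part e s ((T ^ l) v) = Matrix.toLin' ((X s ^ l : GL (Fin c) F) : Matrix (Fin c) (Fin c) F) (part e s v) :=
    fun l s => by
      induction l with
      | zero => intro v; simp
      | succ l ih =>
        intro v
        rw [pow_succ', Module.End.mul_apply, hT, part_mul, ← hT, ih, ← Matrix.toLin'_mul_apply, ← Units.val_mul,
          ← pow_succ']
  have htail : ∀ (l : ℕ) (v : Fin n → F), tail e ((T ^ l) v) = tail e v := fun l => by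
    induction l with
    | zero => intro v; simp
    | succ l ih => intro v; rw [pow_succ', Module.End.mul_apply, hT, tail_mul, ← hT, ih]
  have hTr : T ^ r = 1 := LinearMap.ext fun v => ext_parts e (fun s => by
    rw [hone, hXr s, Units.val_one, Matrix.toLin'_one]; rfl) (by rw [htail]; rfl)
  have hpow : blockMat e X ^ r = 1 := by
    have : Matrix.toLinAlgEquiv' (blockMat e X ^ r) = 1 := by rw [map_pow]; exact hTr
    exact Matrix.toLinAlgEquiv'.injective (this.trans (map_one _).symm)
  have hu : IsUnit (blockMat e X) := IsUnit.of_pow_eq_one hpow (Fact.out : r.Prime).ne_zero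
  refine ⟨hu.unit, ?_, Units.ext (by rw [Units.val_pow_eq_pow_val, IsUnit.unit_spec, hpow, Units.val_one]),
    hu.unit_spec, ?_⟩
  · refine (CfsgLib.UnitaryBasic.mem_GU _).mpr fun u v => ?_
    rw [hu.unit_spec, ← Matrix.toLin'_apply, ← Matrix.toLin'_apply, herm_parts e (Matrix.toLin' _ u),
      herm_parts e u, tail_mul, tail_mul]
    congr 1
    refine Finset.sum_congr rfl fun s _ => ?_
    rw [part_mul, part_mul, Matrix.toLin'_apply, Matrix.toLin'_apply]
    exact (CfsgLib.UnitaryBasic.mem_GU _).mp (hX s) _ _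
  · rw [hu.unit_spec, ← hT]
    let L := (tail (F := F) e).comp (LinearMap.ker (aeval T (Polynomial.X - C (1 : F)))).subtype
    have hfix : ∀ v, v ∈ LinearMap.ker (aeval T (Polynomial.X - C (1 : F))) ↔ T v = v := fun v => by
      simp [sub_eq_zero]
    have hinj : Function.Injective L := (injective_iff_map_eq_zero L).mpr fun v hv => by
      refine Subtype.ext (ext_parts e (fun s => ?_) (hv.trans (map_zero _).symm))
      have h1 := (hfix v).mp v.2
      have h3 : ∀ j : ℕ, (Matrix.toLin' (X s : Matrix (Fin c) (Fin c) F) ^ j) (part e s v) = part e s v := fun j => by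
        induction j with
        | zero => rfl
        | succ j ih => rw [pow_succ, Module.End.mul_apply, ← part_mul, ← hT, h1, ih]
      have h4 := LinearMap.congr_fun (hgeom s) (part e s v)
      simp only [geom, map_sum, map_pow, aeval_X, LinearMap.sum_apply, h3, Finset.sum_const, Finset.card_range,
        LinearMap.zero_apply, ← Nat.cast_smul_eq_nsmul F] at h4
      rw [Submodule.coe_zero, map_zero]
      exact (smul_eq_zero.mp h4).resolve_left
        (CfsgLib.GLClassNumber.natCast_ne_zero_of_prime_ne (p := p) Fact.out hrp)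
    have hsurj : Function.Surjective L := fun w => by
      refine ⟨⟨fun i => Sum.elim (fun _ => 0) w (e i), (hfix _).mpr (ext_parts e (fun s => ?_) (tail_mul e X _))⟩, ?_⟩
      · rw [hT, part_mul, show part e s (fun i => Sum.elim (fun _ => (0 : F)) w (e i)) = 0 from
          funext fun a => by simp [part], map_zero]
      · funext j
        simp [L, tail]
    rw [(LinearEquiv.ofBijective L ⟨hinj, hsurj⟩).finrank_eq, Module.finrank_fintype_fun_eq_card, Fintype.card_fin]

/-- Blocks with different factors leave no isotropic invariant subspace outside the fixed space. -/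
theorem no_ts_moved (hrp : r ≠ p) (hc : c = orderOf (Fintype.card F : ZMod r)) (g : Fin E → F[X])
    (hg : Function.Injective g) (hgs : ∀ s, Irreducible (g s) ∧ (g s).Monic ∧
      aeval (Matrix.toLin' (X s : Matrix (Fin c) (Fin c) F)) (g s) = 0)
    {y : GL (Fin n) F} (hy : y ∈ Cfsg.GU n F q) (hyX : (y : Matrix (Fin n) (Fin n) F) = blockMat e X)
    (hyr : y ^ r = 1) (hF : Fintype.card F = q ^ 2) (W : Submodule F (Fin n → F))
    (hW : W.map (Matrix.toLin' (y : Matrix (Fin n) (Fin n) F)) ≤ W)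
    (hts : ∀ u ∈ W, ∀ v ∈ W, Cfsg.hermForm n F q u v = 0) :
    W ≤ LinearMap.ker (aeval (Matrix.toLin' (y : Matrix (Fin n) (Fin n) F)) (Polynomial.X - C (1 : F))) := by
  classical
  obtain ⟨σ, B, H, hB⟩ := exists_herm hF n
  have h := perIso_gu (p := p) H hB hrp hy hyr
  set T := Matrix.toLin' (y : Matrix (Fin n) (Fin n) F) with hT
  have hWT : Inv T W := fun x hx => hW ⟨x, hx, rfl⟩
  obtain ⟨-, hsup⟩ := finrank_split h hWT
  set R := LinearMap.ker (aeval T (geom F r))
  have hWR : W ⊓ R = ⊥ := by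
    by_contra hne
    obtain ⟨v, hv, hv0⟩ := Submodule.exists_mem_ne_zero_of_ne_bot hne
    obtain ⟨g₁, hg1i, hg1m, hg1d, w, hw, hw0, hgw⟩ := CfsgLib.ExtOrth.exists_factor_ker
      (hWT.inf (inv_ker (T := T) (geom F r))) (geom F r) (geom_monic (Fact.out : r.Prime).pos).ne_zero v hv hv0
      (LinearMap.mem_ker.mp hv.2)
    have hg1 : g₁.eval 1 ≠ 0 := fun e0 => by
      obtain ⟨S, hS⟩ := hg1d
      have h1 := congrArg (Polynomial.eval 1) hS
      rw [eval_mul, e0, zero_mul] at h1
      refine CfsgLib.GLClassNumber.natCast_ne_zero_of_prime_ne (F := F) (p := p) (Fact.out : r.Prime) hrp ?_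
      simpa [geom, eval_finsetSum] using h1
    set Z := W ⊓ R ⊓ LinearMap.ker (aeval T g₁)
    have hdeg : g₁.natDegree = c := hc ▸ geom_degree (p := p) (Fact.out : r.Prime) hrp hg1i hg1m hg1d
    obtain ⟨hZdvd, -⟩ := dims_of_ker (P := g₁) (i := c) (fun g' h1 h2 h3 => by
      rw [← hdeg]; exact natDegree_eq_of_degree_eq (degree_eq_degree_of_associated (h1.associated_of_dvd hg1i h3)))
      ((hWT.inf (inv_ker (T := T) (geom F r))).inf (inv_ker (T := T) g₁)) (inf_le_right : Z ≤ _)
    have htail : ∀ z, aeval T g₁ z = 0 → tail e z = 0 := fun z hz => by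
      have h1 := aeval_transfer (tail e) T (1 : Module.End F (Fin k → F)) (fun v => by
        rw [hT, hyX, tail_mul, Module.End.one_apply]) g₁ z
      rw [hz, map_zero, show (1 : Module.End F (Fin k → F)) = algebraMap F _ 1 from (map_one _).symm,
        aeval_algebraMap_apply_eq_algebraMap_eval, Module.algebraMap_end_apply] at h1
      exact (smul_eq_zero.mp h1.symm).resolve_left hg1
    have hpart : ∀ z, aeval T g₁ z = 0 → ∀ s, part e s z ≠ 0 → g s = g₁ := fun z hz s hs => by
      by_contra hne'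
      have h1 := aeval_transfer (part e s) T (Matrix.toLin' (X s : Matrix (Fin c) (Fin c) F))
        (fun v => by rw [hT, hyX, part_mul]) g₁ z
      rw [hz, map_zero] at h1
      obtain ⟨a, b, hab⟩ := ((hgs s).1.coprime_iff_not_dvd.mpr fun hd =>
        hne' (eq_of_monic_of_associated (hgs s).2.1 hg1m ((hgs s).1.associated_of_dvd hg1i hd)) :
          IsCoprime (g s) g₁)
      have h3 := congrArg (fun P => aeval (Matrix.toLin' (X s : Matrix (Fin c) (Fin c) F)) P (part e s z)) hab
      simp only [map_add, map_mul, map_one, LinearMap.add_apply, Module.End.mul_apply, (hgs s).2.2,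
        LinearMap.zero_apply, ← h1, map_zero, add_zero, Module.End.one_apply] at h3
      exact hs h3.symm
    obtain ⟨s, hs⟩ : ∃ s, part e s w ≠ 0 := by
      by_contra hno
      push Not at hno
      exact hw0 (ext_parts e (fun s => (hno s).trans (map_zero _).symm) ((htail w hgw).trans (map_zero _).symm))
    have hZle : Z ≤ LinearMap.range (ins e s) := fun z hz => by
      refine ⟨part e s z, ext_parts e (fun t => ?_) ((tail_ins e s _).trans (htail z (LinearMap.mem_ker.mp hz.2)).symm)⟩
      rw [part_ins]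
      split_ifs with hts'
      · rw [hts']
      · by_contra h0
        exact hts' (hg ((hpart z (LinearMap.mem_ker.mp hz.2) t (fun e0 => h0 e0.symm)).trans (hpart w hgw s hs).symm))
    have hwZ : w ∈ Z := ⟨hw, LinearMap.mem_ker.mpr hgw⟩
    have hge : c ≤ finrank F Z := Nat.le_of_dvd (Nat.pos_of_ne_zero fun e0 => hw0
      ((Submodule.mem_bot F).mp (Submodule.finrank_eq_zero.mp e0 ▸ hwZ))) hZdvd
    have hle : finrank F (LinearMap.range (ins (F := F) e s)) ≤ c := by
      refine (LinearMap.finrank_range_le _).trans ?_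
      rw [Module.finrank_fintype_fun_eq_card, Fintype.card_fin]
    have hc0 : 0 < c := hc ▸ order_pos (F := F) (p := p) (r := r) hrp
    have hZeq : Z = LinearMap.range (ins e s) :=
      Submodule.eq_of_le_of_finrank_le hZle (hle.trans hge)
    have hmem : ins e s (Pi.single ⟨0, hc0⟩ (1 : F)) ∈ W :=
      (hZeq.ge ⟨_, rfl⟩).1.1
    have h1 := hts _ hmem _ hmem
    rw [herm_parts e, tail_ins, Finset.sum_eq_single s (fun t _ ht => by
        rw [part_ins, if_neg ht]; simp [Cfsg.hermForm]) (fun h => absurd (Finset.mem_univ s) h), part_ins, if_pos rfl]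
      at h1
    have hq : q ≠ 0 := by have := H.one_lt; omega
    simp [Cfsg.hermForm, Pi.single_apply, zero_pow hq] at h1
  rw [hWR, sup_bot_eq] at hsup
  exact hsup ▸ inf_le_right

end Blocks

/-- A fixed-point-free element on a space of the smallest dimension. -/
theorem exists_block (hF : Fintype.card F = q ^ 2) (hrp : r ≠ p) {c : ℕ} (hc : c = orderOf (-(q : ZMod r))) :
    ∃ x : GL (Fin c) F, x ∈ Cfsg.GU c F q ∧ x ^ r = 1 ∧
      aeval (Matrix.toLin' (x : Matrix (Fin c) (Fin c) F)) (geom F r) = 0 := by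
  classical
  obtain ⟨-, hcpos, -⟩ := orders (p := p) hF hrp rfl hc
  have hdvd : r ∣ Nat.card (Cfsg.GU c F q) := by
    rw [CfsgLib.UnitaryOrder.card_GU hF c]
    refine dvd_mul_of_dvd_right ((?_ : r ∣ _).trans (Finset.dvd_prod_of_mem _ (Finset.mem_range.mpr
      (show c - 1 < c by omega)))) _
    have hpow : (-(q : ZMod r)) ^ c = 1 := by rw [hc, pow_orderOf_eq_one]
    have hq1 : 1 ≤ q ^ c := Nat.one_le_pow _ _ (by have := (CfsgLib.UnitaryBasic.frob_exists hF).1; omega)
    rw [show c - 1 + 1 = c by omega]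
    split_ifs with he
    · rw [← ZMod.natCast_eq_zero_iff, Nat.cast_add, Nat.cast_pow, Nat.cast_one]
      have ho : Odd c := by obtain ⟨j, hj⟩ := he; exact ⟨j, by omega⟩
      rw [ho.neg_pow] at hpow
      linear_combination -hpow
    · rw [← ZMod.natCast_eq_zero_iff, Nat.cast_sub hq1, Nat.cast_pow, Nat.cast_one]
      have ho : Even c := by
        obtain ⟨j, hj⟩ := Nat.not_even_iff_odd.mp he
        exact ⟨j + 1, by omega⟩
      rw [ho.neg_pow] at hpow
      linear_combination hpow
  obtain ⟨x, hx⟩ := exists_prime_orderOf_dvd_card' (G := Cfsg.GU c F q) r hdvd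
  have hxr : (x.1 : GL (Fin c) F) ^ r = 1 := by
    rw [← Subgroup.coe_pow, ← hx, pow_orderOf_eq_one, Subgroup.coe_one]
  obtain ⟨σ, B, H, hB⟩ := exists_herm hF c
  have h := perIso_gu (p := p) H hB hrp x.2 hxr
  set T := Matrix.toLin' (x.1 : Matrix (Fin c) (Fin c) F)
  obtain ⟨E, w, hE, -⟩ := moved_data (p := p) H hrp h rfl hc
  obtain ⟨hsum, -⟩ := finrank_split h (inv_top (T := T))
  rw [top_inf_eq, top_inf_eq, hE, finrank_top, Module.finrank_fintype_fun_eq_card, Fintype.card_fin] at hsum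
  have hE0 : E ≠ 0 := fun e0 => by
    rw [e0, zero_mul, add_zero] at hsum
    have h1 := Submodule.eq_top_of_finrank_eq (hsum.trans (by
      rw [Module.finrank_fintype_fun_eq_card, Fintype.card_fin]))
    have hx1 : x = 1 := Subtype.ext (Units.ext (Matrix.toLin'.injective (LinearMap.ext fun v => by
      show T v = _
      rw [Subgroup.coe_one, Units.val_one, Matrix.toLin'_one, LinearMap.id_apply]
      have h2 := h1.ge (Submodule.mem_top (x := v))
      simpa [sub_eq_zero] using h2)))
    rw [hx1, orderOf_one] at hx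
    exact (Fact.out : r.Prime).one_lt.ne hx
  have h2 := Nat.le_mul_of_pos_left c (Nat.pos_of_ne_zero hE0)
  refine ⟨x.1, x.2, hxr, LinearMap.ker_eq_top.mp (Submodule.eq_top_of_finrank_eq ?_)⟩
  rw [hE, Module.finrank_fintype_fun_eq_card, Fintype.card_fin]
  omega

/-- An element with the given moved dimension. -/
theorem exists_moved (hF : Fintype.card F = q ^ 2) (hrp : r ≠ p) {c E k : ℕ} (hc : c = orderOf (-(q : ZMod r)))
    (hn : E * c + k = n) : ∃ y : GL (Fin n) F, y ∈ Cfsg.GU n F q ∧ y ^ r = 1 ∧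
      finrank F (LinearMap.ker (aeval (Matrix.toLin' (y : Matrix (Fin n) (Fin n) F)) (Polynomial.X - C (1 : F)))) = k := by
  obtain ⟨x, hx, hxr, hgeom⟩ := exists_block (p := p) hF hrp hc
  let e : Fin n ≃ (Fin c × Fin E) ⊕ Fin k := (finCongr (by rw [mul_comm c E]; omega : n = c * E + k)).trans
    (finSumFinEquiv.symm.trans (finProdFinEquiv.symm.sumCongr (Equiv.refl _)))
  obtain ⟨y, hy, hyr, -, hyk⟩ := exists_blocks (p := p) (r := r) e (fun _ => x) (fun _ => hx) (fun _ => hxr)
    (fun _ => hgeom) hrp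
  exact ⟨y, hy, hyr, hyk⟩

/-- An element with distinct self-conjugate factors. -/
theorem exists_anisotropic (hF : Fintype.card F = q ^ 2) (hrp : r ≠ p) {c E k : ℕ}
    (hc : c = orderOf (-(q : ZMod r))) (hcb : c = orderOf (Fintype.card F : ZMod r))
    (hE : E ≤ (r - 1) / c) (hn : E * c + k = n) : ∃ y : GL (Fin n) F, y ∈ Cfsg.GU n F q ∧ y ^ r = 1 ∧
      finrank F (LinearMap.ker (aeval (Matrix.toLin' (y : Matrix (Fin n) (Fin n) F)) (Polynomial.X - C (1 : F)))) = k ∧
      ∀ W : Submodule F (Fin n → F), W.map (Matrix.toLin' (y : Matrix (Fin n) (Fin n) F)) ≤ W →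
        (∀ u ∈ W, ∀ v ∈ W, Cfsg.hermForm n F q u v = 0) → 2 * finrank F W ≤ k := by
  classical
  obtain ⟨x, hx, hxr, hgeom⟩ := exists_block (p := p) hF hrp hc
  obtain ⟨-, hcpos, -⟩ := orders (p := p) hF hrp rfl hc
  set S := Matrix.toLin' (x : Matrix (Fin c) (Fin c) F) with hS
  -- a factor killing the block
  have hv : (Pi.single ⟨0, hcpos⟩ (1 : F) : Fin c → F) ≠ 0 := fun e0 => by
    have := congrFun e0 ⟨0, hcpos⟩; simp at this
  obtain ⟨g₀, hg0i, hg0m, hg0d, w, -, hw0, hgw⟩ := CfsgLib.ExtOrth.exists_factor_ker (inv_top (T := S)) (geom F r)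
    (geom_monic (Fact.out : r.Prime).pos).ne_zero _ trivial hv (by rw [hgeom]; rfl)
  have hdeg0 : g₀.natDegree = c := hcb ▸ geom_degree (p := p) (Fact.out : r.Prime) hrp hg0i hg0m hg0d
  have hg0 : aeval S g₀ = 0 := by
    obtain ⟨hd, -⟩ := dims_of_ker (P := g₀) (i := c) (fun g' h1 h2 h3 => by
      rw [← hdeg0]; exact natDegree_eq_of_degree_eq (degree_eq_degree_of_associated (h1.associated_of_dvd hg0i h3)))
      (inv_ker (T := S) g₀) le_rfl
    have hpos : 0 < finrank F (LinearMap.ker (aeval S g₀)) := Nat.pos_of_ne_zero fun e0 => hw0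
      ((Submodule.mem_bot F).mp (Submodule.finrank_eq_zero.mp e0 ▸ LinearMap.mem_ker.mpr hgw))
    refine LinearMap.ker_eq_top.mp (Submodule.eq_top_of_finrank_eq (le_antisymm (Submodule.finrank_le _) ?_))
    rw [Module.finrank_fintype_fun_eq_card, Fintype.card_fin]
    exact Nat.le_of_dvd hpos hd
  obtain ⟨g, hginj, hg, -⟩ := exists_factors (F := F) (p := p) (r := r) hrp
  have hE' : E ≤ (r - 1) / orderOf (Fintype.card F : ZMod r) := hcb ▸ hE
  have hpick : ∀ a, ∃ l : ℕ, aeval (S ^ l) (g a) = 0 := fun a => by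
    have : Fact (Irreducible g₀) := ⟨hg0i⟩
    have hga : aeval (AdjoinRoot.root g₀) g₀ = 0 := by rw [AdjoinRoot.aeval_eq, AdjoinRoot.mk_self]
    set ζ := AdjoinRoot.root g₀
    obtain ⟨har, ha1⟩ := CfsgLib.OrthIso.root_facts (p := p) hrp hg0d hg0i
    have hprim : IsPrimitiveRoot ζ r := by
      have := IsPrimitiveRoot.orderOf ζ
      rwa [orderOf_eq_prime har ha1] at this
    have hsplit := X_pow_sub_one_splits hprim
    have hdvd : (g a).map (algebraMap F (AdjoinRoot g₀)) ∣ (X ^ r - 1 : (AdjoinRoot g₀)[X]) := by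
      refine dvd_trans (Polynomial.map_dvd _ (hg a).2.2.2) ⟨Polynomial.X - 1, ?_⟩
      rw [geom, Polynomial.map_sum]
      simp only [Polynomial.map_pow, Polynomial.map_X]
      exact (geom_sum_mul _ _).symm
    have hne : (X ^ r - 1 : (AdjoinRoot g₀)[X]) ≠ 0 := by
      simpa using (monic_X_pow_sub_C (1 : AdjoinRoot g₀) (Fact.out : r.Prime).ne_zero).ne_zero
    obtain ⟨a', ha'⟩ := Polynomial.Splits.exists_eval_eq_zero (hsplit.of_dvd hne hdvd) (by
      rw [degree_map]; exact (degree_pos_of_irreducible (hg a).1).ne')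
    have har' : a' ^ r = 1 := by
      obtain ⟨S', hS'⟩ := hdvd
      have h1 := congrArg (Polynomial.eval a') hS'
      rw [eval_mul, ha', zero_mul, eval_sub, eval_pow, eval_X, eval_one, sub_eq_zero] at h1
      exact h1
    obtain ⟨l, -, rfl⟩ := hprim.eq_pow_of_pow_eq_one har'
    refine ⟨l, ?_⟩
    have h1 : aeval ζ ((g a).comp (X ^ l)) = 0 := by
      rw [aeval_comp, map_pow, aeval_X]
      rwa [eval_map_algebraMap] at ha'
    rw [AdjoinRoot.aeval_eq, AdjoinRoot.mk_eq_zero] at h1
    obtain ⟨P, hP⟩ := h1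
    have := congrArg (aeval S) hP
    rw [aeval_comp, map_pow, aeval_X, map_mul, hg0, zero_mul] at this
    exact this
  choose l hl using hpick
  let e : Fin n ≃ (Fin c × Fin E) ⊕ Fin k := (finCongr (by rw [mul_comm c E]; omega : n = c * E + k)).trans
    (finSumFinEquiv.symm.trans (finProdFinEquiv.symm.sumCongr (Equiv.refl _)))
  let g' : Fin E → F[X] := fun s => g (Fin.castLE hE' s)
  let X' : Fin E → GL (Fin c) F := fun s => x ^ l (Fin.castLE hE' s)
  have hX' : ∀ s, Matrix.toLin' (X' s : Matrix (Fin c) (Fin c) F) = S ^ l (Fin.castLE hE' s) := fun s => by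
    have : Matrix.toLinAlgEquiv' ((x : Matrix (Fin c) (Fin c) F) ^ l (Fin.castLE hE' s)) = S ^ l (Fin.castLE hE' s) := by
      rw [map_pow]; rfl
    show Matrix.toLinAlgEquiv' ((x ^ _ : GL (Fin c) F) : Matrix (Fin c) (Fin c) F) = _
    rw [Units.val_pow_eq_pow_val, this]
  have hg' : ∀ s, aeval (Matrix.toLin' (X' s : Matrix (Fin c) (Fin c) F)) (g' s) = 0 := fun s => by
    rw [hX']; exact hl _
  have hgeom' : ∀ s, aeval (Matrix.toLin' (X' s : Matrix (Fin c) (Fin c) F)) (geom F r) = 0 := fun s => by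
    obtain ⟨P, hP⟩ := (hg (Fin.castLE hE' s)).2.2.2
    rw [hP, map_mul, hg', zero_mul]
  obtain ⟨y, hy, hyr, hyX, hyk⟩ := exists_blocks (p := p) (r := r) e X' (fun s => pow_mem hx _)
    (fun s => by show (x ^ _) ^ r = 1; rw [← pow_mul, mul_comm, pow_mul, hxr, one_pow]) hgeom' hrp
  refine ⟨y, hy, hyr, hyk, fun W hW hts => ?_⟩
  have hle := no_ts_moved (p := p) e X' hrp hcb g' (hginj.comp (Fin.castLE_injective hE'))
    (fun s => ⟨(hg _).1, (hg _).2.1, hg' s⟩) hy hyX hyr hF W hW hts
  obtain ⟨σ, B, H, hB⟩ := exists_herm hF n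
  have := two_mul_le H hle (fun u hu v hv => by rw [hB]; exact hts v hv u hu)
    (nds_parts H (perIso_gu (p := p) H hB hrp hy hyr)).1
  rwa [hyk] at this

/-- Diagonal elements with distinct eigenvalues when `r ∣ q + 1`. -/
theorem exists_diag (hF : Fintype.card F = q ^ 2) (hrp : r ≠ p) (hr2 : r ≠ 2) (hrq : r ∣ q + 1) {h k : ℕ}
    (hh : 2 * h ≤ r - 1) (hn : 2 * h + k = n) : ∃ y : GL (Fin n) F, y ∈ Cfsg.GU n F q ∧ y ^ r = 1 ∧
      (y : Matrix (Fin n) (Fin n) F).det = 1 ∧
      finrank F (LinearMap.ker (aeval (Matrix.toLin' (y : Matrix (Fin n) (Fin n) F)) (Polynomial.X - C (1 : F)))) = k ∧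
      ∀ W : Submodule F (Fin n → F), W.map (Matrix.toLin' (y : Matrix (Fin n) (Fin n) F)) ≤ W →
        (∀ u ∈ W, ∀ v ∈ W, Cfsg.hermForm n F q u v = 0) → 2 * finrank F W ≤ k := by
  classical
  obtain ⟨u, hu⟩ := CfsgLib.UnitaryBasic.exists_zeta hF
  obtain ⟨d, hd⟩ := hrq
  have hd0 : d ≠ 0 := fun e0 => by rw [e0, mul_zero] at hd; omega
  set ζ := u ^ d
  have hζ : orderOf ζ = r := by
    rw [orderOf_pow_of_dvd hd0 ⟨r, by rw [hu, hd, mul_comm]⟩, hu, hd, Nat.mul_div_cancel _ (Nat.pos_of_ne_zero hd0)]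
  have hζr : ζ ^ r = 1 := by rw [← hζ, pow_orderOf_eq_one]
  have hζq : ζ ^ (q + 1) = 1 := by rw [hd, pow_mul, hζr, one_pow]
  clear_value ζ
  have hc1 : (1 : ℕ) = orderOf (Fintype.card F : ZMod r) := by
    rw [eq_comm, orderOf_eq_one_iff, hF, Nat.cast_pow]
    have : ((q + 1 : ℕ) : ZMod r) = 0 := by rw [hd, Nat.cast_mul, ZMod.natCast_self, zero_mul]
    rw [Nat.cast_add, Nat.cast_one] at this
    rw [eq_neg_of_add_eq_zero_left this, neg_one_sq]
  let l : Fin (2 * h) → ℕ := fun s => if (s : ℕ) < h then s + 1 else r - (s - h + 1)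
  have hlt : ∀ s, 1 ≤ l s ∧ l s < r := fun s => by
    have := s.2
    have := (Fact.out : r.Prime).two_le
    simp only [l]
    split_ifs <;> omega
  have hl : Function.Injective l := fun s t e0 => by
    have := s.2
    have := t.2
    simp only [l] at e0
    apply Fin.ext
    split_ifs at e0 <;> omega
  have hinj : Function.Injective fun s => ((ζ ^ l s : Fˣ) : F) := fun s t e0 => hl
    (pow_injOn_Iio_orderOf (by rw [hζ]; exact (hlt s).2) (by rw [hζ]; exact (hlt t).2) (Units.ext e0))
  let X' : Fin (2 * h) → GL (Fin 1) F := fun s => CfsgLib.UnitaryBasic.dgl fun _ => ζ ^ l s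
  have hX' : ∀ s, Matrix.toLin' (X' s : Matrix (Fin 1) (Fin 1) F) = algebraMap F _ ((ζ ^ l s : Fˣ) : F) := fun s => by
    refine LinearMap.ext fun v => funext fun i => ?_
    show ((Matrix.diagonal fun _ => ((ζ ^ l s : Fˣ) : F)) *ᵥ v) i = _
    rw [Matrix.mulVec_diagonal, Module.algebraMap_end_apply]
    rfl
  have hXr : ∀ s, X' s ^ r = 1 := fun s => Units.ext (by
    rw [Units.val_pow_eq_pow_val]
    show (Matrix.diagonal fun _ => ((ζ ^ l s : Fˣ) : F)) ^ r = 1
    rw [Matrix.diagonal_pow, ← Matrix.diagonal_one]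
    congr 1
    funext i
    rw [Pi.pow_apply, ← Units.val_pow_eq_pow_val, ← pow_mul, mul_comm, pow_mul, hζr, one_pow, Units.val_one])
  have hne1 : ∀ s, ((ζ ^ l s : Fˣ) : F) ≠ 1 := fun s e0 => by
    have h1 : ζ ^ l s = 1 := Units.ext e0
    have := Nat.le_of_dvd (hlt s).1 (hζ ▸ orderOf_dvd_of_pow_eq_one h1)
    have := (hlt s).2
    omega
  have hroot : ∀ s, (geom F r).eval ((ζ ^ l s : Fˣ) : F) = 0 := fun s => by
    have h1 := congrArg (Polynomial.eval ((ζ ^ l s : Fˣ) : F)) (show geom F r * (X - 1) = X ^ r - 1 from geom_sum_mul _ _)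
    rw [eval_mul, eval_sub, eval_sub, eval_pow, eval_X, eval_one, ← Units.val_pow_eq_pow_val, ← pow_mul,
      Nat.mul_comm (l s) r, pow_mul, hζr, one_pow, Units.val_one, sub_self, mul_eq_zero, sub_eq_zero] at h1
    exact h1.resolve_right (hne1 s)
  let e : Fin n ≃ (Fin 1 × Fin (2 * h)) ⊕ Fin k := (finCongr (by omega : n = 1 * (2 * h) + k)).trans
    (finSumFinEquiv.symm.trans (finProdFinEquiv.symm.sumCongr (Equiv.refl _)))
  obtain ⟨y, hy, hyr, hyX, hyk⟩ := exists_blocks (p := p) (r := r) e X'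
    (fun s => CfsgLib.UnitaryBasic.dgl_mem _ fun _ => by
      rw [← pow_mul, mul_comm, pow_mul, hζq, one_pow])
    hXr (fun s => by rw [hX', aeval_algebraMap_apply_eq_algebraMap_eval, hroot, map_zero]) hrp
  refine ⟨y, hy, hyr, ?_, hyk, fun W hW hts => ?_⟩
  · rw [hyX, block_det]
    have hdet : ∀ s, (X' s : Matrix (Fin 1) (Fin 1) F).det = ((ζ ^ l s : Fˣ) : F) := fun s => by
      show (Matrix.diagonal fun _ => ((ζ ^ l s : Fˣ) : F)).det = _
      simp
    rw [Finset.prod_congr rfl fun s _ => hdet s, ← Units.coe_prod, Finset.prod_pow_eq_pow_sum]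
    have hsum : ∀ m, m ≤ h → (∑ s ∈ Finset.range m, (s + 1)) + ∑ s ∈ Finset.range m, (r - (s + 1)) = m * r :=
      fun m hm => by
        rw [← Finset.sum_add_distrib, Finset.sum_congr rfl fun s hs => (show s + 1 + (r - (s + 1)) = r by
          have := Finset.mem_range.mp hs
          omega), Finset.sum_const, Finset.card_range, smul_eq_mul]
    have : ∑ s, l s = h * r := by
      rw [Fin.sum_univ_eq_sum_range (fun s => if s < h then s + 1 else r - (s - h + 1)) (2 * h),
        two_mul h, Finset.sum_range_add, ← hsum h le_rfl]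
      congr 1 <;> refine Finset.sum_congr rfl fun s hs => ?_
      · rw [if_pos (Finset.mem_range.mp hs)]
      · rw [if_neg (by omega), Nat.add_sub_cancel_left]
    rw [this, mul_comm, pow_mul, hζr, one_pow, Units.val_one]
  · have hle := no_ts_moved (p := p) e X' hrp hc1 (fun s => Polynomial.X - C ((ζ ^ l s : Fˣ) : F))
      (fun s t e0 => hinj (Polynomial.C_inj.mp (sub_right_inj.mp e0)))
      (fun s => ⟨irreducible_X_sub_C _, monic_X_sub_C _, by
        rw [hX', aeval_algebraMap_apply_eq_algebraMap_eval]; simp⟩) hy hyX hyr hF W hW hts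
    obtain ⟨σ, B, H, hB⟩ := exists_herm hF n
    have := two_mul_le H hle (fun u hu v hv => by rw [hB]; exact hts v hv u hu)
      (nds_parts H (perIso_gu (p := p) H hB hrp hy hyr)).1
    rwa [hyk] at this

end CfsgLib.HermIso
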