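/-
Scalars and counting for unitary elements of prime period modulo scalars.
-/
import Cfsg.Agent.Lib.HermIso.Models
import Cfsg.Agent.S0782

set_option autoImplicit false
set_option linter.unusedSectionVars false
set_option maxHeartbeats 1000000

namespace CfsgLib.HermIso

open Polynomial Module CfsgLib.PrimeIso CfsgLib.MaxSub.Elusive
open scoped Matrix MatrixGroups

universe u

variable {F : Type u} [Field F] [Fintype F] {q n : ℕ} {p r : ℕ} [Fact p.Prime] [CharP F p] [Fact r.Prime]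

theorem dvd_of_val {k a b : ℕ} (hk : k.Prime) (hb : b ≠ 0) (h : a ∣ k * b)
    (hv : padicValNat k a ≤ padicValNat k b) : a ∣ b := by
  have hkb : k * b ≠ 0 := Nat.mul_ne_zero hk.ne_zero hb
  have ha : a ≠ 0 := fun e => hkb (Nat.eq_zero_of_zero_dvd (e ▸ h))
  refine (Nat.factorization_le_iff_dvd ha hb).mp fun l => ?_
  have h1 := (Nat.factorization_le_iff_dvd ha hkb).mpr h l
  rw [Nat.factorization_mul hk.ne_zero hb, Finsupp.add_apply, hk.factorization] at h1
  by_cases e : k = l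
  · subst e
    rwa [Nat.factorization_def _ hk, Nat.factorization_def _ hk]
  · rwa [Finsupp.single_eq_of_ne (Ne.symm e), zero_add] at h1

/-- Scalars among the unitary elements. -/
theorem scalar_norm {σ : F →+* F} {B : (Fin n → F) →ₛₗ[σ] (Fin n → F) →ₗ[F] F} (H : Herm q B)
    (hB : ∀ x y, B x y = Cfsg.hermForm n F q y x) (hn : 0 < n) {y : GL (Fin n) F} (hy : y ∈ Cfsg.GU n F q) {z : F}
    (hz : (y : Matrix (Fin n) (Fin n) F) = z • 1) : z ^ (q + 1) = 1 := by
  set v : Fin n → F := Pi.single ⟨0, hn⟩ 1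
  have h := gu_iso hB hy v v
  have hT : Matrix.toLin' (y : Matrix (Fin n) (Fin n) F) v = z • v := by
    rw [Matrix.toLin'_apply, hz, Matrix.smul_mulVec, Matrix.one_mulVec]
  rw [hT] at h
  simp only [LinearMap.map_smulₛₗ, LinearMap.smul_apply, map_smul, smul_eq_mul, RingHom.id_apply, H.frob] at h
  rw [← mul_assoc, ← pow_succ'] at h
  have hne : B v v ≠ 0 := by
    rw [hB]
    have hq : q ≠ 0 := by have := H.one_lt; omega
    simp [v, Cfsg.hermForm, Pi.single_apply, zero_pow hq]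
  exact mul_right_cancel₀ hne (h.trans (one_mul _).symm)

omit [Fact p.Prime] [CharP F p] in
/-- An `r`th root inside the norm-one scalars. -/
theorem root_norm_one (hF : Fintype.card F = q ^ 2) (hr2 : r ≠ 2) {a : F} (hrq : r ∣ q + 1)
    (ha : (a ^ r) ^ (q + 1) = 1) : a ^ (q + 1) = 1 := by
  have hq := (CfsgLib.UnitaryBasic.frob_exists hF).1
  have ha0 : a ≠ 0 := fun e => by
    rw [e, zero_pow (Fact.out : r.Prime).ne_zero, zero_pow (by omega)] at ha
    exact zero_ne_one ha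
  have h1 := FiniteField.pow_card_sub_one_eq_one a ha0
  rw [hF, show q ^ 2 - 1 = (q + 1) * (q - 1) by rw [← Nat.sq_sub_sq, one_pow], pow_mul] at h1
  rw [← pow_mul, mul_comm, pow_mul] at ha
  have hcop : Nat.Coprime r (q - 1) := (Fact.out : r.Prime).coprime_iff_not_dvd.mpr fun hd => by
    have h2 := Nat.dvd_sub hrq hd
    rw [show q + 1 - (q - 1) = 2 by omega] at h2
    exact hr2 ((Nat.prime_dvd_prime_iff_eq Fact.out Nat.prime_two).mp h2)
  have h3 := pow_gcd_eq_one.mpr ⟨ha, h1⟩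
  rwa [hcop.gcd_eq_one, pow_one] at h3

omit [Fact p.Prime] [CharP F p] in
/-- Norm-one scalars are `r`th powers when `r ∤ q + 1`. -/
theorem exists_root_norm_one (hrq : ¬ r ∣ q + 1) {z : F} (hz : z ^ (q + 1) = 1) :
    ∃ a : F, a ^ r = z ∧ a ^ (q + 1) = 1 := by
  have hq1 : 0 < q + 1 := q.succ_pos
  by_cases h1 : q + 1 = 1
  · exact ⟨1, by rw [one_pow]; rw [h1, pow_one] at hz; exact hz.symm, one_pow _⟩
  obtain ⟨d, -, hd⟩ := Nat.exists_mul_mod_eq_one_of_coprime ((Fact.out : r.Prime).coprime_iff_not_dvd.mpr hrq) (by omega)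
  refine ⟨z ^ d, ?_, by rw [← pow_mul, mul_comm, pow_mul, hz, one_pow]⟩
  rw [← pow_mul, mul_comm d r, ← Nat.mod_add_div (r * d) (q + 1), hd, pow_add, pow_one, pow_mul, hz, one_pow, mul_one]

/-- Dividing by a norm-one root. -/
theorem exists_reduced {σ : F →+* F} {B : (Fin n → F) →ₛₗ[σ] (Fin n → F) →ₗ[F] F} (H : Herm q B)
    (hB : ∀ x y, B x y = Cfsg.hermForm n F q y x) (hrp : r ≠ p) {y : GL (Fin n) F} (hy : y ∈ Cfsg.GU n F q) {a : F}
    (ha : a ^ (q + 1) = 1) (hz : (y : Matrix (Fin n) (Fin n) F) ^ r = (a ^ r) • 1) :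
    ∃ T : Module.End F (Fin n → F), PerIso B T r ∧
      ∀ v, Matrix.toLin' (y : Matrix (Fin n) (Fin n) F) v = a • T v := by
  have ha0 : a ≠ 0 := fun e => by
    rw [e, zero_pow (Nat.succ_ne_zero q)] at ha
    exact zero_ne_one ha
  refine ⟨a⁻¹ • Matrix.toLin' (y : Matrix (Fin n) (Fin n) F), ⟨H.refl, fun u v => ?_, ?_,
    CfsgLib.GLClassNumber.natCast_ne_zero_of_prime_ne (p := p) Fact.out hrp⟩, fun v => ?_⟩
  · have hai : σ a⁻¹ * a⁻¹ = 1 := by rw [H.frob, ← pow_succ, inv_pow, ha, inv_one]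
    simp only [LinearMap.map_smulₛₗ, LinearMap.smul_apply, map_smul, smul_eq_mul, RingHom.id_apply]
    rw [← mul_assoc, mul_comm a⁻¹, hai, one_mul, gu_iso hB hy]
  · have h1 : Matrix.toLinAlgEquiv' ((y : Matrix (Fin n) (Fin n) F) ^ r) = (a ^ r) • (1 : Module.End F (Fin n → F)) := by
      rw [hz, map_smul, map_one]
    rw [map_pow] at h1
    rw [_root_.smul_pow]
    refine (congrArg (fun M => a⁻¹ ^ r • M) h1).trans ?_
    rw [smul_smul, ← mul_pow, inv_mul_cancel₀ ha0, one_pow, one_smul]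
  · rw [LinearMap.smul_apply, smul_smul, mul_inv_cancel₀ ha0, one_smul]

omit [Fintype F] [Fact p.Prime] [CharP F p] [Fact r.Prime] in
/-- Divisibility of a product of the numbers `qˡ ± 1`. -/
theorem dvd_factor_iff (hq : 1 ≤ q) {r : ℕ} (l : ℕ) :
    r ∣ (if Even l then q ^ (l + 1) + 1 else q ^ (l + 1) - 1) ↔ (-(q : ZMod r)) ^ (l + 1) = 1 := by
  have hq1 : 1 ≤ q ^ (l + 1) := Nat.one_le_pow _ _ hq
  rw [← ZMod.natCast_eq_zero_iff]
  split_ifs with he
  · rw [Nat.cast_add, Nat.cast_pow, Nat.cast_one, (he.add_one).neg_pow, add_eq_zero_iff_eq_neg]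
    constructor
    · intro h; rw [h, neg_neg]
    · intro h; rw [← h, neg_neg]
  · rw [Nat.cast_sub hq1, Nat.cast_pow, Nat.cast_one, ((Nat.not_even_iff_odd.mp he).add_one).neg_pow, sub_eq_zero]

omit [Fact r.Prime] in
/-- The primes dividing the number of totally isotropic subspaces. -/
theorem count_facts (hF : Fintype.card F = q ^ 2) {m r : ℕ} (hr : r.Prime) (hmn : 2 * m ≤ n)
    (hdvd : r ∣ Nat.card {W : Submodule F (Fin n → F) // Module.finrank F ↥W = m ∧
      (∀ u ∈ W, ∀ v ∈ W, Cfsg.hermForm n F q u v = 0)}) :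
    r ≠ p ∧ ∃ l, n < l + 2 * m ∧ l ≤ n ∧ (-(q : ZMod r)) ^ l = 1 := by
  classical
  have hq := (CfsgLib.UnitaryBasic.frob_exists hF).1
  have h := CfsgLib.IsotropicCount.card_frame_eq (Cfsg.hermForm n F q) (CfsgLib.IsotropicCount.herm_span2 hF) m
  rw [CfsgLib.IsotropicCount.card_hermFrame hF m (by omega), Finset.prod_mul_distrib] at h
  set P := ∏ i ∈ Finset.range m, (CfsgLib.HermCount.A0 F q (n - 2 * i) - 1) with hP
  have hA : ∀ i ∈ Finset.range m, ∃ l, n = 2 * i + l + 2 ∧ CfsgLib.HermCount.A0 F q (n - 2 * i) - 1 =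
      (if Even l then q ^ (l + 1) + 1 else q ^ (l + 1) - 1) *
        (if Even (l + 1) then q ^ (l + 1 + 1) + 1 else q ^ (l + 1 + 1) - 1) := fun i hi => by
    rw [Finset.mem_range] at hi
    refine ⟨n - 2 * i - 2, by omega, ?_⟩
    rw [show n - 2 * i = n - 2 * i - 2 + 2 by omega, Cfsg.Agent.S0782.A0_sub_one hF, Nat.add_sub_cancel]
  set e := ∑ i ∈ Finset.range m, 2 * i with he
  have hglc : CfsgLib.IsotropicCount.glc (Fintype.card F) m =
      q ^ e * ∏ i ∈ Finset.range m, (q ^ (2 * (m - i)) - 1) := by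
    rw [he, CfsgLib.IsotropicCount.glc, hF, Fin.prod_univ_eq_prod_range (fun i => (q ^ 2) ^ m - (q ^ 2) ^ i) m,
      ← Finset.prod_pow_eq_pow_sum, ← Finset.prod_mul_distrib]
    refine Finset.prod_congr rfl fun i hi => ?_
    rw [Finset.mem_range] at hi
    rw [Nat.mul_sub_one, ← pow_mul, ← pow_mul, ← pow_add]
    congr 2
    omega
  rw [hglc, Finset.prod_pow_eq_pow_sum, ← he, ← mul_assoc, mul_comm (Nat.card _) (q ^ e), mul_assoc] at h
  have hcount := Nat.eq_of_mul_eq_mul_left (pow_pos (by omega) e) h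
  have hrP : r ∣ P := by
    rw [hcount]
    exact dvd_mul_of_dvd_left hdvd _
  obtain ⟨i, hi, hd⟩ := (hr.prime.dvd_finsetProd_iff _).mp hrP
  obtain ⟨l, hl, hA'⟩ := hA i hi
  rw [Finset.mem_range] at hi
  rw [hA'] at hd
  obtain ⟨l', hl'1, hl'2, hl'⟩ : ∃ l', n < l' + 2 * m ∧ l' ≤ n ∧ (-(q : ZMod r)) ^ l' = 1 := by
    rcases hr.dvd_mul.mp hd with hd | hd
    · exact ⟨l + 1, by omega, by omega, (dvd_factor_iff hq.le l).mp hd⟩
    · exact ⟨l + 1 + 1, by omega, by omega, (dvd_factor_iff hq.le (l + 1)).mp hd⟩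
  refine ⟨fun e0 => ?_, l', hl'1, hl'2, hl'⟩
  subst e0
  have hq0 : (q : ZMod r) = 0 := by
    rw [ZMod.natCast_eq_zero_iff]
    obtain ⟨d, hp, hd'⟩ := FiniteField.card F r
    exact hp.dvd_of_dvd_pow (hF ▸ hd' ▸ dvd_pow_self r d.ne_zero)
  have := Fact.mk hr
  rw [hq0, neg_zero, zero_pow (by omega)] at hl'
  exact zero_ne_one hl'

end CfsgLib.HermIso
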