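/-
Involutions modulo scalars of unitary groups and totally isotropic subspaces.
-/
import Cfsg.Agent.Lib.HermIso.Scalar

set_option autoImplicit false
set_option linter.unusedSectionVars false
set_option maxHeartbeats 1000000

namespace CfsgLib.HermIso

open Polynomial Module CfsgLib.PrimeIso CfsgLib.MaxSub.Elusive
open scoped Matrix MatrixGroups

universe u

variable {F : Type u} [Field F] [Fintype F] {q n m : ℕ}

/-- An invariant totally isotropic subspace of dimension `m`. -/
def HasTS (q m : ℕ) (M : Matrix (Fin n) (Fin n) F) : Prop :=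
  ∃ W : Submodule F (Fin n → F), finrank F W = m ∧ (∀ u ∈ W, ∀ v ∈ W, Cfsg.hermForm n F q u v = 0) ∧
    W.map (Matrix.toLin' M) ≤ W

theorem hasTS_of {σ : F →+* F} {B : (Fin n → F) →ₛₗ[σ] (Fin n → F) →ₗ[F] F}
    (hB : ∀ x y, B x y = Cfsg.hermForm n F q y x) {M : Matrix (Fin n) (Fin n) F} {T : Module.End F (Fin n → F)}
    {a : F} (ha : ∀ v, Matrix.toLin' M v = a • T v)
    (h : ∃ W, Inv T W ∧ finrank F W = m ∧ ∀ x ∈ W, ∀ y ∈ W, B x y = 0) : HasTS q m M := by
  obtain ⟨W, hW, hd, hts⟩ := h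
  refine ⟨W, hd, fun u hu v hv => by rw [← hB]; exact hts v hv u hu, Submodule.map_le_iff_le_comap.mpr fun v hv => ?_⟩
  show Matrix.toLin' M v ∈ W
  rw [ha]
  exact W.smul_mem a (hW v hv)

theorem exists_le_finrank {V : Type*} [AddCommGroup V] [Module F V] [FiniteDimensional F V] (W : Submodule F V)
    (hm : m ≤ finrank F W) : ∃ Y ≤ W, finrank F Y = m := by
  let b := Module.finBasis F W
  refine ⟨Submodule.span F (Set.range fun i : Fin m => (b ⟨i, by omega⟩ : V)), Submodule.span_le.mpr ?_, ?_⟩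
  · rintro _ ⟨i, rfl⟩; exact (b _).2
  · rw [finrank_span_eq_card, Fintype.card_fin]
    exact (b.linearIndependent.comp (fun i : Fin m => (⟨i, by omega⟩ : Fin (finrank F W)))
      fun i j e => Fin.ext (by simpa using congrArg Fin.val e)).map' W.subtype W.ker_subtype

variable {p : ℕ} [Fact p.Prime] [CharP F p]

theorem sign_facts (hF : Fintype.card F = q ^ 2) (hp2 : p ≠ 2) :
    (2 : F) ≠ 0 ∧ Odd q ∧ (∀ z : F, z ^ (q + 1) = 1 → ∃ s, s ^ 2 = z) := by
  have hr : ringChar F ≠ 2 := by rwa [ringChar.eq F p]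
  have hodd := FiniteField.odd_card_of_char_ne_two hr
  have hq : Odd q := by
    rw [hF] at hodd
    exact (Nat.odd_pow_iff two_ne_zero).mp (Nat.odd_iff.mpr hodd)
  refine ⟨Ring.two_ne_zero hr, hq, fun z hz => ?_⟩
  have hz0 : z ≠ 0 := fun e => by rw [e, zero_pow (Nat.succ_ne_zero q)] at hz; exact zero_ne_one hz
  obtain ⟨k, hk⟩ := hq
  obtain ⟨s, hs⟩ := (FiniteField.isSquare_iff hr hz0).mpr (by
    rw [hF, show q ^ 2 / 2 = (q + 1) * k by
      subst hk
      rw [show (2 * k + 1) ^ 2 = 2 * ((2 * k + 1 + 1) * k) + 1 by ring]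
      omega, pow_mul, hz, one_pow])
  exact ⟨s, by rw [sq, ← hs]⟩

/-- Involutions modulo scalars fix totally isotropic subspaces. -/
theorem two_pos (hF : Fintype.card F = q ^ 2) (hp2 : p ≠ 2) (hn : 0 < n) (hmn : 2 * m ≤ n) {y : GL (Fin n) F}
    (hy : y ∈ Cfsg.GU n F q) (hdet : (y : Matrix (Fin n) (Fin n) F).det = 1) {z : F}
    (hz : (y : Matrix (Fin n) (Fin n) F) ^ 2 = z • 1)
    (hcond : 2 * m < n ∨ padicValNat 2 (q + 1) ≤ padicValNat 2 n) :
    HasTS q m (y : Matrix (Fin n) (Fin n) F) := by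
  classical
  obtain ⟨h2, hq, hsq⟩ := sign_facts (p := p) hF hp2
  obtain ⟨σ, B, H, hB⟩ := exists_herm hF n
  have hzn := scalar_norm H hB hn (y := y ^ 2) (pow_mem hy 2) (by rw [Units.val_pow_eq_pow_val, hz])
  obtain ⟨s, hs⟩ := hsq z hzn
  have hs0 : s ≠ 0 := fun e => by
    rw [e, zero_pow two_ne_zero] at hs
    rw [← hs, zero_pow (Nat.succ_ne_zero q)] at hzn
    exact zero_ne_one hzn
  set L := Matrix.toLin' (y : Matrix (Fin n) (Fin n) F) with hL
  set T : Module.End F (Fin n → F) := s⁻¹ • L with hT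
  have hLT : ∀ v, L v = s • T v := fun v => by rw [hT, LinearMap.smul_apply, smul_smul, mul_inv_cancel₀ hs0, one_smul]
  have hper : T ^ 2 = 1 := by
    have h1 : Matrix.toLinAlgEquiv' ((y : Matrix (Fin n) (Fin n) F) ^ 2) = z • (1 : Module.End F (Fin n → F)) := by
      rw [hz, map_smul, map_one]
    rw [map_pow] at h1
    rw [hT, _root_.smul_pow]
    refine (congrArg (fun M => s⁻¹ ^ 2 • M) h1).trans ?_
    rw [smul_smul, ← hs, ← mul_pow, inv_mul_cancel₀ hs0, one_pow, one_smul]
  have hTT : ∀ v, T (T v) = v := fun v => by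
    have := LinearMap.congr_fun hper v
    rwa [sq] at this
  set c := s⁻¹ ^ (q + 1) with hc
  have hiso : ∀ u v, B (T u) (T v) = c * B u v := fun u v => by
    simp only [hT, LinearMap.smul_apply, LinearMap.map_smulₛₗ, map_smul, smul_eq_mul]
    rw [H.frob, ← mul_assoc, ← pow_succ', ← hc, gu_iso hB hy]
  have hc2 : c = 1 ∨ c = -1 := sq_eq_one_iff.mp (by
    rw [hc, ← pow_mul, mul_comm, pow_mul, inv_pow, hs, inv_pow, hzn, inv_one])
  rcases hc2 with hc1 | hc1
  · have hunit : ((2 : ℕ) : F) ≠ 0 := by exact_mod_cast h2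
    have hiso' : ∀ u v, B (T u) (T v) = B u v := fun u v => by rw [hiso, hc1, one_mul]
    have h : PerIso B T 2 := ⟨H.refl, hiso', hper, hunit⟩
    have h' : PerIso B (-T) 2 := ⟨H.refl, fun u v => by
      simp only [LinearMap.neg_apply, map_neg, neg_neg]
      exact hiso' u v, (neg_sq T).trans hper, hunit⟩
    set A := LinearMap.ker (aeval T (X - C (1 : F)))
    set D := LinearMap.ker (aeval (-T) (X - C (1 : F)))
    have hgeo : LinearMap.ker (aeval T (geom F 2)) = D := Submodule.ext fun v => by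
      simp only [D, geom, LinearMap.mem_ker, Finset.sum_range_succ, Finset.sum_range_zero, map_sub, map_add,
        aeval_X, aeval_C, map_one, pow_zero, pow_one, zero_add, LinearMap.add_apply, LinearMap.sub_apply,
        Module.End.one_apply, LinearMap.neg_apply]
      rw [← neg_eq_zero, neg_add]
      constructor <;> intro e <;> rw [← e] <;> abel
    obtain ⟨hsum, -⟩ := finrank_split h (inv_top (T := T))
    rw [top_inf_eq, top_inf_eq, hgeo, finrank_top, Module.finrank_fintype_fun_eq_card, Fintype.card_fin] at hsum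
    change finrank F A + finrank F D = n at hsum
    have hfit : m ≤ finrank F A / 2 + finrank F D / 2 := by
      by_contra hlt
      push Not at hlt
      have hA : A ≤ A.comap T := fun v hv => inv_ker (T := T) (X - C (1 : F)) v hv
      have hdA := A.finrank_quotient_add_finrank
      rw [Module.finrank_fintype_fun_eq_card, Fintype.card_fin] at hdA
      have hdD : Odd (finrank F D) := Nat.odd_iff.mpr (by omega)
      have hne : 2 * m = n := by omega
      have hd1 := LinearMap.det_eq_det_mul_det A T hA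
      have hr1 : T.restrict (show ∀ x ∈ A, T x ∈ A from fun x hx => hA hx) = 1 := LinearMap.ext fun v => Subtype.ext (by
        show T v = v
        have := v.2
        simpa [A, sub_eq_zero] using this)
      have hq1 : A.mapQ A T hA = (-1 : F) • 1 := LinearMap.ext fun w => by
        obtain ⟨w, rfl⟩ := Submodule.mkQ_surjective A w
        show A.mkQ (T w) = (-1 : F) • A.mkQ w
        rw [neg_one_smul, Submodule.mkQ_apply, Submodule.mkQ_apply,
          ← Submodule.Quotient.mk_neg, Submodule.Quotient.eq]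
        simp [A, sub_eq_zero, map_add, hTT, add_comm]
      rw [hr1, hq1, map_one, one_mul, LinearMap.det_smul (-1 : F), map_one, mul_one,
        show finrank F ((Fin n → F) ⧸ A) = finrank F D by omega, hdD.neg_one_pow] at hd1
      rw [hT, LinearMap.det_smul, hL, LinearMap.det_toLin', hdet, mul_one, Module.finrank_fintype_fun_eq_card,
        Fintype.card_fin, inv_pow, inv_eq_iff_eq_inv, inv_neg, inv_one] at hd1
      have hsq1 : s ^ (q + 1) = 1 := by rwa [hc, inv_pow, inv_eq_one] at hc1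
      have ha1 : orderOf s ∣ q + 1 := orderOf_dvd_of_pow_eq_one hsq1
      have hn0 : n ≠ 0 := by omega
      have ha2 : orderOf s ∣ n := dvd_of_val Nat.prime_two hn0
        (orderOf_dvd_of_pow_eq_one (by rw [mul_comm, pow_mul, hd1, neg_one_sq])) (by
          refine le_trans ?_ (hcond.resolve_left (by omega))
          exact (padicValNat_dvd_iff_le (Nat.succ_ne_zero q)).mp (pow_padicValNat_dvd.trans ha1))
      rw [orderOf_dvd_iff_pow_eq_one.mp ha2] at hd1
      exact h2 (by linear_combination hd1)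
    obtain ⟨X', hX, hXT, hXd, hXts⟩ := exists_ts_fixed H h (m := min m (finrank F A / 2))
      (show 2 * _ ≤ finrank F A by omega)
    obtain ⟨Y, hY, hYT, hYd, hYts⟩ := exists_ts_fixed H h' (m := m - min m (finrank F A / 2))
      (show 2 * _ ≤ finrank F D by omega)
    have hYR : ∀ v ∈ Y, v ∈ LinearMap.ker (aeval T (geom F 2)) := fun v hv => hgeo.ge (hY hv)
    refine hasTS_of hB hLT ⟨X' ⊔ Y, hXT.sup fun v hv => ?_, ?_, fun u hu v hv => ?_⟩
    · have := Y.neg_mem (hYT v hv)
      simpa using this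
    · have h3 := Submodule.finrank_sup_add_finrank_inf_eq X' Y
      rw [(Submodule.eq_bot_iff (X' ⊓ Y)).mpr fun v hv => (fix_perp h (hX hv.1) (hYR v hv.2)).2 rfl, finrank_bot,
        hXd, hYd] at h3
      omega
    · obtain ⟨u₁, hu₁, u₂, hu₂, rfl⟩ := Submodule.mem_sup.mp hu
      obtain ⟨v₁, hv₁, v₂, hv₂, rfl⟩ := Submodule.mem_sup.mp hv
      simp only [map_add, LinearMap.add_apply, hXts u₁ hu₁ v₁ hv₁, hYts u₂ hu₂ v₂ hv₂,
        (fix_perp h (hX hu₁) (hYR _ hv₂)).1, H.refl _ _ (fix_perp h (hX hv₁) (hYR _ hu₂)).1, add_zero]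
  · have hts : ∀ e : F, e ^ (q + 1) = 1 → ∀ u v, T u = e • u → T v = e • v → B u v = 0 := fun e he u v hu hv => by
      have h1 := hiso u v
      simp only [hu, hv, LinearMap.map_smulₛₗ, LinearMap.smul_apply, map_smul, smul_eq_mul] at h1
      rw [H.frob, ← mul_assoc, ← pow_succ', he, one_mul, hc1] at h1
      exact (mul_eq_zero.mp (show (2 : F) * B u v = 0 by linear_combination h1)).resolve_left h2
    set A := LinearMap.ker (T - 1)
    set D := LinearMap.ker (T + 1)
    have hle : LinearMap.range (T - 1) ≤ D := by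
      rintro _ ⟨v, rfl⟩
      simp [D, map_sub, hTT]
      abel
    have hdim := LinearMap.finrank_range_add_finrank_ker (T - 1)
    rw [Module.finrank_fintype_fun_eq_card, Fintype.card_fin] at hdim
    change finrank F (LinearMap.range (T - 1)) + finrank F A = n at hdim
    have := Submodule.finrank_mono hle
    have hA : ∀ v ∈ A, T v = (1 : F) • v := fun v hv => by simpa [A, sub_eq_zero] using hv
    have hD : ∀ v ∈ D, T v = (-1 : F) • v := fun v hv => by
      simpa [D, neg_one_smul, add_eq_zero_iff_eq_neg] using hv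
    have hA2 := two_mul_le H (le_top : A ≤ ⊤) (fun u hu v hv => hts 1 (one_pow _) u v (hA u hu) (hA v hv))
      fun u _ h => H.nd u fun v => h v trivial
    have hD2 := two_mul_le H (le_top : D ≤ ⊤) (fun u hu v hv => hts (-1) hq.add_one.neg_one_pow u v (hD u hu) (hD v hv))
      fun u _ h => H.nd u fun v => h v trivial
    rw [finrank_top, Module.finrank_fintype_fun_eq_card, Fintype.card_fin] at hA2 hD2
    obtain ⟨W, hW, hWd⟩ := exists_le_finrank A (m := m) (by omega)
    refine hasTS_of hB hLT ⟨W, fun v hv => ?_, hWd, fun u hu v hv =>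
      hts 1 (one_pow _) u v (hA u (hW hu)) (hA v (hW hv))⟩
    rw [hA v (hW hv), one_smul]
    exact hv

/-- An involution modulo scalars fixing no maximal totally isotropic subspace. -/
theorem two_neg (hF : Fintype.card F = q ^ 2) (hp2 : p ≠ 2) (hn : 2 < n) (hmn : 2 * m = n)
    (hv : padicValNat 2 n < padicValNat 2 (q + 1)) : ∃ x : Matrix.SpecialLinearGroup (Fin n) F, x ∈ Cfsg.SU n F q ∧
      (∃ z : F, ((x ^ 2 : Matrix.SpecialLinearGroup (Fin n) F) : Matrix (Fin n) (Fin n) F) = z • 1) ∧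
      (∀ z : F, (x : Matrix (Fin n) (Fin n) F) ≠ z • 1) ∧ ¬ HasTS q m (x : Matrix (Fin n) (Fin n) F) := by
  classical
  obtain ⟨h2, hq, -⟩ := sign_facts (p := p) hF hp2
  set v := padicValNat 2 n
  obtain ⟨u, hu⟩ := CfsgLib.UnitaryBasic.exists_zeta hF
  have hdvd : 2 ^ (v + 1) ∣ q + 1 := (pow_dvd_pow 2 hv).trans pow_padicValNat_dvd
  obtain ⟨d, hd⟩ := hdvd
  have hd0 : d ≠ 0 := fun e => by rw [e, mul_zero] at hd; omega
  set ζ := u ^ d
  have hζ : orderOf ζ = 2 ^ (v + 1) := by
    rw [orderOf_pow_of_dvd hd0 ⟨2 ^ (v + 1), by rw [hu, hd, mul_comm]⟩, hu, hd,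
      Nat.mul_div_cancel _ (Nat.pos_of_ne_zero hd0)]
  have hζq : ((ζ : F)) ^ (q + 1) = 1 := by
    rw [← Units.val_pow_eq_pow_val, hd, pow_mul, ← hζ, pow_orderOf_eq_one, one_pow, Units.val_one]
  set s : F := Units.val ζ
  have hsv : s ^ 2 ^ v = -1 := by
    have h1 : (s ^ 2 ^ v) ^ 2 = 1 := by
      rw [← pow_mul, ← pow_succ, ← hζ, ← Units.val_pow_eq_pow_val, pow_orderOf_eq_one, Units.val_one]
    refine (sq_eq_one_iff.mp h1).resolve_left fun e => ?_
    have h3 := Nat.le_of_dvd (by positivity) (hζ ▸ orderOf_dvd_of_pow_eq_one (Units.ext (show (ζ : F) ^ 2 ^ v = 1 from e) :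
      ζ ^ 2 ^ v = 1))
    rw [pow_succ] at h3
    have := Nat.two_pow_pos v
    omega
  have hsn : s ^ n = -1 := by
    obtain ⟨o, ho⟩ : 2 ^ v ∣ n := pow_padicValNat_dvd
    have hodd : Odd o := Nat.not_even_iff_odd.mp fun ⟨k, hk⟩ =>
      pow_succ_padicValNat_not_dvd (p := 2) (show n ≠ 0 by omega) ⟨k, ho.trans (by rw [hk, pow_succ]; ring)⟩
    rw [ho, pow_mul, hsv, hodd.neg_one_pow]
  have hs0 : s ≠ 0 := ζ.ne_zero
  let j₀ : Fin n := ⟨0, by omega⟩
  let e : Fin n → F := fun i => if i = j₀ then -1 else 1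
  let D : Matrix (Fin n) (Fin n) F := Matrix.diagonal fun i => e i * s
  have hdet : D.det = 1 := by
    rw [Matrix.det_diagonal, Finset.prod_mul_distrib, Finset.prod_ite_eq', Finset.prod_const, Finset.card_univ,
      Fintype.card_fin, hsn]
    simp
  have he : ∀ i, e i = 1 ∨ e i = -1 := fun i => by simp only [e]; split_ifs <;> simp
  let x : Matrix.SpecialLinearGroup (Fin n) F := ⟨D, hdet⟩
  refine ⟨x, fun a b => ?_, ⟨s ^ 2, ?_⟩, fun z hz => ?_, ?_⟩
  · refine CfsgLib.UnitaryBasic.diag_preserves (fun i => ?_) a b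
    rcases he i with h | h <;> rw [h]
    · rw [one_mul, hζq]
    · rw [neg_one_mul, hq.add_one.neg_pow, hζq]
  · rw [Matrix.SpecialLinearGroup.coe_pow, show (x : Matrix (Fin n) (Fin n) F) = D from rfl,
      Matrix.diagonal_pow, Matrix.smul_one_eq_diagonal]
    congr 1
    funext i
    rcases he i with h | h <;> simp [h]
  · have h0 := congrFun (congrFun hz j₀) j₀
    have h1 := congrFun (congrFun hz ⟨1, by omega⟩) ⟨1, by omega⟩
    simp [x, D, e, j₀] at h0 h1
    rw [← h1] at h0
    exact h2 ((mul_eq_zero.mp (show (2 : F) * s = 0 by linear_combination -h0)).resolve_right hs0)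
  rintro ⟨W, hWd, hts, hW⟩
  obtain ⟨σ, B, H, hB⟩ := exists_herm hF n
  set Y := LinearMap.ker (LinearMap.proj j₀ : (Fin n → F) →ₗ[F] F)
  have hWY : W ≤ Y := fun w hw => by
    have h1 : Matrix.toLin' D w ∈ W := hW ⟨w, hw, rfl⟩
    have h2' : Matrix.toLin' D w - s • w = Pi.single j₀ (-2 * s * w j₀) := funext fun i => by
      rw [Pi.sub_apply, Matrix.toLin'_apply, Matrix.mulVec_diagonal]
      by_cases hi : i = j₀
      · subst hi; simp [e]; ring
      · simp [e, hi]
    have h3 := W.sub_mem h1 (W.smul_mem s hw)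
    rw [h2'] at h3
    have h4 := hts _ h3 _ h3
    have hq0 : q ≠ 0 := by have := H.one_lt; omega
    simp [Cfsg.hermForm, Pi.single_apply, zero_pow hq0, h2, hs0] at h4
    simp only [Y, LinearMap.mem_ker, LinearMap.proj_apply]
    tauto
  have hYn : NDS B Y := fun x hx h => H.nd x fun y => by
    have h1 := h (y - Pi.single j₀ (y j₀)) (by simp [Y])
    rw [map_sub, sub_eq_zero] at h1
    rw [h1, hB]
    have : x j₀ = 0 := hx
    have hq0 : q ≠ 0 := by have := H.one_lt; omega
    simp [Cfsg.hermForm, Pi.single_apply, this, zero_pow hq0]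
  have hle := two_mul_le H hWY (fun a ha b hb => by rw [hB]; exact hts b hb a ha) hYn
  have hr := LinearMap.finrank_range_add_finrank_ker (LinearMap.proj j₀ : (Fin n → F) →ₗ[F] F)
  rw [LinearMap.range_eq_top.mpr fun a => ⟨Pi.single j₀ a, by simp⟩, finrank_top, Module.finrank_self,
    Module.finrank_fintype_fun_eq_card, Fintype.card_fin] at hr
  change 1 + finrank F Y = n at hr
  omega

end CfsgLib.HermIso
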