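/-
Unitary elements whose `r`th power is a scalar without an `r`th root.
-/
import Cfsg.Agent.Lib.HermIso.Two
import Cfsg.Agent.Lib.MaxSub.ElusiveGL

set_option autoImplicit false
set_option linter.unusedSectionVars false
set_option maxHeartbeats 1000000

namespace CfsgLib.HermIso

open Polynomial Module CfsgLib.PrimeIso CfsgLib.MaxSub.Elusive
open scoped Matrix MatrixGroups

universe u

variable {F : Type u} [Field F] [Fintype F] {q n m : ℕ} {r : ℕ} [Fact r.Prime]

theorem rth_power_of_pow (hF : Fintype.card F = q ^ 2) {d : ℕ} (hd : q + 1 = r * d) {z : F} (hz0 : z ≠ 0)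
    (hz : z ^ d = 1) : ∃ a : F, a ^ r = z := by
  classical
  have hq := (CfsgLib.UnitaryBasic.frob_exists hF).1
  obtain ⟨g, hg⟩ := IsCyclic.exists_ofOrder_eq_natCard (α := Fˣ)
  rw [Nat.card_units, Nat.card_eq_fintype_card, hF, show q ^ 2 - 1 = r * (d * (q - 1)) by
    rw [← mul_assoc, ← hd, ← Nat.sq_sub_sq, one_pow]] at hg
  obtain ⟨k, hk⟩ : ∃ k : ℕ, g ^ k = Units.mk0 z hz0 := by
    have h : Units.mk0 z hz0 ∈ Subgroup.zpowers g := by
      rw [Subgroup.eq_top_of_card_eq (Subgroup.zpowers g) (by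
        rw [Nat.card_zpowers, hg, Nat.card_units, Nat.card_eq_fintype_card, hF,
          ← mul_assoc, ← hd, ← Nat.sq_sub_sq, one_pow])]
      exact Subgroup.mem_top _
    exact mem_powers_iff_mem_zpowers.mpr h
  have h1 : g ^ (k * (d * (q - 1))) = 1 := by
    rw [pow_mul, hk]
    exact Units.ext (by rw [Units.val_pow_eq_pow_val, Units.val_mk0, pow_mul, hz, one_pow, Units.val_one])
  have h2 := orderOf_dvd_of_pow_eq_one h1
  rw [hg] at h2
  have hpos : 0 < d * (q - 1) := Nat.mul_pos (Nat.pos_of_ne_zero fun e => by rw [e, mul_zero] at hd; omega) (by omega)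
  obtain ⟨l, rfl⟩ := Nat.dvd_of_mul_dvd_mul_right hpos h2
  refine ⟨((g ^ l : Fˣ) : F), ?_⟩
  rw [← Units.val_pow_eq_pow_val, ← pow_mul, mul_comm, hk, Units.val_mk0]

/-- When the `r`th power is a scalar without a root, `n` has more factors `r` than `q + 1`. -/
theorem nonpower_val (hF : Fintype.card F = q ^ 2) (hr2 : r ≠ 2) (hrq : r ∣ q + 1) (hn : n ≠ 0) {z : F}
    (hz : z ^ (q + 1) = 1) (hnp : ∀ a : F, a ^ r ≠ z) {M : Matrix (Fin n) (Fin n) F} (hM : M ^ r = z • 1)
    (hdet : M.det = 1) : padicValNat r (q + 1) < padicValNat r n := by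
  have hr : r.Prime := Fact.out
  have hT : Matrix.toLin' M ^ r = z • (1 : Module.End F (Fin n → F)) := by
    have h1 : Matrix.toLinAlgEquiv' (M ^ r) = z • (1 : Module.End F (Fin n → F)) := by rw [hM, map_smul, map_one]
    rwa [map_pow] at h1
  obtain ⟨hrn, hd, -⟩ := twisted_dims hr (Matrix.toLin' M) hnp hT
  rw [LinearMap.det_toLin', hdet, (hr.odd_of_ne_two hr2).neg_one_pow, neg_one_mul, neg_neg] at hd
  obtain ⟨d, hd'⟩ := hrq
  obtain ⟨o, rfl⟩ := hrn
  rw [Nat.mul_div_cancel_left _ hr.pos] at hd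
  have hd0 : d ≠ 0 := fun e => by rw [e, mul_zero] at hd'; omega
  have ho : o ≠ 0 := fun e => hn (by rw [e, mul_zero])
  by_contra hle
  push Not at hle
  rw [hd', padicValNat.mul hr.ne_zero hd0, padicValNat.mul hr.ne_zero ho, padicValNat.self hr.one_lt] at hle
  have hz0 : z ≠ 0 := fun e => by rw [e, zero_pow (Nat.succ_ne_zero q)] at hz; exact zero_ne_one hz
  have ha : orderOf z ∣ d := dvd_of_val hr hd0 (hd' ▸ orderOf_dvd_of_pow_eq_one hz) (by
    have h1 := (padicValNat_dvd_iff_le ho).mp (pow_padicValNat_dvd.trans (orderOf_dvd_of_pow_eq_one hd.symm) :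
      r ^ padicValNat r (orderOf z) ∣ o)
    omega)
  obtain ⟨a, ha'⟩ := rth_power_of_pow hF hd' hz0 (orderOf_dvd_iff_pow_eq_one.mp ha)
  exact hnp a ha'

/-- An element with only invariant subspaces of dimension divisible by `r`. -/
theorem block_neg (hF : Fintype.card F = q ^ 2) (hr2 : r ≠ 2) (hrq : r ∣ q + 1) (hn : 0 < n)
    (hv : padicValNat r (q + 1) < padicValNat r n) :
    ∃ x : Matrix.SpecialLinearGroup (Fin n) F, x ∈ Cfsg.SU n F q ∧
      (∃ z : F, ((x ^ r : Matrix.SpecialLinearGroup (Fin n) F) : Matrix (Fin n) (Fin n) F) = z • 1) ∧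
      (∀ z : F, (x : Matrix (Fin n) (Fin n) F) ≠ z • 1) ∧
      ∀ W : Submodule F (Fin n → F), W.map (Matrix.toLin' (x : Matrix (Fin n) (Fin n) F)) ≤ W →
        r ∣ finrank F W := by
  classical
  have hr : r.Prime := Fact.out
  set V := padicValNat r (q + 1)
  obtain ⟨u, hu⟩ := CfsgLib.UnitaryBasic.exists_zeta hF
  obtain ⟨d, hd⟩ : r ^ V ∣ q + 1 := pow_padicValNat_dvd
  have hd0 : d ≠ 0 := fun e => by rw [e, mul_zero] at hd; omega
  have hζ : orderOf (u ^ d) = r ^ V := by
    rw [orderOf_pow_of_dvd hd0 ⟨r ^ V, by rw [hu, hd, mul_comm]⟩, hu, hd, Nat.mul_div_cancel _ (Nat.pos_of_ne_zero hd0)]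
  set z : F := Units.val (u ^ d) with hzdef
  have hzord : orderOf z = r ^ V := by rw [hzdef, orderOf_units, hζ]
  have hzq : z ^ (q + 1) = 1 := orderOf_dvd_iff_pow_eq_one.mp (hzord ▸ ⟨d, hd⟩)
  have hnp : ∀ a : F, a ^ r ≠ z := fun a ha => by
    have h1 := root_norm_one hF hr2 hrq (a := a) (by rw [ha]; exact hzq)
    obtain ⟨e, he⟩ := hrq
    have h2 : z ^ e = 1 := by rw [← ha, ← pow_mul, ← he, h1]
    have h3 := mul_dvd_mul_left r (orderOf_dvd_of_pow_eq_one h2)
    rw [hzord, ← he, ← pow_succ'] at h3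
    exact pow_succ_padicValNat_not_dvd (Nat.succ_ne_zero q) h3
  obtain ⟨o, rfl⟩ : r ∣ n := dvd_of_one_le_padicValNat (by omega)
  have ho : o ≠ 0 := fun e => by simp [e] at hn
  have hzo : z ^ o = 1 := by
    refine orderOf_dvd_iff_pow_eq_one.mp (hzord ▸ (padicValNat_dvd_iff_le ho).mpr ?_)
    rw [padicValNat.mul hr.ne_zero ho, padicValNat.self hr.one_lt] at hv
    omega
  have : NeZero r := ⟨hr.ne_zero⟩
  let e : Fin (r * o) ≃ ZMod r × Fin o :=
    finProdFinEquiv.symm.trans ((Fintype.equivOfCardEq (by simp)).prodCongr (Equiv.refl _))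
  let π : Equiv.Perm (Fin (r * o)) := e.permCongr.symm ((Equiv.addRight (1 : ZMod r)).prodCongr (Equiv.refl _))
  let c : ZMod r → F := fun a => if a = 0 then z else 1
  let D : Fin (r * o) → F := fun i => c (e i).1
  let M : Matrix (Fin (r * o)) (Fin (r * o)) F := Matrix.diagonal D * π.permMatrix F
  have hMv : ∀ v i, Matrix.toLin' M v i = D i * v (π i) := fun v i => by
    rw [Matrix.toLin'_apply, ← Matrix.mulVec_mulVec, Matrix.mulVec_diagonal, Matrix.permMatrix_mulVec]
    rfl
  have hπe : ∀ i, e (π i) = ((e i).1 + 1, (e i).2) := fun i => by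
    simp [π, Prod.map]
  have hpow : ∀ j : ℕ, ∀ v i, (Matrix.toLin' M ^ j) v i =
      (∏ l ∈ Finset.range j, c ((e i).1 + l)) * v (e.symm ((e i).1 + j, (e i).2)) := by
    intro j
    induction j with
    | zero => intro v i; simp
    | succ j ih =>
      intro v i
      rw [pow_succ', Module.End.mul_apply, hMv, ih, hπe, Finset.prod_range_succ', Nat.cast_zero, add_zero,
        Nat.cast_succ, ← mul_assoc, mul_comm (D i)]
      simp only [D, Nat.cast_succ, add_assoc, add_comm (1 : ZMod r)]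
  have hprod : ∀ a : ZMod r, ∏ l ∈ Finset.range r, c (a + l) = z := fun a => by
    rw [Finset.prod_range fun l => c (a + (l : ZMod r))]
    refine (Fintype.prod_bijective (fun l : Fin r => a + ((l : ℕ) : ZMod r))
      ((Fintype.bijective_iff_injective_and_card _).mpr ⟨fun x y h => Fin.ext ?_, by simp⟩) _ c fun l => rfl).trans ?_
    · have := congrArg ZMod.val (add_left_cancel h)
      rwa [ZMod.val_natCast_of_lt x.2, ZMod.val_natCast_of_lt y.2] at this
    · simp [c]
  have hTr : Matrix.toLin' M ^ r = z • (1 : Module.End F (Fin (r * o) → F)) := LinearMap.ext fun v => funext fun i => by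
    rw [hpow, hprod, ZMod.natCast_self, add_zero, Prod.mk.eta, Equiv.symm_apply_apply]
    rfl
  have hπr : π ^ r = 1 := by
    have h1 : ∀ j : ℕ, ∀ i, e ((π ^ j) i) = ((e i).1 + j, (e i).2) := by
      intro j
      induction j with
      | zero => intro i; simp
      | succ j ih => intro i; rw [pow_succ', Equiv.Perm.mul_apply, hπe, ih, Nat.cast_succ, add_assoc]
    exact Equiv.ext fun i => e.injective (by rw [h1, ZMod.natCast_self, add_zero]; rfl)
  have hsign : Equiv.Perm.sign π = 1 := by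
    have h1 : Equiv.Perm.sign π ^ r = 1 := by rw [← map_pow, hπr, map_one]
    rcases Int.units_eq_one_or (Equiv.Perm.sign π) with h | h
    · exact h
    · rw [h, (hr.odd_of_ne_two hr2).neg_one_pow] at h1
      exact absurd h1 (by decide)
  have hdet : M.det = 1 := by
    rw [Matrix.det_mul, Matrix.det_diagonal, Matrix.det_permutation, hsign, Units.val_one, Int.cast_one, mul_one,
      ← e.symm.prod_comp D, Fintype.prod_prod_type]
    simp [D, c, Finset.prod_ite_eq', hzo]
  let x : Matrix.SpecialLinearGroup (Fin (r * o)) F := ⟨M, hdet⟩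
  have hxr : ((x ^ r : Matrix.SpecialLinearGroup (Fin (r * o)) F) : Matrix (Fin (r * o)) (Fin (r * o)) F) = z • 1 := by
    refine Matrix.toLinAlgEquiv'.injective ?_
    rw [Matrix.SpecialLinearGroup.coe_pow, map_pow, map_smul, map_one]
    exact hTr
  refine ⟨x, fun a b => ?_, ⟨z, hxr⟩, fun w hw => ?_, fun W hW => ?_⟩
  · show Cfsg.hermForm _ F q (M *ᵥ a) (M *ᵥ b) = _
    simp only [Cfsg.hermForm, ← Matrix.toLin'_apply, hMv]
    rw [← Equiv.sum_comp π fun i => a i * b i ^ q]
    refine Finset.sum_congr rfl fun i _ => ?_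
    have h1 : D i ^ (q + 1) = 1 := by simp only [D, c]; split_ifs <;> simp [hzq]
    rw [pow_succ'] at h1
    linear_combination (a (π i) * b (π i) ^ q) * h1
  · have : NeZero (r * o) := ⟨hn.ne'⟩
    rw [Matrix.SpecialLinearGroup.coe_pow, hw, _root_.smul_pow, one_pow] at hxr
    have := congrFun (congrFun hxr 0) 0
    simp at this
    exact hnp w this
  · have hinv : Inv (Matrix.toLin' M) W := fun v hv => hW ⟨v, hv, rfl⟩
    set g : F[X] := X ^ r - C z
    have hgd : g.natDegree = r := natDegree_X_pow_sub_C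
    refine (dims_of_ker (P := g) (fun g' h1 h2 h3 => ?_) hinv fun v _ => ?_).1
    · rw [← hgd]
      exact natDegree_eq_of_degree_eq (degree_eq_degree_of_associated
        (h1.associated_of_dvd (X_pow_sub_C_irreducible_of_prime hr hnp) h3))
    · rw [LinearMap.mem_ker, map_sub, map_pow, aeval_X, aeval_C, hTr, Module.algebraMap_end_eq_smul_id]
      show z • v - z • v = 0
      rw [sub_self]

end CfsgLib.HermIso
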