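/-
Non-degenerate subspaces of Hermitian spaces: complements and orthonormal frames.
-/
import Cfsg.Agent.Lib.HermIso.Models

set_option autoImplicit false
set_option linter.unusedSectionVars false
set_option maxHeartbeats 1000000

namespace CfsgLib.HermIso

open Polynomial Module CfsgLib.PrimeIso CfsgLib.MaxSub.Elusive
open scoped Matrix MatrixGroups

universe u v

variable {F : Type u} [Field F] [Fintype F] {σ : F →+* F} {V : Type v} [AddCommGroup V] [Module F V]
  [FiniteDimensional F V] {q : ℕ} {B : V →ₛₗ[σ] V →ₗ[F] F} {T : Module.End F V}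

/-- A sesquilinear form vanishing on the diagonal vanishes. -/
theorem polar_zero (H : Herm q B) (β : V →ₛₗ[σ] V →ₗ[F] F) {K : Submodule F V} (h : ∀ x ∈ K, β x x = 0) :
    ∀ x ∈ K, ∀ y ∈ K, β x y = 0 := by
  intro x hx y hy
  obtain ⟨θ, hθ⟩ := H.moved
  have h1 := h (x + y) (add_mem hx hy)
  have h2 := h (θ • x + y) (add_mem (K.smul_mem θ hx) hy)
  simp only [map_add, LinearMap.add_apply, LinearMap.map_smulₛₗ, LinearMap.smul_apply, map_smul, smul_eq_mul,
    h x hx, h y hy, mul_zero, add_zero, zero_add] at h1 h2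
  have : (σ θ - θ) * β x y = 0 := by linear_combination h2 - θ * h1
  exact (mul_eq_zero.mp this).resolve_left (sub_ne_zero.mpr hθ)

/-- A non-degenerate subspace has an anisotropic vector. -/
theorem exists_aniso (H : Herm q B) {U : Submodule F V} (hU : NDS B U) (hne : U ≠ ⊥) : ∃ x ∈ U, B x x ≠ 0 := by
  by_contra hno
  push Not at hno
  obtain ⟨x, hx, hx0⟩ := Submodule.exists_mem_ne_zero_of_ne_bot hne
  exact hx0 (hU x hx fun y hy => polar_zero H B hno x hx y hy)

/-- Elements fixed by the involution are norms. -/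
theorem exists_norm (H : Herm q B) {a : F} (ha0 : a ≠ 0) (ha : σ a = a) : ∃ t, t ≠ 0 ∧ σ t * t = a := by
  classical
  have hq := H.one_lt
  have hM : (q + 1) * (q - 1) = Fintype.card F - 1 := by rw [H.card, ← Nat.sq_sub_sq, one_pow]
  obtain ⟨g, hg⟩ := IsCyclic.exists_ofOrder_eq_natCard (α := Fˣ)
  have hgt : Subgroup.zpowers g = ⊤ := Subgroup.eq_top_of_card_eq _ (by rw [Nat.card_zpowers, hg])
  rw [Nat.card_units, Nat.card_eq_fintype_card, ← hM] at hg
  obtain ⟨k, hk⟩ := (mem_powers_iff_mem_zpowers (x := g)).mpr (hgt ▸ Subgroup.mem_top (Units.mk0 a ha0))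
  change g ^ k = _ at hk
  have h1 : g ^ (k * (q - 1)) = 1 := by
    refine Units.ext ?_
    rw [pow_mul, hk, Units.val_pow_eq_pow_val, Units.val_mk0, Units.val_one]
    refine mul_right_cancel₀ ha0 ?_
    rw [← pow_succ, Nat.sub_add_cancel hq.le, one_mul, ← H.frob, ha]
  have h2 := orderOf_dvd_of_pow_eq_one h1
  rw [hg] at h2
  obtain ⟨l, rfl⟩ := Nat.dvd_of_mul_dvd_mul_right (by omega) h2
  refine ⟨(g ^ l : Fˣ), Units.ne_zero _, ?_⟩
  rw [H.frob, ← pow_succ, ← Units.val_pow_eq_pow_val, ← pow_mul, mul_comm, hk, Units.val_mk0]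

/-- The part of `U` orthogonal to `Y`. -/
def perpH (B : V →ₛₗ[σ] V →ₗ[F] F) (Y U : Submodule F V) : Submodule F V where
  carrier := {x | x ∈ U ∧ ∀ y ∈ Y, B y x = 0}
  zero_mem' := ⟨zero_mem U, fun y _ => map_zero (B y)⟩
  add_mem' := fun ha hb => ⟨add_mem ha.1 hb.1, fun y hy => by rw [map_add, ha.2 y hy, hb.2 y hy, add_zero]⟩
  smul_mem' := fun c x hx => ⟨U.smul_mem c hx.1, fun y hy => by rw [map_smul, hx.2 y hy, smul_zero]⟩

omit [Fintype F] [FiniteDimensional F V] in
theorem perpH_le {Y U : Submodule F V} : perpH B Y U ≤ U := fun _ hx => hx.1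

omit [Fintype F] in
theorem finrank_perpH_ge {Y U : Submodule F V} : finrank F U ≤ finrank F (perpH B Y U) + finrank F Y := by
  let b := Module.finBasis F Y
  let L : U →ₗ[F] (Fin (finrank F Y) → F) := LinearMap.pi fun a => (B (b a : V)).comp U.subtype
  have hk : (LinearMap.ker L).map U.subtype ≤ perpH B Y U := by
    rintro _ ⟨x, hx, rfl⟩
    refine ⟨x.2, fun y hy => ?_⟩
    have hsum : y = ∑ a, ((b.repr ⟨y, hy⟩ a • b a : Y) : V) := by rw [← Submodule.coe_sum, b.sum_repr]
    rw [hsum]
    simp only [Submodule.coe_smul, map_sum, LinearMap.map_smulₛₗ, LinearMap.sum_apply, LinearMap.smul_apply]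
    refine Finset.sum_eq_zero fun a _ => ?_
    have := congrFun (LinearMap.mem_ker.mp hx) a
    simp [L] at this
    simp [this]
  have h1 := LinearMap.finrank_range_add_finrank_ker L
  have h2 := Submodule.finrank_le (LinearMap.range L)
  rw [Module.finrank_fin_fun] at h2
  have h3 := Submodule.finrank_mono hk
  rw [Submodule.finrank_map_subtype_eq] at h3
  omega

/-- An orthogonal complement inside a subspace. -/
theorem split_perpH (H : Herm q B) {Y U : Submodule F V} (hYU : Y ≤ U) (hY : NDS B Y) (hU : NDS B U) :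
    NDS B (perpH B Y U) ∧ Y ⊓ perpH B Y U = ⊥ ∧ Y ⊔ perpH B Y U = U ∧
      finrank F Y + finrank F (perpH B Y U) = finrank F U := by
  have hinf : Y ⊓ perpH B Y U = ⊥ := (Submodule.eq_bot_iff _).mpr fun x hx =>
    hY x hx.1 fun y hy => H.refl y x (hx.2.2 y hy)
  have h1 := Submodule.finrank_sup_add_finrank_inf_eq Y (perpH B Y U)
  rw [hinf, finrank_bot, add_zero] at h1
  have hle : Y ⊔ perpH B Y U ≤ U := sup_le hYU perpH_le
  have h2 := finrank_perpH_ge (B := B) (Y := Y) (U := U)
  have h3 := Submodule.finrank_mono hle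
  have heq : Y ⊔ perpH B Y U = U := Submodule.eq_of_le_of_finrank_le hle (by omega)
  refine ⟨fun x hx hp => hU x hx.1 fun u hu => ?_, hinf, heq, by omega⟩
  obtain ⟨y, hy, z, hz, rfl⟩ := Submodule.mem_sup.mp (heq.ge hu)
  rw [map_add, hp z hz, add_zero]
  exact H.refl y x (hx.2 y hy)

omit [Fintype F] in
theorem inv_perpH {r : ℕ} (h : PerIso B T r) {Y U : Submodule F V} (hY : Inv T Y) (hU : Inv T U) :
    Inv T (perpH B Y U) := fun x hx => ⟨hU x hx.1, fun w hw => by
  have hw' : T ((T ^ (r - 1)) w) = w := by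
    rw [← Module.End.mul_apply, ← pow_succ', Nat.sub_add_cancel h.pos, h.per, Module.End.one_apply]
  rw [← hw', h.iso]
  exact hx.2 _ (hY.pow _ w hw)⟩

/-- Orthogonal non-degenerate subspaces span a non-degenerate one. -/
theorem nds_sup (H : Herm q B) {X Y : Submodule F V} (hX : NDS B X) (hY : NDS B Y)
    (hXY : ∀ x ∈ X, ∀ y ∈ Y, B x y = 0) :
    NDS B (X ⊔ Y) ∧ finrank F ↥(X ⊔ Y) = finrank F X + finrank F Y := by
  refine ⟨fun z hz hp => ?_, ?_⟩
  · obtain ⟨a, ha, b, hb, rfl⟩ := Submodule.mem_sup.mp hz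
    have ha0 : a = 0 := hX a ha fun y hy => by
      have h3 := hp y (Submodule.mem_sup_left hy)
      rwa [map_add, LinearMap.add_apply, H.refl y b (hXY y hy b hb), add_zero] at h3
    subst ha0
    rw [zero_add] at hp ⊢
    exact hY b hb fun y hy => hp y (Submodule.mem_sup_right hy)
  · have h3 := Submodule.finrank_sup_add_finrank_inf_eq X Y
    rw [(Submodule.eq_bot_iff (X ⊓ Y)).mpr fun z hz => hX z hz.1 fun y hy => H.refl _ _ (hXY y hy z hz.2),
      finrank_bot, add_zero] at h3
    exact h3

/-- Orthonormal families. -/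
theorem frame_span (H : Herm q B) {k : ℕ} {e : Fin k → V} (he : ∀ i j, B (e i) (e j) = if i = j then 1 else 0) :
    LinearIndependent F e ∧ NDS B (Submodule.span F (Set.range e)) ∧
      finrank F (Submodule.span F (Set.range e)) = k := by
  have hc : ∀ (c : Fin k → F) j, B (∑ i, c i • e i) (e j) = σ (c j) := fun c j => by
    simp [map_sum, LinearMap.map_smulₛₗ, he]
  have hli : LinearIndependent F e := Fintype.linearIndependent_iff.mpr fun c h0 j => σ.injective (by
    rw [← hc, h0, map_zero, map_zero, LinearMap.zero_apply])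
  refine ⟨hli, fun x hx hp => ?_, by rw [finrank_span_eq_card hli, Fintype.card_fin]⟩
  obtain ⟨c, rfl⟩ := (Submodule.mem_span_range_iff_exists_fun F).mp hx
  exact Finset.sum_eq_zero fun j _ => by
    have h1 := hp _ (Submodule.subset_span ⟨j, rfl⟩)
    rw [hc] at h1
    rw [σ.injective (h1.trans (map_zero σ).symm), zero_smul]

/-- A non-degenerate subspace has an orthonormal frame. -/
theorem exists_frame (H : Herm q B) : ∀ (k : ℕ) (U : Submodule F V), finrank F U = k → NDS B U →
    ∃ e : Fin k → V, (∀ i, e i ∈ U) ∧ ∀ i j, B (e i) (e j) = if i = j then 1 else 0 := by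
  intro k
  induction k with
  | zero => exact fun U _ _ => ⟨Fin.elim0, fun i => i.elim0, fun i => i.elim0⟩
  | succ k ih =>
    intro U hd hU
    obtain ⟨x, hx, hxx⟩ := exists_aniso H hU fun e => by rw [e, finrank_bot] at hd; omega
    obtain ⟨t, ht0, ht⟩ := exists_norm H hxx (H.symm x x).symm
    set w := t⁻¹ • x
    have hw : B w w = 1 := by
      simp only [w, LinearMap.map_smulₛₗ, LinearMap.smul_apply, map_smul, smul_eq_mul, map_inv₀]
      rw [← ht]
      have : σ t ≠ 0 := (map_ne_zero σ).mpr ht0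
      field_simp
    have hY : NDS B (Submodule.span F {w}) := fun y hy hp => by
      obtain ⟨a, rfl⟩ := Submodule.mem_span_singleton.mp hy
      have h1 := hp w (Submodule.mem_span_singleton_self w)
      simp only [LinearMap.map_smulₛₗ, LinearMap.smul_apply, smul_eq_mul, hw, mul_one] at h1
      rw [σ.injective (h1.trans (map_zero σ).symm), zero_smul]
    obtain ⟨hn, -, -, hdim⟩ := split_perpH H ((Submodule.span_singleton_le_iff_mem _ _).mpr (U.smul_mem _ hx)) hY hU
    rw [finrank_span_singleton (fun e0 => zero_ne_one (α := F) ((by rw [show w = 0 from e0, map_zero] : (0 : F) = B w w).trans hw)), hd] at hdim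
    obtain ⟨e, heU, he⟩ := ih _ (by omega) hn
    refine ⟨Fin.cons w e, fun i => ?_, fun i j => ?_⟩
    · induction i using Fin.cases with
      | zero => exact U.smul_mem _ hx
      | succ i => exact (heU i).1
    · induction i using Fin.cases with
      | zero =>
        induction j using Fin.cases with
        | zero => simpa using hw
        | succ j =>
          rw [if_neg (Fin.succ_ne_zero j).symm]
          exact (heU j).2 w (Submodule.mem_span_singleton_self w)
      | succ i =>
        induction j using Fin.cases with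
        | zero =>
          rw [if_neg (Fin.succ_ne_zero i)]
          exact H.refl _ _ ((heU i).2 w (Submodule.mem_span_singleton_self w))
        | succ j => simpa using he i j

/-- Non-degenerate subspaces of every smaller dimension. -/
theorem exists_nds_le (H : Herm q B) {U : Submodule F V} (hU : NDS B U) {a : ℕ} (ha : a ≤ finrank F U) :
    ∃ X ≤ U, NDS B X ∧ finrank F X = a := by
  obtain ⟨e, heU, he⟩ := exists_frame H _ U rfl hU
  obtain ⟨-, h1, h2⟩ := frame_span H (e := fun i : Fin a => e (Fin.castLE ha i)) fun i j => by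
    rw [he]
    simp [(Fin.castLE_injective ha).eq_iff]
  exact ⟨_, Submodule.span_le.mpr (Set.range_subset_iff.mpr fun i => heU _), h1, h2⟩

omit [FiniteDimensional F V] in
theorem nds_top (H : Herm q B) : NDS B (⊤ : Submodule F V) := fun x _ hp => H.nd x fun y => hp y trivial

/-- An isometry transported to the standard space. -/
theorem exists_gu_of (H : Herm q B) {n : ℕ} (hn : finrank F V = n) (T : Module.End F V)
    (hiso : ∀ x y, B (T x) (T y) = B x y) :
    ∃ (φ : (Fin n → F) ≃ₗ[F] V) (y : GL (Fin n) F), y ∈ Cfsg.GU n F q ∧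
      (∀ v, φ (Matrix.toLin' (y : Matrix (Fin n) (Fin n) F) v) = T (φ v)) ∧
      ∀ u v, B (φ u) (φ v) = Cfsg.hermForm n F q v u := by
  classical
  obtain ⟨e, -, he⟩ := exists_frame H n ⊤ (by rw [finrank_top, hn]) (nds_top H)
  obtain ⟨hli, -, hd⟩ := frame_span H he
  let b := Module.Basis.mk hli (Submodule.eq_top_of_finrank_eq (hd.trans hn.symm)).ge
  let φ : (Fin n → F) ≃ₗ[F] V := b.equivFun.symm
  have hφ : ∀ u v, B (φ u) (φ v) = Cfsg.hermForm n F q v u := fun u v => by
    simp only [φ, Module.Basis.equivFun_symm_apply, b, Module.Basis.coe_mk, map_sum, LinearMap.map_smulₛₗ,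
      LinearMap.sum_apply, LinearMap.smul_apply, map_smul, smul_eq_mul, he, mul_ite, mul_one, mul_zero,
      Finset.sum_ite_eq, Finset.mem_univ, if_true, Cfsg.hermForm, RingHom.id_apply]
    exact Finset.sum_congr rfl fun i _ => by simp [H.frob, mul_comm]
  let S : Module.End F (Fin n → F) := φ.symm.toLinearMap ∘ₗ T ∘ₗ φ.toLinearMap
  have hS : ∀ v, φ (S v) = T (φ v) := fun v => φ.apply_symm_apply _
  have hdet : (LinearMap.toMatrix' S).det ≠ 0 := by
    rw [LinearMap.det_toMatrix']
    refine ((LinearMap.isUnit_iff_isUnit_det _).mp ((Module.End.isUnit_iff _).mpr ?_)).ne_zero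
    have hinj : Function.Injective S := (injective_iff_map_eq_zero S).mpr fun v hv => φ.injective (by
      have h1 := hS v
      rw [hv, map_zero] at h1
      rw [map_zero]
      exact H.nd _ fun w => by rw [← hiso, ← h1, map_zero, LinearMap.zero_apply])
    exact ⟨hinj, LinearMap.injective_iff_surjective.mp hinj⟩
  refine ⟨φ, Matrix.GeneralLinearGroup.mkOfDetNeZero _ hdet, (CfsgLib.UnitaryBasic.mem_GU _).mpr fun u v => ?_,
    fun v => ?_, hφ⟩
  · show Cfsg.hermForm n F q (LinearMap.toMatrix' S *ᵥ u) (LinearMap.toMatrix' S *ᵥ v) = _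
    rw [LinearMap.toMatrix'_mulVec, LinearMap.toMatrix'_mulVec, ← hφ, ← hφ, hS, hS, hiso]
  · show φ (Matrix.toLin' (LinearMap.toMatrix' S) v) = _
    rw [Matrix.toLin'_toMatrix', hS]

end CfsgLib.HermIso
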