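/-
Elements of prime order of unitary groups and totally isotropic subspaces.
-/
import Cfsg.Agent.Lib.HermIso.Block

set_option autoImplicit false
set_option linter.unusedSectionVars false
set_option maxHeartbeats 1000000

namespace CfsgLib.HermIso

open Polynomial Module CfsgLib.PrimeIso CfsgLib.MaxSub.Elusive
open scoped Matrix MatrixGroups

universe u

variable {F : Type u} [Field F] [Fintype F] {q n m : ℕ}

/-- The orders of `q²` and `-q` in terms of that of `q`. -/
theorem order_facts (hF : Fintype.card F = q ^ 2) {r : ℕ} [Fact r.Prime] (hr2 : 2 < r) (hq : (q : ZMod r) ≠ 0)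
    {i b c : ℕ} (hi : i = orderOf (q : ZMod r)) (hb : b = if Even i then i / 2 else i)
    (hc : c = if i % 4 = 0 then i else if i % 4 = 2 then i / 2 else 2 * i) :
    b = orderOf (Fintype.card F : ZMod r) ∧ c = orderOf (-(q : ZMod r)) ∧ 0 < i ∧ (i % 4 = 2 ↔ c = b) ∧
      (i = 2 ↔ c = 1) ∧ (r ∣ q + 1 ↔ c = 1) := by
  set a := (q : ZMod r) with ha
  have hr1 : 0 < r - 1 := by omega
  have hi0 : 0 < i := hi ▸ (orderOf_pos_iff.mpr (isOfFinOrder_iff_pow_eq_one.mpr
    ⟨r - 1, hr1, ZMod.pow_card_sub_one_eq_one hq⟩))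
  have h2 := orderOf_pow' a two_ne_zero
  rw [← hi] at h2
  have hb' : b = orderOf (Fintype.card F : ZMod r) := by
    rw [hF, Nat.cast_pow, h2, hb]
    split_ifs with he
    · rw [Nat.gcd_eq_right (even_iff_two_dvd.mp he)]
    · rw [(Nat.coprime_two_right.mpr (Nat.not_even_iff_odd.mp he)).gcd_eq_one, Nat.div_one]
  have : Fact (2 < r) := ⟨hr2⟩
  have hne : (-1 : ZMod r) ≠ 1 := ZMod.neg_one_ne_one
  have hc' : c = orderOf (-a) := by
    rcases Nat.even_or_odd i with ⟨k, hk⟩ | ho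
    · have hak : a ^ k = -1 := by
        refine (sq_eq_one_iff.mp (by rw [← pow_mul, mul_two, ← hk, hi, pow_orderOf_eq_one])).resolve_left fun e => ?_
        have := Nat.le_of_dvd (by omega) (orderOf_dvd_of_pow_eq_one e)
        omega
      have hneg : -a = a ^ (k + 1) := by rw [pow_succ, hak, neg_one_mul]
      rw [hneg, orderOf_pow' a (Nat.succ_ne_zero k), ← hi]
      have hg : Nat.gcd i (k + 1) = Nat.gcd 2 (k + 1) := by
        rw [hk, ← mul_two, Nat.Coprime.gcd_mul_left_cancel]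
        exact Nat.coprime_self_add_right.mpr (Nat.coprime_one_right k)
      rw [hg, hc]
      rcases Nat.even_or_odd k with ⟨j, hj⟩ | ⟨j, hj⟩
      · rw [(Nat.coprime_two_left.mpr ⟨j, by omega⟩).gcd_eq_one, Nat.div_one, if_pos (by omega)]
      · rw [Nat.gcd_eq_left ⟨j + 1, by omega⟩, if_neg (by omega), if_pos (by omega)]
    · have h1 : orderOf (-1 : ZMod r) = 2 := orderOf_eq_prime (neg_one_sq) hne
      rw [← neg_one_mul, (Commute.all _ a).orderOf_mul_eq_mul_orderOf_of_coprime (by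
        rw [h1, ← hi]; exact Nat.coprime_two_left.mpr ho), h1, ← hi, hc]
      obtain ⟨j, hj⟩ := ho
      rw [if_neg (by omega), if_neg (by omega)]
  refine ⟨hb', hc', hi0, ?_, ?_, ?_⟩
  · rw [hb, hc]; simp only [Nat.even_iff]; split_ifs <;> omega
  · rw [hc]; split_ifs <;> omega
  · rw [hc', orderOf_eq_one_iff, ← ZMod.natCast_eq_zero_iff, Nat.cast_add, Nat.cast_one]
    constructor
    · intro h; linear_combination -h
    · intro h; linear_combination -h

variable {p r : ℕ} [Fact p.Prime] [CharP F p] [Fact r.Prime]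

/-- A matrix without an invariant isotropic subspace is no scalar. -/
theorem not_scalar (hF : Fintype.card F = q ^ 2) (hrp : r ≠ p) (hmn : 2 * m ≤ n) {M : Matrix (Fin n) (Fin n) F}
    (hno : ¬ HasTS q m M) (z : F) : M ≠ z • 1 := by
  intro hz
  obtain ⟨σ, B, H, hB⟩ := exists_herm hF n
  have h : PerIso B (1 : Module.End F (Fin n → F)) r := ⟨H.refl, fun _ _ => rfl, one_pow _,
    CfsgLib.GLClassNumber.natCast_ne_zero_of_prime_ne (p := p) Fact.out hrp⟩
  obtain ⟨W, -, hW, hd, hts⟩ := exists_ts_fixed H h (m := m) (by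
    rw [show LinearMap.ker (aeval (1 : Module.End F (Fin n → F)) (X - C (1 : F))) = ⊤ from
      Submodule.eq_top_iff'.mpr fun v => by simp, finrank_top, Module.finrank_fintype_fun_eq_card, Fintype.card_fin]
    exact hmn)
  exact hno (hasTS_of hB (T := 1) (a := z) (fun v => by
    rw [Matrix.toLin'_apply, hz, Matrix.smul_mulVec, Matrix.one_mulVec, Module.End.one_apply]) ⟨W, hW, hd, hts⟩)

/-- Every element of period `r` modulo scalars has a fixed subspace. -/
theorem pos_main (hF : Fintype.card F = q ^ 2) (hrp : r ≠ p) (hr2 : r ≠ 2) (hn : 0 < n) (hmn : 2 * m ≤ n)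
    {b c : ℕ} (hb : b = orderOf (Fintype.card F : ZMod r)) (hc : c = orderOf (-(q : ZMod r)))
    (hc1 : r ∣ q + 1 ↔ c = 1) (h1 : 2 * (m % b) ≤ n % c) (h2 : c = b → (r - 1) / b + 2 * (m / b) ≤ n / b)
    (h3 : c = 1 → r ∣ m ∨ padicValNat r n ≤ padicValNat r (q + 1))
    {y : GL (Fin n) F} (hy : y ∈ Cfsg.GU n F q) (hdet : (y : Matrix (Fin n) (Fin n) F).det = 1) {z : F}
    (hz : (y : Matrix (Fin n) (Fin n) F) ^ r = z • 1) : HasTS q m (y : Matrix (Fin n) (Fin n) F) := by
  obtain ⟨σ, B, H, hB⟩ := exists_herm hF n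
  have hzn := scalar_norm H hB hn (y := y ^ r) (pow_mem hy r) (by rw [Units.val_pow_eq_pow_val, hz])
  have hroot : (∃ a : F, a ^ r = z ∧ a ^ (q + 1) = 1) → HasTS q m (y : Matrix (Fin n) (Fin n) F) := by
    rintro ⟨a, ha, ha1⟩
    obtain ⟨T, hT, hyT⟩ := exists_reduced (p := p) H hB hrp hy ha1 (ha.symm ▸ hz)
    exact hasTS_of hB hyT (exists_ts (p := p) H hrp hT (by rw [Module.finrank_fintype_fun_eq_card, Fintype.card_fin])
      hb hc hmn h1 h2)
  by_cases hrq : r ∣ q + 1
  · by_cases hp : ∃ a : F, a ^ r = z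
    · obtain ⟨a, ha⟩ := hp
      exact hroot ⟨a, ha, root_norm_one hF hr2 hrq (by rw [ha]; exact hzn)⟩
    · push Not at hp
      have hv := nonpower_val hF hr2 hrq hn.ne' hzn hp hz hdet
      have hTr : Matrix.toLin' (y : Matrix (Fin n) (Fin n) F) ^ r = z • (1 : Module.End F (Fin n → F)) := by
        have h : Matrix.toLinAlgEquiv' ((y : Matrix (Fin n) (Fin n) F) ^ r) = z • (1 : Module.End F (Fin n → F)) := by
          rw [hz, map_smul, map_one]
        rwa [map_pow] at h
      refine hasTS_of hB (a := 1) (fun v => (one_smul F _).symm) (exists_ts_block (p := p) H hzn hTr (gu_iso hB hy) hp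
        hrp hr2 (by rw [Module.finrank_fintype_fun_eq_card, Fintype.card_fin]) hmn ?_)
      exact (h3 (hc1.mp hrq)).resolve_right (by omega)
  · exact hroot (exists_root_norm_one hrq hzn)

/-- Elements without a fixed subspace. -/
theorem neg_main (hF : Fintype.card F = q ^ 2) (hrp : r ≠ p) (hr2 : r ≠ 2) (hn : 0 < n)
    {b c : ℕ} (hb : b = orderOf (Fintype.card F : ZMod r)) (hc : c = orderOf (-(q : ZMod r)))
    (hc1 : r ∣ q + 1 ↔ c = 1) (hk : n % c < 2 * m)
    (h : ¬ (2 * (m % b) ≤ n % c ∧ (c = b → (r - 1) / b + 2 * (m / b) ≤ n / b) ∧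
      (c = 1 → r ∣ m ∨ padicValNat r n ≤ padicValNat r (q + 1)))) :
    ∃ x : Matrix.SpecialLinearGroup (Fin n) F, x ∈ Cfsg.SU n F q ∧
      (∃ z : F, ((x ^ r : Matrix.SpecialLinearGroup (Fin n) F) : Matrix (Fin n) (Fin n) F) = z • 1) ∧
      ¬ HasTS q m (x : Matrix (Fin n) (Fin n) F) := by
  classical
  obtain ⟨σ, B, H, hB⟩ := exists_herm hF n
  obtain ⟨hbpos, hcpos, hcase⟩ := orders (p := p) hF hrp hb hc
  have mk : ∀ y : GL (Fin n) F, y ∈ Cfsg.GU n F q → y ^ r = 1 → (y : Matrix (Fin n) (Fin n) F).det = 1 →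
      ¬ HasTS q m (y : Matrix (Fin n) (Fin n) F) →
      ∃ x : Matrix.SpecialLinearGroup (Fin n) F, x ∈ Cfsg.SU n F q ∧
        (∃ z : F, ((x ^ r : Matrix.SpecialLinearGroup (Fin n) F) : Matrix (Fin n) (Fin n) F) = z • 1) ∧
        ¬ HasTS q m (x : Matrix (Fin n) (Fin n) F) := fun y hy hyr hd hno => by
    let x : Matrix.SpecialLinearGroup (Fin n) F := ⟨y, hd⟩
    refine ⟨x, hy, ⟨1, ?_⟩, hno⟩
    rw [Matrix.SpecialLinearGroup.coe_pow, show (x : Matrix (Fin n) (Fin n) F) = y from rfl,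
      ← Units.val_pow_eq_pow_val, hyr, Units.val_one, one_smul]
  by_cases hA : 2 * (m % b) ≤ n % c
  swap
  · have hc1' : c ≠ 1 := fun e => by
      rcases hcase with ⟨h', -⟩ | ⟨h', -⟩
      · rw [← h', e, Nat.mod_one, mul_zero] at hA
        omega
      · omega
    obtain ⟨y, hy, hyr, hyk⟩ := exists_moved (p := p) hF hrp hc (E := n / c) (Nat.div_add_mod' n c)
    refine mk y hy hyr (det_eq_one hF ((Fact.out : r.Prime).coprime_iff_not_dvd.mpr (mt hc1.mp hc1')) hy hyr) ?_
    rintro ⟨W, hWd, hts, hW⟩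
    have h := perIso_gu (p := p) H hB hrp hy hyr
    set T := Matrix.toLin' (y : Matrix (Fin n) (Fin n) F)
    have hWT : Inv T W := fun v hv => hW ⟨v, hv, rfl⟩
    obtain ⟨hsum, -⟩ := finrank_split h hWT
    have h1 := two_mul_le H (inf_le_right : W ⊓ LinearMap.ker (aeval T (X - C (1 : F))) ≤ _)
      (fun u hu v hv => by rw [hB]; exact hts v hv.1 u hu.1) (nds_parts H h).1
    obtain ⟨t, ht⟩ := (dims_of_ker (fun g h1 h2 h3 =>
      hb ▸ geom_degree (p := p) (Fact.out : r.Prime) hrp h1 h2 h3) (hWT.inf (inv_ker _))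
      (inf_le_right : W ⊓ LinearMap.ker (aeval T (geom F r)) ≤ _)).1
    rw [ht, hWd] at hsum
    rw [← hsum, Nat.add_mul_mod_self_left] at hA
    have := Nat.mod_le (finrank F ↥(W ⊓ LinearMap.ker (aeval T (X - C (1 : F))))) b
    rw [hyk] at h1
    omega
  by_cases hB' : c = b → (r - 1) / b + 2 * (m / b) ≤ n / b
  swap
  · push Not at hB'
    obtain ⟨hcb, hlt⟩ := hB'
    subst hcb
    have hm2 := Nat.div_mul_le_self m c
    have key : ∀ E k, E = min (n / c) ((r - 1) / c) → E * c + k = n → k < 2 * m := fun E k hE hn' => by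
      rcases le_total (n / c) ((r - 1) / c) with hle | hle
      · rw [hE, min_eq_left hle] at hn'
        have := Nat.div_add_mod' n c
        omega
      · rw [hE, min_eq_right hle] at hn'
        have h5 := Nat.mul_le_mul_right c (show n / c + 1 ≤ (r - 1) / c + 2 * (m / c) by omega)
        have := Nat.div_add_mod' n c
        have := Nat.mod_lt n hcpos
        rw [add_mul, add_mul, mul_assoc] at h5
        omega
    by_cases hc' : c = 1
    · subst hc'
      simp only [Nat.div_one] at hlt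
      obtain ⟨y, hy, hyr, hdet, -, hno⟩ := exists_diag (p := p) (n := n) hF hrp hr2 (hc1.mpr rfl)
        (h := min (n / 2) ((r - 1) / 2)) (k := n - 2 * min (n / 2) ((r - 1) / 2)) (by omega) (by omega)
      refine mk y hy hyr hdet fun ⟨W, hWd, hts, hW⟩ => ?_
      have := hno W hW hts
      rw [hWd] at this
      obtain ⟨j, hj⟩ := (Fact.out : r.Prime).odd_of_ne_two hr2
      omega
    · have hE : min (n / c) ((r - 1) / c) * c ≤ n :=
        (Nat.mul_le_mul_right c (min_le_left _ _)).trans (Nat.div_mul_le_self n c)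
      obtain ⟨y, hy, hyr, -, hno⟩ := exists_anisotropic (p := p) (n := n) hF hrp hc hb (min_le_right (n / c) _)
        (k := n - min (n / c) ((r - 1) / c) * c) (by omega)
      refine mk y hy hyr (det_eq_one hF ((Fact.out : r.Prime).coprime_iff_not_dvd.mpr (mt hc1.mp hc')) hy hyr)
        fun ⟨W, hWd, hts, hW⟩ => ?_
      have := hno W hW hts
      rw [hWd] at this
      have := key _ (n - min (n / c) ((r - 1) / c) * c) rfl (by omega)
      omega
  · have hC : ¬ (c = 1 → r ∣ m ∨ padicValNat r n ≤ padicValNat r (q + 1)) := fun e => h ⟨hA, hB', e⟩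
    push Not at hC
    obtain ⟨hc', hrm, hv⟩ := hC
    obtain ⟨x, hx, hxr, -, hdim⟩ := block_neg hF hr2 (hc1.mpr hc') hn hv
    exact ⟨x, hx, hxr, fun ⟨W, hWd, _, hW⟩ => hrm (hWd ▸ hdim W hW)⟩

end CfsgLib.HermIso
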