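/-
Orthogonal decompositions of the moved space into invariant pieces.
-/
import Cfsg.Agent.Lib.HermIso.Frame

set_option autoImplicit false
set_option linter.unusedSectionVars false
set_option maxHeartbeats 1000000

namespace CfsgLib.HermIso

open Polynomial Module CfsgLib.PrimeIso CfsgLib.MaxSub.Elusive

universe u v

variable {F : Type u} [Field F] [Fintype F] {σ : F →+* F} {V : Type v} [AddCommGroup V] [Module F V]
  [FiniteDimensional F V] {q : ℕ} {B : V →ₛₗ[σ] V →ₗ[F] F} {T : Module.End F V}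

/-- Kernels of factors which are not conjugate are orthogonal. -/
theorem ker_perp (H : Herm q B) {r : ℕ} (h : PerIso B T r) {g g' : F[X]} (hgi : Irreducible g)
    (hrev : ¬ g ∣ (g'.map σ).reverse) {x y : V} (hx : aeval T g x = 0) (hy : aeval T g' y = 0) : B x y = 0 := by
  obtain ⟨u, w, huw⟩ := hgi.coprime_iff_not_dvd.mpr hrev
  set z := aeval T w x
  have hz : aeval T (g'.map σ).reverse z = x := by
    have h1 := congrArg (fun P => aeval T P x) huw
    simp only [map_add, map_mul, map_one, LinearMap.add_apply, Module.End.mul_apply, Module.End.one_apply, hx,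
      map_zero, zero_add] at h1
    rw [← Module.End.mul_apply, ← map_mul, mul_comm, map_mul, Module.End.mul_apply]
    exact h1
  set i := g'.natDegree with hi
  set y' := (T ^ (i * (r - 1))) y
  have hy' : aeval T g' y' = 0 := LinearMap.mem_ker.mp ((inv_ker g').pow _ y (LinearMap.mem_ker.mpr hy))
  have hyy : (T ^ i) y' = y := by
    rw [← Module.End.mul_apply, ← pow_add, show i + i * (r - 1) = r * i by
      obtain ⟨k, hk⟩ : ∃ k, r = k + 1 := ⟨r - 1, by have := h.pos; omega⟩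
      rw [hk, Nat.add_sub_cancel]; ring, pow_mul, h.per, one_pow, Module.End.one_apply]
  clear_value y'
  have hdeg : (g'.map σ).natDegree = i := natDegree_map _
  rw [← hz, ← hyy, aeval_eq_sum_range' (Nat.lt_succ_of_le (hdeg ▸ reverse_natDegree_le (g'.map σ))),
    LinearMap.sum_apply, map_sum, LinearMap.sum_apply]
  calc ∑ l ∈ Finset.range (i + 1), B (((g'.map σ).reverse.coeff l • T ^ l) z) ((T ^ i) y')
      = ∑ l ∈ Finset.range (i + 1), g'.coeff (i - l) * B z ((T ^ (i - l)) y') := by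
        refine Finset.sum_congr rfl fun l hl => ?_
        have hl' : l ≤ i := Nat.le_of_lt_succ (Finset.mem_range.mp hl)
        rw [LinearMap.smul_apply, LinearMap.map_smulₛₗ, LinearMap.smul_apply, smul_eq_mul, Polynomial.coeff_reverse,
          hdeg, Polynomial.revAt_le hl', coeff_map, H.invol]
        conv_lhs => rw [show (T ^ i) y' = (T ^ l) ((T ^ (i - l)) y') by
          rw [← Module.End.mul_apply, ← pow_add, Nat.add_sub_cancel' hl'], h.pow]
    _ = ∑ j ∈ Finset.range (i + 1), g'.coeff j * B z ((T ^ j) y') := by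
        rw [← Finset.sum_range_reflect (fun j => g'.coeff j * B z ((T ^ j) y')) (i + 1)]
        refine Finset.sum_congr rfl fun l hl => ?_
        rw [Nat.add_sub_cancel]
    _ = B z (aeval T g' y') := by
        rw [aeval_eq_sum_range, LinearMap.sum_apply, map_sum]
        simp [hi]
    _ = 0 := by rw [hy', map_zero]

omit [Fintype F] in
/-- The cyclic subspace of a vector killed by `g` has dimension at most `deg g`. -/
theorem cyc_le_deg {g : F[X]} (hg : g.Monic) {x : V} (hx : aeval T g x = 0) :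
    finrank F (cyc T x) ≤ g.natDegree := by
  let φ : ↥(Polynomial.degreeLT F g.natDegree) →ₗ[F] V :=
    { toFun := fun p => aeval T (p : F[X]) x
      map_add' := fun p p' => by simp
      map_smul' := fun c p => by simp }
  have hle : cyc T x ≤ LinearMap.range φ := Submodule.span_le.mpr (Set.range_subset_iff.mpr fun n => by
    refine ⟨⟨X ^ n %ₘ g, Polynomial.mem_degreeLT.mpr ?_⟩, ?_⟩
    · rw [← Polynomial.degree_eq_natDegree hg.ne_zero]
      exact Polynomial.degree_modByMonic_lt _ hg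
    · show aeval T (X ^ n %ₘ g) x = (T ^ n) x
      rw [Polynomial.modByMonic_eq_sub_mul_div _ g, map_sub, LinearMap.sub_apply, mul_comm g, map_mul _ _ g,
        Module.End.mul_apply, hx, map_zero, sub_zero, map_pow, aeval_X])
  refine (Submodule.finrank_mono hle).trans ((LinearMap.finrank_range_le φ).trans (le_of_eq ?_))
  rw [(Polynomial.degreeLTEquiv F g.natDegree).finrank_eq, Module.finrank_fin_fun]

/-- The cyclic subspace of a vector in an irreducible component is irreducible. -/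
theorem cyc_facts {g : F[X]} (hgi : Irreducible g) (hgm : g.Monic) {x : V} (hx : aeval T g x = 0) (hx0 : x ≠ 0) :
    finrank F (cyc T x) = g.natDegree ∧ cyc T x ≤ LinearMap.ker (aeval T g) ∧
      ∀ Z ≤ cyc T x, Inv T Z → Z ≠ ⊥ → Z = cyc T x := by
  have hle : cyc T x ≤ LinearMap.ker (aeval T g) := cyc_le (inv_ker g) (LinearMap.mem_ker.mpr hx)
  have hub := cyc_le_deg hgm hx
  have hdiv : ∀ Z ≤ cyc T x, Inv T Z → Z ≠ ⊥ → g.natDegree ≤ finrank F Z := fun Z hZ hZT hne => by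
    refine Nat.le_of_dvd (Nat.pos_of_ne_zero fun e => hne (Submodule.finrank_eq_zero.mp e)) ?_
    exact (dims_of_ker (P := g) (fun g' h1 _ h3 =>
      natDegree_eq_of_degree_eq (degree_eq_degree_of_associated (h1.associated_of_dvd hgi h3))) hZT (hZ.trans hle)).1
  have hne : cyc T x ≠ ⊥ := fun e => hx0 ((Submodule.mem_bot F).mp (e ▸ mem_cyc x))
  refine ⟨le_antisymm hub (hdiv _ le_rfl (inv_cyc x) hne), hle, fun Z hZ hZT hZne => ?_⟩
  exact Submodule.eq_of_le_of_finrank_le hZ (hub.trans (hdiv Z hZ hZT hZne))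

/-- An anisotropic vector of an irreducible component gives a non-degenerate piece. -/
theorem piece_self (H : Herm q B) {r : ℕ} (h : PerIso B T r) {g : F[X]} (hgi : Irreducible g) (hgm : g.Monic)
    {U : Submodule F V} (hU : Inv T U) {x : V} (hxU : x ∈ U) (hgx : aeval T g x = 0) (hxx : B x x ≠ 0) :
    ∃ X ≤ U, Inv T X ∧ NDS B X ∧ finrank F X = g.natDegree := by
  have hx0 : x ≠ 0 := fun e => hxx (by rw [e, map_zero])
  obtain ⟨hd, -, hirr⟩ := cyc_facts hgi hgm hgx hx0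
  refine ⟨cyc T x, cyc_le hU hxU, inv_cyc x, fun z hz hp => ?_, hd⟩
  by_contra hz0
  have hZ : perpH B (cyc T x) (cyc T x) = cyc T x := hirr _ perpH_le (inv_perpH h (inv_cyc x) (inv_cyc x))
    fun e => hz0 ((Submodule.mem_bot F).mp (e ▸ (show z ∈ perpH B (cyc T x) (cyc T x) from
      ⟨hz, fun y hy => H.refl _ _ (hp y hy)⟩)))
  exact hxx ((hZ.ge (mem_cyc x)).2 x (mem_cyc x))

/-- A component pairing with a given one. -/
theorem exists_partner (H : Herm q B) {r : ℕ} (h : PerIso B T r) {P : F[X]} (hP : P ≠ 0) {U K : Submodule F V}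
    (hU : Inv T U) (hK : Inv T K) (hn : NDS B U) (hKU : K ≤ U) (hUP : U ≤ LinearMap.ker (aeval T P)) (hne : K ≠ ⊥) :
    ∃ g' w', Irreducible g' ∧ g'.Monic ∧ g' ∣ P ∧ aeval T g' w' = 0 ∧ w' ∈ U ∧ w' ≠ 0 ∧
      (∃ x ∈ K, B x w' ≠ 0) ∧ cyc T w' ⊓ perpH B K U = ⊥ := by
  obtain ⟨C, hCT, hC⟩ := h.exists_compl (inv_perpH h hK hU)
  have hCU : C ⊓ U ≠ ⊥ := fun e => by
    obtain ⟨x, hx, hx0⟩ := Submodule.exists_mem_ne_zero_of_ne_bot hne
    refine hx0 (hn x (hKU hx) fun y hy => ?_)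
    obtain ⟨a, ha, c, hc, rfl⟩ := Submodule.mem_sup.mp (hC.sup_eq_top.ge (Submodule.mem_top (x := y)))
    have hc' : c ∈ C ⊓ U := ⟨hc, by simpa using U.sub_mem hy ha.1⟩
    rw [e, Submodule.mem_bot] at hc'
    rw [hc', add_zero]
    exact ha.2 x hx
  obtain ⟨v, hv, hv0⟩ := Submodule.exists_mem_ne_zero_of_ne_bot hCU
  obtain ⟨g', hgi, hgm, hgd, w', hw, hw0, hgw⟩ := CfsgLib.ExtOrth.exists_factor_ker (hCT.inf hU) P hP v hv hv0
    (LinearMap.mem_ker.mp (hUP hv.2))
  have hinf : cyc T w' ⊓ perpH B K U = ⊥ := le_bot_iff.mp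
    ((inf_le_inf_right _ (cyc_le hCT hw.1)).trans (by rw [inf_comm, hC.inf_eq_bot]))
  refine ⟨g', w', hgi, hgm, hgd, hgw, hw.2, hw0, ?_, hinf⟩
  by_contra hno
  push Not at hno
  exact hw0 ((Submodule.mem_bot F).mp (hinf ▸ (⟨mem_cyc w', hw.2, hno⟩ : w' ∈ cyc T w' ⊓ perpH B K U)))

section Roots

variable {p r : ℕ} [Fact p.Prime] [CharP F p] [Fact r.Prime]

/-- Every factor is self-conjugate when the order of `-q` is that of `q²`. -/
theorem dvd_conj (H : Herm q B) (hrp : r ≠ p) {b : ℕ} (hbodd : Odd b) (hpow : (-(q : ZMod r)) ^ b = 1) {g : F[X]}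
    (hgi : Irreducible g) (hgd : g ∣ geom F r) : g ∣ (g.map σ).reverse := by
  have : Fact (Irreducible g) := ⟨hgi⟩
  set a := AdjoinRoot.root g
  have hga : aeval a g = 0 := by rw [AdjoinRoot.aeval_eq, AdjoinRoot.mk_self]
  obtain ⟨har, -⟩ := CfsgLib.OrthIso.root_facts (p := p) hrp hgd hgi
  have hr1 := (Fact.out : r.Prime).one_le
  obtain ⟨s, hs⟩ := hbodd.add_one
  have h1 : a ^ ((r - 1) * q) = a ^ Fintype.card F ^ s := by
    refine pow_eq_pow_of_modEq ?_ har
    rw [← ZMod.natCast_eq_natCast_iff, Nat.cast_pow, Nat.cast_mul, Nat.cast_sub hr1, ZMod.natCast_self,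
      Nat.cast_one, zero_sub, neg_one_mul, H.card, Nat.cast_pow, ← pow_mul, two_mul, ← hs,
      ← (Even.neg_pow (show Even (b + 1) from ⟨s, hs⟩) (q : ZMod r)), pow_succ, hpow, one_mul]
  have h2 : aeval (a ^ ((r - 1) * q)) g = 0 := by
    rw [h1, aeval_pow_card, hga, zero_pow (pow_ne_zero _ Fintype.card_ne_zero)]
  have hinv : a ^ (r - 1) * a = 1 := by rw [← pow_succ, Nat.sub_add_cancel hr1, har]
  let _ : Invertible (a ^ (r - 1)) := ⟨a, (mul_comm _ _).trans hinv, hinv⟩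
  rw [← AdjoinRoot.mk_eq_zero, ← AdjoinRoot.aeval_eq]
  refine (Polynomial.eval₂_reverse_eq_zero_iff (algebraMap F (AdjoinRoot g)) (a ^ (r - 1)) (g.map σ)).mpr ?_
  have : CharP (AdjoinRoot g) p :=
    charP_of_injective_algebraMap (algebraMap F (AdjoinRoot g)).injective p
  obtain ⟨k, hk⟩ : ∃ k, q = p ^ k := by
    obtain ⟨d, hp, hd⟩ := FiniteField.card F p
    obtain ⟨k, -, hk⟩ := (Nat.dvd_prime_pow hp).mp (show q ∣ p ^ (d : ℕ) from ⟨q, by rw [← hd, H.card, sq]⟩)
    exact ⟨k, hk⟩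
  refine pow_eq_zero_iff (show q ≠ 0 by have := H.one_lt; omega) |>.mp ?_
  show aeval (a ^ (r - 1)) (g.map σ) ^ q = 0
  rw [aeval_eq_sum_range, natDegree_map, hk, sum_pow_char_pow, ← hk]
  rw [aeval_eq_sum_range] at h2
  rw [← h2]
  refine Finset.sum_congr rfl fun l _ => ?_
  rw [Algebra.smul_def, Algebra.smul_def, mul_pow, ← map_pow, coeff_map, ← H.frob, H.invol, ← pow_mul, ← pow_mul,
    ← pow_mul]
  congr 2
  ring

/-- An invariant non-degenerate piece of the least dimension. -/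
theorem exists_piece (H : Herm q B) (hrp : r ≠ p) (h : PerIso B T r) {b c : ℕ}
    (hb : b = orderOf (Fintype.card F : ZMod r)) (hc : c = orderOf (-(q : ZMod r))) {U : Submodule F V}
    (hU : Inv T U) (hn : NDS B U) (hUR : U ≤ LinearMap.ker (aeval T (geom F r))) (hne : U ≠ ⊥) :
    ∃ X ≤ U, Inv T X ∧ NDS B X ∧ finrank F X = c := by
  obtain ⟨-, -, hcase⟩ := orders (p := p) H.card hrp hb hc
  have hr : r.Prime := Fact.out
  have hdeg : ∀ g : F[X], Irreducible g → g.Monic → g ∣ geom F r → g.natDegree = b := fun g h1 h2 h3 =>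
    hb ▸ geom_degree (p := p) hr hrp h1 h2 h3
  have hP : geom F r ≠ 0 := (geom_monic hr.pos).ne_zero
  obtain ⟨v, hv, hv0⟩ := Submodule.exists_mem_ne_zero_of_ne_bot hne
  obtain ⟨g, hgi, hgm, hgd, w, hw, hw0, hgw⟩ :=
    CfsgLib.ExtOrth.exists_factor_ker hU _ hP v hv hv0 (LinearMap.mem_ker.mp (hUR hv))
  rcases hcase with ⟨hcb, hodd, hpow⟩ | ⟨hcb, hpow⟩
  · set K := U ⊓ LinearMap.ker (aeval T g)
    have hKne : K ≠ ⊥ := fun e => hw0 ((Submodule.mem_bot F).mp (e ▸ (⟨hw, LinearMap.mem_ker.mpr hgw⟩ : w ∈ K)))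
    by_cases hex : ∃ x ∈ K, B x x ≠ 0
    · obtain ⟨x, hx, hxx⟩ := hex
      obtain ⟨X, hX, hXT, hXn, hXd⟩ := piece_self H h hgi hgm hU hx.1 (LinearMap.mem_ker.mp hx.2) hxx
      exact ⟨X, hX, hXT, hXn, by rw [hXd, hdeg g hgi hgm hgd, hcb]⟩
    exfalso
    push Not at hex
    obtain ⟨g', w', hgi', hgm', hgd', hgw', hwU', -, ⟨x, hx, hxw⟩, -⟩ :=
      exists_partner H h hP hU (hU.inf (inv_ker g)) hn inf_le_left hUR hKne
    by_cases hgg : g = g'
    · subst hgg
      exact hxw (polar_zero H B hex x hx w' ⟨hwU', LinearMap.mem_ker.mpr hgw'⟩)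
    refine hxw (ker_perp H h hgi (fun hd => ?_) (LinearMap.mem_ker.mp hx.2) hgw')
    have hcop : IsCoprime g g' := hgi.coprime_iff_not_dvd.mpr fun hd' =>
      hgg (eq_of_monic_of_associated hgm hgm' (hgi.associated_of_dvd hgi' hd'))
    have h3 := hcop.mul_dvd hd (dvd_conj (p := p) H hrp hodd hpow hgi' hgd')
    have h4 := natDegree_le_of_dvd h3 (by
      rw [Ne, reverse_eq_zero, Polynomial.map_eq_zero]; exact hgm'.ne_zero)
    rw [natDegree_mul hgm.ne_zero hgm'.ne_zero, hdeg g hgi hgm hgd, hdeg g' hgi' hgm' hgd'] at h4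
    have h5 := (reverse_natDegree_le (g'.map σ)).trans (natDegree_map σ).le
    rw [hdeg g' hgi' hgm' hgd'] at h5
    have := hodd.pos
    omega
  · have hts : ∀ g : F[X], Irreducible g → g ∣ geom F r → ∀ x y, aeval T g x = 0 → aeval T g y = 0 → B x y = 0 :=
      fun g h1 h2 x y => ker_ts H h h1 (not_dvd_conj (p := p) H hrp (hb ▸ hpow) h1 h2)
    set Y := cyc T w
    have hYU : Y ≤ U := cyc_le hU hw
    obtain ⟨hYd, hYg, hYirr⟩ := cyc_facts hgi hgm hgw hw0
    obtain ⟨g', w', hgi', hgm', hgd', hgw', hwU', hw0', ⟨x₀, hx₀, hxw⟩, hinf⟩ :=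
      exists_partner H h hP hU (inv_cyc w) hn hYU hUR fun e => hw0 ((Submodule.mem_bot F).mp (e ▸ mem_cyc w))
    set Y' := cyc T w'
    obtain ⟨hYd', -, -⟩ := cyc_facts hgi' hgm' hgw' hw0'
    have hYts : ∀ x ∈ Y, ∀ y ∈ Y, B x y = 0 := fun x hx y hy =>
      hts g hgi hgd x y (LinearMap.mem_ker.mp (hYg hx)) (LinearMap.mem_ker.mp (hYg hy))
    have hY'U : Y' ≤ U := cyc_le hU hwU'
    have hYP : Y ≤ perpH B Y U := fun x hx => ⟨hYU hx, fun y hy => hYts y hy x hx⟩
    refine ⟨Y ⊔ Y', sup_le hYU hY'U, (inv_cyc w).sup (inv_cyc w'), fun z hz hp => ?_, ?_⟩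
    · obtain ⟨a, ha, a', ha', rfl⟩ := Submodule.mem_sup.mp hz
      have ha0 : a' = 0 := (Submodule.mem_bot F).mp (hinf ▸ (⟨ha', hY'U ha', fun y hy => H.refl _ _ (by
        have h1 := hp y (Submodule.mem_sup_left hy)
        rwa [map_add, LinearMap.add_apply, hYts a ha y hy, zero_add] at h1)⟩ : a' ∈ Y' ⊓ perpH B Y U))
      subst ha0
      rw [add_zero] at hp ⊢
      by_contra ha1
      have hZ := hYirr (perpH B Y' Y) perpH_le (inv_perpH h (inv_cyc w') (inv_cyc w)) fun e =>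
        ha1 ((Submodule.mem_bot F).mp (e ▸ (⟨ha, fun y hy => H.refl _ _ (hp y (Submodule.mem_sup_right hy))⟩ :
          a ∈ perpH B Y' Y)))
      exact hxw (H.refl _ _ ((hZ.ge hx₀).2 w' (mem_cyc w')))
    · have h3 := Submodule.finrank_sup_add_finrank_inf_eq Y Y'
      rw [le_bot_iff.mp ((inf_le_inf_right Y' hYP).trans (by rw [inf_comm, hinf])), finrank_bot, add_zero, hYd, hYd',
        hdeg g hgi hgm hgd, hdeg g' hgi' hgm' hgd'] at h3
      rw [h3, hcb, two_mul]

end Roots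

/-- Dimensions from pieces. -/
theorem decomp_dims (H : Herm q B) {N : ℕ} (h : PerIso B T N) {c : ℕ} (hc : 0 < c) (R : Submodule F V)
    (hpiece : ∀ U ≤ R, Inv T U → NDS B U → U ≠ ⊥ → ∃ X ≤ U, Inv T X ∧ NDS B X ∧ finrank F X = c) :
    ∀ (k : ℕ) (U : Submodule F V), finrank F U = k → U ≤ R → Inv T U → NDS B U →
      c ∣ k ∧ ∀ j, j * c ≤ k → ∃ X ≤ U, Inv T X ∧ NDS B X ∧ finrank F X = j * c := by
  intro k
  induction k using Nat.strong_induction_on with
  | _ k ih =>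
    intro U hd hUR hU hn
    have hbot : ∀ X : Submodule F V, X = ⊥ → Inv T X ∧ NDS B X ∧ finrank F X = 0 := by
      rintro X rfl
      exact ⟨inv_bot, fun x hx _ => (Submodule.mem_bot F).mp hx, finrank_bot F V⟩
    rcases Nat.eq_zero_or_pos k with rfl | hk
    · refine ⟨dvd_zero c, fun j hj => ⟨⊥, bot_le, ?_⟩⟩
      rw [show j * c = 0 by omega]
      exact hbot ⊥ rfl
    obtain ⟨X, hXU, hXT, hXn, hXd⟩ := hpiece U hUR hU hn fun e => by rw [e, finrank_bot] at hd; omega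
    obtain ⟨hQn, -, -, hdim⟩ := split_perpH H hXU hXn hn
    obtain ⟨hdvd, hsub⟩ := ih _ (by omega) (perpH B X U) rfl (perpH_le.trans hUR) (inv_perpH h hXT hU) hQn
    refine ⟨by rw [← hd, ← hdim, hXd]; exact dvd_add dvd_rfl hdvd, fun j hj => ?_⟩
    rcases Nat.eq_zero_or_pos j with rfl | hj0
    · rw [zero_mul]
      exact ⟨⊥, bot_le, hbot ⊥ rfl⟩
    obtain ⟨j, rfl⟩ : ∃ i, j = i + 1 := ⟨j - 1, by omega⟩
    rw [add_mul, one_mul] at hj ⊢
    obtain ⟨Z, hZ, hZT, hZn, hZd⟩ := hsub j (by omega)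
    obtain ⟨h1, h2⟩ := nds_sup H hXn hZn fun x hx y hy => (hZ hy).2 x hx
    exact ⟨X ⊔ Z, sup_le hXU (hZ.trans perpH_le), hXT.sup hZT, h1, by omega⟩

end CfsgLib.HermIso
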