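/-
Invariant non-degenerate subspaces of semisimple unitary elements of prime period modulo scalars.
-/
import Cfsg.Agent.Lib.HermIso.Main
import Cfsg.Agent.Lib.HermIso.Pieces

set_option autoImplicit false
set_option linter.unusedSectionVars false
set_option maxHeartbeats 1000000

namespace CfsgLib.HermIso

open Polynomial Module CfsgLib.PrimeIso CfsgLib.MaxSub.Elusive
open scoped Matrix MatrixGroups

universe u v

section Abstract

variable {F : Type u} [Field F] [Fintype F] {σ : F →+* F} {V : Type v} [AddCommGroup V] [Module F V]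
  [FiniteDimensional F V] {q : ℕ} {B : V →ₛₗ[σ] V →ₗ[F] F} {T : Module.End F V}
  {p r : ℕ} [Fact p.Prime] [CharP F p] [Fact r.Prime]

/-- An invariant non-degenerate subspace of a given dimension. -/
theorem exists_nd (H : Herm q B) (hrp : r ≠ p) (h : PerIso B T r) {n m b c : ℕ} (hn : finrank F V = n)
    (hb : b = orderOf (Fintype.card F : ZMod r)) (hc : c = orderOf (-(q : ZMod r))) (hmn : m ≤ n)
    (h1 : m % c ≤ n % c) : ∃ W, Inv T W ∧ NDS B W ∧ finrank F W = m := by
  obtain ⟨-, hcpos, -⟩ := orders (p := p) H.card hrp hb hc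
  obtain ⟨hAn, hRn⟩ := nds_parts H h
  obtain ⟨hsum, -⟩ := finrank_split h (inv_top (T := T))
  rw [top_inf_eq, top_inf_eq, finrank_top, hn] at hsum
  set A := LinearMap.ker (aeval T (X - C (1 : F)))
  set R := LinearMap.ker (aeval T (geom F r))
  change finrank F A + finrank F R = n at hsum
  obtain ⟨hdvd, hsub⟩ := decomp_dims H h hcpos R (fun U hU hUT hUn hne => exists_piece (p := p) H hrp h hb hc hUT hUn hU hne)
    _ R rfl le_rfl (inv_ker _) hRn
  obtain ⟨e, he⟩ := hdvd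
  set j := min (m / c) e
  have hje : j * c ≤ finrank F R := by
    rw [he, mul_comm c e]
    exact Nat.mul_le_mul_right c (min_le_right _ _)
  have hjm : j * c ≤ m := (Nat.mul_le_mul_right c (min_le_left _ _)).trans (Nat.div_mul_le_self m c)
  have hrest : m - j * c ≤ finrank F A := by
    rcases le_total (m / c) e with hle | hle
    · have := Nat.div_add_mod' m c
      have h2 : n % c ≤ finrank F A := by
        have : n % c = finrank F A % c := by rw [← hsum, he, Nat.add_mul_mod_self_left]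
        rw [this]
        exact Nat.mod_le _ _
      rw [show j = m / c from min_eq_left hle]
      omega
    · rw [show j = e from min_eq_right hle, mul_comm e c, ← he]
      omega
  obtain ⟨X, hX, hXT, hXn, hXd⟩ := hsub j hje
  obtain ⟨Y, hY, hYn, hYd⟩ := exists_nds_le H hAn hrest
  have hperp : ∀ x ∈ X, ∀ y ∈ Y, B x y = 0 := fun x hx y hy => H.refl _ _ (fix_perp h (hY hy) (hX hx)).1
  obtain ⟨h2, h3⟩ := nds_sup H hXn hYn hperp
  refine ⟨X ⊔ Y, hXT.sup fun y hy => ?_, h2, by omega⟩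
  rw [show T y = y by simpa [A, sub_eq_zero] using hY hy]
  exact hy

/-- The moved part of a non-degenerate invariant subspace. -/
theorem nd_parts_dims (H : Herm q B) (hrp : r ≠ p) (h : PerIso B T r) {b c : ℕ}
    (hb : b = orderOf (Fintype.card F : ZMod r)) (hc : c = orderOf (-(q : ZMod r))) {W : Submodule F V}
    (hW : Inv T W) (hn : NDS B W) :
    finrank F W % c ≤ finrank F ↥(W ⊓ LinearMap.ker (aeval T (X - C (1 : F)))) := by
  obtain ⟨-, hcpos, -⟩ := orders (p := p) H.card hrp hb hc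
  obtain ⟨hsum, hsup⟩ := finrank_split h hW
  set A := W ⊓ LinearMap.ker (aeval T (X - C (1 : F)))
  set R := W ⊓ LinearMap.ker (aeval T (geom F r))
  have hRn : NDS B R := fun x hx hp => hn x hx.1 fun y hy => by
    obtain ⟨a, ha, b, hb, rfl⟩ := Submodule.mem_sup.mp (hsup.ge hy)
    rw [map_add, H.refl _ _ (fix_perp h ha.2 hx.2).1, hp b hb, add_zero]
  obtain ⟨hdvd, -⟩ := decomp_dims H h hcpos (LinearMap.ker (aeval T (geom F r)))
    (fun U hU hUT hUn hne => exists_piece (p := p) H hrp h hb hc hUT hUn hU hne)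
    _ R rfl inf_le_right (hW.inf (inv_ker _)) hRn
  change finrank F A + finrank F R = finrank F W at hsum
  obtain ⟨e, he⟩ := hdvd
  rw [← hsum, he, Nat.add_mul_mod_self_left]
  exact Nat.mod_le _ _

/-- An element whose `r`th power is a scalar that is no `r`th power. -/
theorem exists_nd_block (H : Herm q B) {z : F} (hz : z ^ (q + 1) = 1) (hpow : T ^ r = z • 1)
    (hiso : ∀ x y, B (T x) (T y) = B x y) (hnp : ∀ a : F, a ^ r ≠ z) (hrp : r ≠ p) {n m : ℕ}
    (hn : finrank F V = n) (hmn : m ≤ n) (hrm : r ∣ m) :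
    ∃ W, Inv T W ∧ NDS B W ∧ finrank F W = m := by
  have hr : r.Prime := Fact.out
  have hper : T ^ (r * (q + 1)) = 1 := by
    rw [pow_mul, hpow, _root_.smul_pow, one_pow, hz, one_smul]
  have hN : ((r * (q + 1) : ℕ) : F) ≠ 0 := by
    rw [Nat.cast_mul]
    exact mul_ne_zero (CfsgLib.GLClassNumber.natCast_ne_zero_of_prime_ne (p := p) hr hrp)
      (cast_ne_zero_add_one (p := p) H.card)
  have h : PerIso B T (r * (q + 1)) := ⟨H.refl, hiso, hper, hN⟩
  set g : F[X] := X ^ r - C z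
  have hgi : Irreducible g := X_pow_sub_C_irreducible_of_prime hr hnp
  have hgT : ∀ x, aeval T g x = 0 := fun x => by
    rw [map_sub, map_pow, aeval_X, aeval_C, hpow, Module.algebraMap_end_eq_smul_id]
    show z • x - z • x = 0
    rw [sub_self]
  obtain ⟨-, hsub⟩ := decomp_dims H h hr.pos ⊤ (fun U _ hUT hUn hne => by
    obtain ⟨x, hx, hxx⟩ := exists_aniso H hUn hne
    obtain ⟨X, hX, hXT, hXn, hXd⟩ := piece_self H h hgi (monic_X_pow_sub_C z hr.ne_zero) hUT hx (hgT x) hxx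
    exact ⟨X, hX, hXT, hXn, hXd.trans natDegree_X_pow_sub_C⟩) _ ⊤ rfl le_rfl inv_top (nds_top H)
  rw [finrank_top, hn] at hsub
  obtain ⟨k, rfl⟩ := hrm
  obtain ⟨X, -, hX⟩ := hsub k (by rw [mul_comm]; exact hmn)
  exact ⟨X, hX.1, hX.2.1, by rw [hX.2.2, mul_comm]⟩

end Abstract

variable {F : Type u} [Field F] [Fintype F] {q n m : ℕ}

/-- An invariant non-degenerate subspace of dimension `m`. -/
def HasND (q m : ℕ) (M : Matrix (Fin n) (Fin n) F) : Prop :=
  ∃ W : Submodule F (Fin n → F), finrank F W = m ∧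
    (∀ u ∈ W, u ≠ 0 → ∃ v ∈ W, Cfsg.hermForm n F q u v ≠ 0) ∧ W.map (Matrix.toLin' M) ≤ W

theorem hasND_of {σ : F →+* F} {B : (Fin n → F) →ₛₗ[σ] (Fin n → F) →ₗ[F] F} (H : Herm q B)
    (hB : ∀ x y, B x y = Cfsg.hermForm n F q y x) {M : Matrix (Fin n) (Fin n) F} {T : Module.End F (Fin n → F)}
    {a : F} (ha : ∀ v, Matrix.toLin' M v = a • T v)
    (h : ∃ W, Inv T W ∧ NDS B W ∧ finrank F W = m) : HasND q m M := by
  obtain ⟨W, hW, hn, hd⟩ := h
  refine ⟨W, hd, fun u hu hu0 => ?_, Submodule.map_le_iff_le_comap.mpr fun v hv => ?_⟩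
  · by_contra hno
    push Not at hno
    exact hu0 (hn u hu fun v hv => H.refl _ _ (by rw [hB]; exact hno v hv))
  · show Matrix.toLin' M v ∈ W
    rw [ha]
    exact W.smul_mem a (hW v hv)

theorem of_hasND {σ : F →+* F} {B : (Fin n → F) →ₛₗ[σ] (Fin n → F) →ₗ[F] F} (H : Herm q B)
    (hB : ∀ x y, B x y = Cfsg.hermForm n F q y x) {M : Matrix (Fin n) (Fin n) F} {T : Module.End F (Fin n → F)}
    {a : F} (ha0 : a ≠ 0) (ha : ∀ v, Matrix.toLin' M v = a • T v) (h : HasND q m M) :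
    ∃ W, Inv T W ∧ NDS B W ∧ finrank F W = m := by
  obtain ⟨W, hd, hn, hW⟩ := h
  refine ⟨W, fun v hv => ?_, fun u hu hp => ?_, hd⟩
  · have h1 := hW ⟨v, hv, rfl⟩
    rw [ha] at h1
    exact (W.smul_mem_iff ha0).mp h1
  · by_contra hu0
    obtain ⟨v, hv, hne⟩ := hn u hu hu0
    exact hne (by rw [← hB]; exact H.refl _ _ (hp v hv))

variable {p r : ℕ} [Fact p.Prime] [CharP F p] [Fact r.Prime]

/-- A matrix without an invariant non-degenerate subspace is no scalar. -/
theorem not_scalar_nd (hF : Fintype.card F = q ^ 2) (hmn : m ≤ n) {M : Matrix (Fin n) (Fin n) F}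
    (hno : ¬ HasND q m M) (z : F) : M ≠ z • 1 := by
  intro hz
  obtain ⟨σ, B, H, hB⟩ := exists_herm hF n
  obtain ⟨W, -, hn, hd⟩ := exists_nds_le H (nds_top H) (a := m)
    (by rw [finrank_top, Module.finrank_fintype_fun_eq_card, Fintype.card_fin]; exact hmn)
  exact hno (hasND_of H hB (T := 1) (a := z) (fun v => by
    rw [Matrix.toLin'_apply, hz, Matrix.smul_mulVec, Matrix.one_mulVec, Module.End.one_apply])
    ⟨W, fun v hv => hv, hn, hd⟩)

/-- Every element of period `r` modulo scalars has a fixed non-degenerate subspace. -/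
theorem nd_pos (hF : Fintype.card F = q ^ 2) (hrp : r ≠ p) (hr2 : r ≠ 2) (hn : 0 < n) (hmn : m ≤ n)
    {b c : ℕ} (hb : b = orderOf (Fintype.card F : ZMod r)) (hc : c = orderOf (-(q : ZMod r)))
    (hc1 : r ∣ q + 1 ↔ c = 1) (h1 : m % c ≤ n % c)
    (h3 : c = 1 → r ∣ m ∨ padicValNat r n ≤ padicValNat r (q + 1))
    {y : GL (Fin n) F} (hy : y ∈ Cfsg.GU n F q) (hdet : (y : Matrix (Fin n) (Fin n) F).det = 1) {z : F}
    (hz : (y : Matrix (Fin n) (Fin n) F) ^ r = z • 1) : HasND q m (y : Matrix (Fin n) (Fin n) F) := by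
  obtain ⟨σ, B, H, hB⟩ := exists_herm hF n
  have hzn := scalar_norm H hB hn (y := y ^ r) (pow_mem hy r) (by rw [Units.val_pow_eq_pow_val, hz])
  have hdim : finrank F (Fin n → F) = n := by rw [Module.finrank_fintype_fun_eq_card, Fintype.card_fin]
  have hroot : (∃ a : F, a ^ r = z ∧ a ^ (q + 1) = 1) → HasND q m (y : Matrix (Fin n) (Fin n) F) := by
    rintro ⟨a, ha, ha1⟩
    obtain ⟨T, hT, hyT⟩ := exists_reduced (p := p) H hB hrp hy ha1 (ha.symm ▸ hz)
    exact hasND_of H hB hyT (exists_nd (p := p) H hrp hT hdim hb hc hmn h1)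
  by_cases hrq : r ∣ q + 1
  · by_cases hp : ∃ a : F, a ^ r = z
    · obtain ⟨a, ha⟩ := hp
      exact hroot ⟨a, ha, root_norm_one hF hr2 hrq (by rw [ha]; exact hzn)⟩
    · push Not at hp
      have hv := nonpower_val hF hr2 hrq hn.ne' hzn hp hz hdet
      have hTr : Matrix.toLin' (y : Matrix (Fin n) (Fin n) F) ^ r = z • (1 : Module.End F (Fin n → F)) := by
        have h : Matrix.toLinAlgEquiv' ((y : Matrix (Fin n) (Fin n) F) ^ r) = z • (1 : Module.End F (Fin n → F)) := by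
          rw [hz, map_smul, map_one]
        rwa [map_pow] at h
      exact hasND_of H hB (a := 1) (fun v => (one_smul F _).symm) (exists_nd_block (p := p) H hzn hTr (gu_iso hB hy) hp
        hrp hdim hmn ((h3 (hc1.mp hrq)).resolve_right (by omega)))
  · exact hroot (exists_root_norm_one hrq hzn)

/-- Elements without a fixed non-degenerate subspace. -/
theorem nd_neg (hF : Fintype.card F = q ^ 2) (hrp : r ≠ p) (hr2 : r ≠ 2) (hn : 0 < n)
    {b c : ℕ} (hb : b = orderOf (Fintype.card F : ZMod r)) (hc : c = orderOf (-(q : ZMod r)))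
    (hc1 : r ∣ q + 1 ↔ c = 1)
    (h : ¬ (m % c ≤ n % c ∧ (c = 1 → r ∣ m ∨ padicValNat r n ≤ padicValNat r (q + 1)))) :
    ∃ x : Matrix.SpecialLinearGroup (Fin n) F, x ∈ Cfsg.SU n F q ∧
      (∃ z : F, ((x ^ r : Matrix.SpecialLinearGroup (Fin n) F) : Matrix (Fin n) (Fin n) F) = z • 1) ∧
      ¬ HasND q m (x : Matrix (Fin n) (Fin n) F) := by
  obtain ⟨σ, B, H, hB⟩ := exists_herm hF n
  by_cases hA : m % c ≤ n % c
  · have hC : ¬ (c = 1 → r ∣ m ∨ padicValNat r n ≤ padicValNat r (q + 1)) := fun e => h ⟨hA, e⟩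
    push Not at hC
    obtain ⟨hc', hrm, hv⟩ := hC
    obtain ⟨x, hx, hxr, -, hdim⟩ := block_neg hF hr2 (hc1.mpr hc') hn hv
    exact ⟨x, hx, hxr, fun ⟨W, hWd, _, hW⟩ => hrm (hWd ▸ hdim W hW)⟩
  have hc1' : c ≠ 1 := fun e => hA (by rw [e, Nat.mod_one]; exact Nat.zero_le _)
  obtain ⟨y, hy, hyr, hyk⟩ := exists_moved (p := p) hF hrp hc (E := n / c) (Nat.div_add_mod' n c)
  have hd := det_eq_one hF ((Fact.out : r.Prime).coprime_iff_not_dvd.mpr (mt hc1.mp hc1')) hy hyr
  let x : Matrix.SpecialLinearGroup (Fin n) F := ⟨y, hd⟩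
  refine ⟨x, hy, ⟨1, ?_⟩, fun hND => hA ?_⟩
  · rw [Matrix.SpecialLinearGroup.coe_pow, show (x : Matrix (Fin n) (Fin n) F) = y from rfl,
      ← Units.val_pow_eq_pow_val, hyr, Units.val_one, one_smul]
  obtain ⟨W, hWT, hWn, hWd⟩ := of_hasND H hB one_ne_zero (T := Matrix.toLin' (y : Matrix (Fin n) (Fin n) F))
    (fun v => (one_smul F _).symm) hND
  have h1 := nd_parts_dims (p := p) H hrp (perIso_gu (p := p) H hB hrp hy hyr) hb hc hWT hWn
  have h2 := Submodule.finrank_mono (inf_le_right : W ⊓ LinearMap.ker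
    (aeval (Matrix.toLin' (y : Matrix (Fin n) (Fin n) F)) (X - C (1 : F))) ≤ _)
  rw [hyk] at h2
  rw [hWd] at h1
  omega

end CfsgLib.HermIso
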