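/-
Primes dividing the number of non-degenerate subspaces of a unitary space.
-/
import Cfsg.Agent.Lib.HermIso.Frame
import Cfsg.Agent.Lib.HermIso.Scalar

set_option autoImplicit false
set_option linter.unusedSectionVars false
set_option maxHeartbeats 1000000

namespace CfsgLib.HermIso

open Polynomial Module CfsgLib.PrimeIso CfsgLib.MaxSub.Elusive
open scoped Matrix MatrixGroups

universe u

variable {F : Type u} [Field F] [Fintype F] {q : ℕ}

/-- The non-degenerate subspaces of dimension `m`. -/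
abbrev HermND (F : Type u) [Field F] (q n m : ℕ) : Type u :=
  {W : Submodule F (Fin n → F) // finrank F ↥W = m ∧ (∀ u ∈ W, u ≠ 0 → ∃ v ∈ W, Cfsg.hermForm n F q u v ≠ 0)}

/-- The unitary element with prescribed orthonormal columns. -/
theorem exists_gu_frame {n : ℕ} {σ : F →+* F} {B : (Fin n → F) →ₛₗ[σ] (Fin n → F) →ₗ[F] F} (H : Herm q B)
    (hB : ∀ x y, B x y = Cfsg.hermForm n F q y x) {e : Fin n → Fin n → F}
    (he : ∀ i j, B (e i) (e j) = if i = j then 1 else 0) :
    ∃ g : GL (Fin n) F, g ∈ Cfsg.GU n F q ∧ ∀ i, (g : Matrix (Fin n) (Fin n) F) *ᵥ Pi.single i 1 = e i := by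
  classical
  let M : Matrix (Fin n) (Fin n) F := Matrix.of fun a i => e i a
  have hM : ∀ v, M *ᵥ v = ∑ i, v i • e i := fun v => funext fun a => by
    simp [M, Matrix.mulVec, dotProduct, mul_comm]
  have hiso : ∀ u v, Cfsg.hermForm n F q (M *ᵥ u) (M *ᵥ v) = Cfsg.hermForm n F q u v := fun u v => by
    rw [← hB, hM, hM]
    simp only [map_sum, LinearMap.map_smulₛₗ, LinearMap.sum_apply, LinearMap.smul_apply, map_smul, smul_eq_mul, he,
      mul_ite, mul_one, mul_zero, Finset.sum_ite_eq, Finset.sum_ite_eq', Finset.mem_univ, if_true, RingHom.id_apply]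
    simp only [Cfsg.hermForm, H.frob, mul_comm]
  have hdet : M.det ≠ 0 := fun h0 => by
    obtain ⟨v, hv0, hv⟩ := Matrix.exists_mulVec_eq_zero_iff.mpr h0
    refine hv0 (H.nd v fun w => ?_)
    rw [hB, ← hiso w v, hv]
    simp [Cfsg.hermForm, zero_pow (show q ≠ 0 by have := H.one_lt; omega)]
  exact ⟨Matrix.GeneralLinearGroup.mkOfDetNeZero M hdet, hiso, fun i => by
    show M *ᵥ Pi.single i 1 = e i
    rw [Matrix.mulVec_single_one]
    rfl⟩

/-- The number of non-degenerate subspaces divides a quotient of group orders. -/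
theorem card_hermND_dvd (hF : Fintype.card F = q ^ 2) (k b : ℕ) :
    ∃ t, Nat.card (HermND F q (k + b) k) * (Nat.card (Cfsg.GU k F q) * Nat.card (Cfsg.GU b F q) * t) =
      Nat.card (Cfsg.GU (k + b) F q) := by
  classical
  obtain ⟨σ, B, H, hB⟩ := exists_herm hF (k + b)
  let G := Cfsg.GU (k + b) F q
  let L : G → Module.End F (Fin (k + b) → F) := fun g =>
    Matrix.toLin' ((g : GL (Fin (k + b)) F) : Matrix (Fin (k + b)) (Fin (k + b)) F)
  have hLm : ∀ g h : G, L (g * h) = (L g).comp (L h) := fun g h => Matrix.toLin'_mul _ _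
  have hL1 : L 1 = LinearMap.id := Matrix.toLin'_one
  have hinj : ∀ g, Function.Injective (L g) := fun g => Function.LeftInverse.injective (g := L g⁻¹) fun u => by
    rw [← LinearMap.comp_apply, ← hLm, inv_mul_cancel, hL1, LinearMap.id_apply]
  have hiso : ∀ (g : G) u v, Cfsg.hermForm (k + b) F q (L g u) (L g v) = Cfsg.hermForm (k + b) F q u v := fun g u v => by
    rw [Matrix.toLin'_apply, Matrix.toLin'_apply]
    exact g.2 u v
  let _ : SMul G (HermND F q (k + b) k) := ⟨fun g W => ⟨W.1.map (L g),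
    (LinearEquiv.finrank_eq (Submodule.equivMapOfInjective _ (hinj g) W.1)).symm.trans W.2.1, by
      rintro _ ⟨u, hu, rfl⟩ hu0
      obtain ⟨v, hv, hne'⟩ := W.2.2 u hu fun e => hu0 (by rw [e, map_zero])
      exact ⟨L g v, ⟨v, hv, rfl⟩, by rwa [hiso]⟩⟩⟩
  let _ : MulAction G (HermND F q (k + b) k) :=
    { one_smul := fun W => Subtype.ext (by
        show W.1.map (L 1) = W.1
        rw [hL1, Submodule.map_id])
      mul_smul := fun g h W => Subtype.ext (by
        show W.1.map (L (g * h)) = (W.1.map (L h)).map (L g)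
        rw [hLm, Submodule.map_comp]) }
  let e₀ : Fin k → (Fin (k + b) → F) := fun i => Pi.single (Fin.castAdd b i) 1
  obtain ⟨-, hW₁n, hW₁d⟩ := frame_span H (e := e₀) fun i j => by
    rw [hB]
    have hq : q ≠ 0 := by have := H.one_lt; omega
    simp [e₀, Cfsg.hermForm, Pi.single_apply, zero_pow hq, eq_comm]
  let W₀ : HermND F q (k + b) k := ⟨Submodule.span F (Set.range e₀), hW₁d, fun u hu hu0 => by
    by_contra hno
    push Not at hno
    exact hu0 (hW₁n u hu fun v hv => H.refl _ _ (by rw [hB]; exact hno v hv))⟩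
  have htrans : MulAction.orbit G W₀ = Set.univ := by
    refine Set.eq_univ_of_forall fun W => ?_
    have hWn : NDS B W.1 := fun u hu hp => by
      by_contra hu0
      obtain ⟨v, hv, hne⟩ := W.2.2 u hu hu0
      exact hne (by rw [← hB]; exact H.refl _ _ (hp v hv))
    obtain ⟨hQn, -, -, hdim⟩ := split_perpH H (le_top : W.1 ≤ ⊤) hWn (nds_top H)
    rw [W.2.1, finrank_top, Module.finrank_fintype_fun_eq_card, Fintype.card_fin] at hdim
    obtain ⟨e, heW, he⟩ := exists_frame H k W.1 W.2.1 hWn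
    obtain ⟨f, hfQ, hf⟩ := exists_frame H b _ (show finrank F (perpH B W.1 ⊤) = b by omega) hQn
    obtain ⟨g, hg, hge⟩ := exists_gu_frame H hB (e := Fin.append e f) fun i j => by
      induction i using Fin.addCases with
      | left i =>
        induction j using Fin.addCases with
        | left j => simp [he]
        | right j =>
          rw [Fin.append_left, Fin.append_right, (hfQ j).2 _ (heW i), if_neg]
          exact fun h => by simpa [Fin.ext_iff] using (show (i : ℕ) = k + j from congrArg Fin.val h).symm.le.trans_lt i.2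
      | right i =>
        induction j using Fin.addCases with
        | left j =>
          rw [Fin.append_left, Fin.append_right, H.refl _ _ ((hfQ i).2 _ (heW j)), if_neg]
          exact fun h => by simpa [Fin.ext_iff] using (show k + (i : ℕ) = j from congrArg Fin.val h).le.trans_lt j.2
        | right j => simp [hf]
    refine ⟨⟨g, hg⟩, Subtype.ext (Submodule.eq_of_le_of_finrank_eq ?_ ?_)⟩
    · show W₀.1.map (L ⟨g, hg⟩) ≤ W.1
      rw [Submodule.map_span, Submodule.span_le]
      rintro _ ⟨_, ⟨i, rfl⟩, rfl⟩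
      show Matrix.toLin' (g : Matrix (Fin (k + b)) (Fin (k + b)) F) (e₀ i) ∈ W.1
      rw [Matrix.toLin'_apply, hge, Fin.append_left]
      exact heW i
    · exact (LinearEquiv.finrank_eq (Submodule.equivMapOfInjective _ (hinj _) W₀.1)).symm.trans
        (hW₁d.trans W.2.1.symm)
  let P := ↥(Cfsg.GU k F q) × ↥(Cfsg.GU b F q)
  let Mm : P →* Matrix (Fin (k + b)) (Fin (k + b)) F :=
    { toFun := fun x => Matrix.reindexAlgEquiv F F finSumFinEquiv
        (Matrix.fromBlocks (x.1.1 : Matrix (Fin k) (Fin k) F) 0 0 (x.2.1 : Matrix (Fin b) (Fin b) F))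
      map_one' := by simp [Matrix.fromBlocks_one]
      map_mul' := fun x y => by rw [← map_mul, Matrix.fromBlocks_multiply]; simp; rfl }
  have hMl : ∀ x v i, (Mm x *ᵥ v) (Fin.castAdd b i) =
      ((x.1.1 : Matrix (Fin k) (Fin k) F) *ᵥ fun j => v (Fin.castAdd b j)) i := fun x v i => by
    simp [Mm, Matrix.mulVec, dotProduct, Fin.sum_univ_add]
  have hMr : ∀ x v i, (Mm x *ᵥ v) (Fin.natAdd k i) =
      ((x.2.1 : Matrix (Fin b) (Fin b) F) *ᵥ fun j => v (Fin.natAdd k j)) i := fun x v i => by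
    simp [Mm, Matrix.mulVec, dotProduct, Fin.sum_univ_add]
  have hsplit : ∀ u v, Cfsg.hermForm (k + b) F q u v =
      Cfsg.hermForm k F q (fun j => u (Fin.castAdd b j)) (fun j => v (Fin.castAdd b j)) +
      Cfsg.hermForm b F q (fun j => u (Fin.natAdd k j)) (fun j => v (Fin.natAdd k j)) := fun u v => by
    simp [Cfsg.hermForm, Fin.sum_univ_add]
  let φ : P →* G := Mm.toHomUnits.codRestrict G fun x u v => by
    show Cfsg.hermForm (k + b) F q (Mm x *ᵥ u) (Mm x *ᵥ v) = _
    rw [hsplit (Mm x *ᵥ u), hsplit u]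
    simp only [hMl, hMr]
    exact congrArg₂ (· + ·) (x.1.2 _ _) (x.2.2 _ _)
  have hφ : ∀ x, φ x ∈ MulAction.stabilizer G W₀ := fun x => Subtype.ext (Submodule.eq_of_le_of_finrank_eq (by
    show W₀.1.map (L (φ x)) ≤ W₀.1
    rw [Submodule.map_span, Submodule.span_le]
    rintro _ ⟨_, ⟨i, rfl⟩, rfl⟩
    show Matrix.toLin' (Mm x) (e₀ i) ∈ W₀.1
    rw [Matrix.toLin'_apply]
    refine (Submodule.mem_span_range_iff_exists_fun F).mpr ⟨fun j => (x.1.1 : Matrix (Fin k) (Fin k) F) j i, funext fun a => ?_⟩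
    rw [Finset.sum_apply]
    induction a using Fin.addCases with
    | left a =>
      rw [hMl]
      simp [e₀, Matrix.mulVec, dotProduct, Pi.single_apply]
    | right a =>
      rw [hMr]
      have hne : ∀ (a : Fin b) (j : Fin k), Fin.natAdd k a ≠ Fin.castAdd b j := fun a j h => by
        have h1 : k + (a : ℕ) = j := congrArg Fin.val h
        have := j.2
        omega
      simp [e₀, Matrix.mulVec, dotProduct, Pi.single_apply, hne])
    (LinearEquiv.finrank_eq (Submodule.equivMapOfInjective _ (hinj _) W₀.1)).symm)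
  have hφi : Function.Injective (φ.codRestrict (MulAction.stabilizer G W₀) hφ) := fun x y h => by
    have h1 : Mm x = Mm y := congrArg (fun z : MulAction.stabilizer G W₀ => ((z.1.1 : GL (Fin (k + b)) F) :
      Matrix (Fin (k + b)) (Fin (k + b)) F)) h
    have h2 := Matrix.fromBlocks_inj.mp ((Matrix.reindexAlgEquiv F F finSumFinEquiv).injective h1)
    exact Prod.ext (Subtype.ext (Units.ext h2.1)) (Subtype.ext (Units.ext h2.2.2.2))
  obtain ⟨t, ht⟩ := Subgroup.card_dvd_of_injective _ hφi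
  refine ⟨t, ?_⟩
  rw [← Nat.card_prod, ← ht, ← Set.ncard_univ (HermND F q (k + b) k), ← htrans, ← MulAction.index_stabilizer,
    Subgroup.index_mul_card]

variable {p : ℕ} [Fact p.Prime] [CharP F p]

/-- The primes dividing the number of non-degenerate subspaces. -/
theorem nd_count_facts (hF : Fintype.card F = q ^ 2) {n m r : ℕ} (hr : r.Prime) (hrp : r ≠ p) (hmn : m ≤ n)
    (hdvd : r ∣ Nat.card (HermND F q n m)) : ∃ l, n < l + m ∧ l ≤ n ∧ (-(q : ZMod r)) ^ l = 1 := by
  obtain ⟨b, rfl⟩ := Nat.exists_eq_add_of_le hmn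
  have hq := (CfsgLib.UnitaryBasic.frob_exists hF).1
  obtain ⟨t, h⟩ := card_hermND_dvd hF m b
  rw [CfsgLib.UnitaryOrder.card_GU hF, CfsgLib.UnitaryOrder.card_GU hF, CfsgLib.UnitaryOrder.card_GU hF] at h
  set fac : ℕ → ℕ := fun i => if Even i then q ^ (i + 1) + 1 else q ^ (i + 1) - 1
  have hpos : 0 < ∏ i ∈ Finset.range b, fac i := Finset.prod_pos fun i _ => by
    simp only [fac]
    split_ifs
    · omega
    · exact Nat.sub_pos_of_lt (Nat.one_lt_pow (by omega) hq)
  rw [show ∏ i ∈ Finset.range (m + b), fac i = (∏ i ∈ Finset.range b, fac i) * ∏ x ∈ Finset.range m, fac (b + x) by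
    rw [add_comm, Finset.prod_range_add]] at h
  have hcancel : Nat.card (HermND F q (m + b) m) * (q ^ (m * (m - 1) / 2) * (∏ i ∈ Finset.range m, fac i) *
      q ^ (b * (b - 1) / 2) * t) = q ^ ((m + b) * (m + b - 1) / 2) * ∏ x ∈ Finset.range m, fac (b + x) :=
    Nat.eq_of_mul_eq_mul_right hpos (by linear_combination h)
  have hd : r ∣ q ^ ((m + b) * (m + b - 1) / 2) * ∏ x ∈ Finset.range m, fac (b + x) :=
    hcancel ▸ dvd_mul_of_dvd_left hdvd _
  rcases hr.dvd_mul.mp hd with h1 | h1
  · obtain ⟨d, hp, hd'⟩ := FiniteField.card F p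
    have h2 : r ∣ q ^ 2 := dvd_trans (hr.dvd_of_dvd_pow h1) (dvd_pow_self q two_ne_zero)
    rw [← hF, hd'] at h2
    exact absurd ((Nat.prime_dvd_prime_iff_eq hr hp).mp (hr.dvd_of_dvd_pow h2)) hrp
  obtain ⟨x, hx, hxd⟩ := (hr.prime.dvd_finsetProd_iff _).mp h1
  rw [Finset.mem_range] at hx
  exact ⟨b + x + 1, by omega, by omega, (dvd_factor_iff hq.le (b + x)).mp hxd⟩

end CfsgLib.HermIso
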