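/-
Involutions modulo scalars and non-degenerate subspaces.
-/
import Cfsg.Agent.Lib.HermIso.Nondeg

set_option autoImplicit false
set_option linter.unusedSectionVars false
set_option maxHeartbeats 1000000

namespace CfsgLib.HermIso

open Polynomial Module CfsgLib.PrimeIso CfsgLib.MaxSub.Elusive
open scoped Matrix MatrixGroups

universe u v

section Anti

variable {F : Type u} [Field F] [Fintype F] {σ : F →+* F} {V : Type v} [AddCommGroup V] [Module F V]
  [FiniteDimensional F V] {q : ℕ} {B : V →ₛₗ[σ] V →ₗ[F] F} {L T : Module.End F V} {s : F} {N : ℕ}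

/-- An anti-isometric involution only fixes non-degenerate subspaces of even dimension, all of them possible. -/
theorem anti_dims (H : Herm q B) (h2 : (2 : F) ≠ 0) (h : PerIso B L N) (hL : ∀ v, L v = s • T v) (hs0 : s ≠ 0)
    (hTT : ∀ v, T (T v) = v) (hiso : ∀ u v, B (T u) (T v) = -B u v) {U : Submodule F V} (hU : Inv T U)
    (hn : NDS B U) : 2 ∣ finrank F U ∧ ∀ j, j * 2 ≤ finrank F U → ∃ X ≤ U, Inv T X ∧ NDS B X ∧ finrank F X = j * 2 := by
  have hLT : ∀ X : Submodule F V, Inv L X → Inv T X := fun X hX v hv => by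
    have h1 := hX v hv
    rw [hL] at h1
    exact (X.smul_mem_iff hs0).mp h1
  have hTL : ∀ X : Submodule F V, Inv T X → Inv L X := fun X hX v hv => by
    rw [hL]
    exact X.smul_mem s (hX v hv)
  have hpiece : ∀ U ≤ (⊤ : Submodule F V), Inv L U → NDS B U → U ≠ ⊥ →
      ∃ X ≤ U, Inv L X ∧ NDS B X ∧ finrank F X = 2 := fun U _ hUL hUn hne => by
    have hUT := hLT U hUL
    have hzero : ∀ e : F, e * e = 1 → σ e = e → ∀ a b, T a = e • a → T b = e • b → B a b = 0 := fun e he heσ a b ha hb => by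
      have h1 := hiso a b
      simp only [ha, hb, LinearMap.map_smulₛₗ, LinearMap.smul_apply, map_smul, smul_eq_mul, heσ, ← mul_assoc, he,
        one_mul] at h1
      exact (mul_eq_zero.mp (show (2 : F) * B a b = 0 by linear_combination h1)).resolve_left h2
    obtain ⟨v, hv, hv0⟩ : ∃ v ∈ U, v + T v ≠ 0 := by
      by_contra hno
      push Not at hno
      obtain ⟨x, hx, hxx⟩ := exists_aniso H hUn hne
      refine hxx (hzero (-1) (by ring) (by rw [map_neg, map_one]) x x ?_ ?_) <;>
      · rw [neg_one_smul]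
        exact (neg_eq_of_add_eq_zero_right (hno x hx)).symm
    set x := v + T v
    have hxU : x ∈ U := add_mem hv (hUT v hv)
    have hTx : T x = (1 : F) • x := by rw [one_smul]; simp [x, map_add, hTT, add_comm]
    obtain ⟨y, hy, hxy⟩ : ∃ y ∈ U, B x y ≠ 0 := by
      by_contra hno
      push Not at hno
      exact hv0 (hUn x hxU hno)
    set d := y - T y
    have hdU : d ∈ U := sub_mem hy (hUT y hy)
    have hTd : T d = (-1 : F) • d := by rw [neg_one_smul]; simp [d, map_sub, hTT]
    have hxx : B x x = 0 := hzero 1 (one_mul 1) (map_one σ) x x hTx hTx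
    have hdd : B d d = 0 := hzero (-1) (by ring) (by rw [map_neg, map_one]) d d hTd hTd
    have hxd : B x d ≠ 0 := by
      have h3 := hiso x y
      rw [hTx, one_smul] at h3
      rw [map_sub, h3, sub_neg_eq_add, ← two_mul]
      exact mul_ne_zero h2 hxy
    have hdx : B d x ≠ 0 := fun e => hxd (H.refl _ _ e)
    let P := Submodule.span F ({x, d} : Set V)
    have hPU : P ≤ U := Submodule.span_le.mpr (Set.insert_subset_iff.mpr ⟨hxU, Set.singleton_subset_iff.mpr hdU⟩)
    have hli : LinearIndependent F ![x, d] := by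
      refine LinearIndependent.pair_iff.mpr fun a b hab => ?_
      have e1 := congrArg (B x) hab
      have e2 := congrArg (B d) hab
      simp only [map_add, map_smul, smul_eq_mul, hxx, hdd, mul_zero, zero_add, add_zero, map_zero] at e1 e2
      exact ⟨(mul_eq_zero.mp e2).resolve_right hdx, (mul_eq_zero.mp e1).resolve_right hxd⟩
    refine ⟨P, hPU, hTL P fun z hz => ?_, fun z hz hp => ?_, ?_⟩
    · obtain ⟨a, b, rfl⟩ := Submodule.mem_span_pair.mp hz
      rw [map_add, map_smul, map_smul, hTx, hTd, smul_smul, smul_smul]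
      exact add_mem (P.smul_mem _ (Submodule.mem_span_of_mem (by simp))) (P.smul_mem _ (Submodule.mem_span_of_mem (by simp)))
    · obtain ⟨a, b, rfl⟩ := Submodule.mem_span_pair.mp hz
      have e1 := hp x (Submodule.mem_span_of_mem (by simp))
      have e2 := hp d (Submodule.mem_span_of_mem (by simp))
      simp only [map_add, LinearMap.map_smulₛₗ, LinearMap.add_apply, LinearMap.smul_apply, smul_eq_mul, hxx, hdd,
        mul_zero, zero_add, add_zero] at e1 e2
      have ha : a = 0 := σ.injective (((mul_eq_zero.mp e2).resolve_right hxd).trans (map_zero σ).symm)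
      have hb : b = 0 := σ.injective (((mul_eq_zero.mp e1).resolve_right hdx).trans (map_zero σ).symm)
      rw [ha, hb, zero_smul, zero_smul, add_zero]
    · show finrank F (Submodule.span F ({x, d} : Set V)) = 2
      rw [← Matrix.range_cons_cons_empty x d ![], finrank_span_eq_card hli, Fintype.card_fin]
  obtain ⟨h1, h2'⟩ := decomp_dims H h (show 0 < 2 by omega) ⊤ hpiece _ U rfl le_top (hTL U hU) hn
  refine ⟨h1, fun j hj => ?_⟩
  obtain ⟨X, hX, hXL, hXn, hXd⟩ := h2' j hj
  exact ⟨X, hX, hLT X hXL, hXn, hXd⟩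

end Anti

variable {F : Type u} [Field F] [Fintype F] {q n m : ℕ} {p : ℕ} [Fact p.Prime] [CharP F p]

/-- Involutions modulo scalars fix non-degenerate subspaces. -/
theorem nd_two_pos (hF : Fintype.card F = q ^ 2) (hp2 : p ≠ 2) (hn : 0 < n) (hmn : m ≤ n) {y : GL (Fin n) F}
    (hy : y ∈ Cfsg.GU n F q) (hdet : (y : Matrix (Fin n) (Fin n) F).det = 1) {z : F}
    (hz : (y : Matrix (Fin n) (Fin n) F) ^ 2 = z • 1)
    (hcond : Odd n ∨ Even m ∨ (padicValNat 2 n ≤ padicValNat 2 (q + 1) ∧ q % 4 = 3)) :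
    HasND q m (y : Matrix (Fin n) (Fin n) F) := by
  classical
  obtain ⟨h2, hq, hsq⟩ := sign_facts (p := p) hF hp2
  obtain ⟨σ, B, H, hB⟩ := exists_herm hF n
  have hdim : finrank F (Fin n → F) = n := by rw [Module.finrank_fintype_fun_eq_card, Fintype.card_fin]
  have hzn := scalar_norm H hB hn (y := y ^ 2) (pow_mem hy 2) (by rw [Units.val_pow_eq_pow_val, hz])
  obtain ⟨s, hs⟩ := hsq z hzn
  have hs0 : s ≠ 0 := fun e => by
    rw [e, zero_pow two_ne_zero] at hs
    rw [← hs, zero_pow (Nat.succ_ne_zero q)] at hzn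
    exact zero_ne_one hzn
  set L := Matrix.toLin' (y : Matrix (Fin n) (Fin n) F) with hL
  set T : Module.End F (Fin n → F) := s⁻¹ • L with hT
  have hLT : ∀ v, L v = s • T v := fun v => by rw [hT, LinearMap.smul_apply, smul_smul, mul_inv_cancel₀ hs0, one_smul]
  have hLsq : L ^ 2 = z • (1 : Module.End F (Fin n → F)) := by
    have h1 : Matrix.toLinAlgEquiv' ((y : Matrix (Fin n) (Fin n) F) ^ 2) = z • (1 : Module.End F (Fin n → F)) := by
      rw [hz, map_smul, map_one]
    rwa [map_pow] at h1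
  have hper : T ^ 2 = 1 := by
    rw [hT, _root_.smul_pow, hLsq, smul_smul, ← hs, ← mul_pow, inv_mul_cancel₀ hs0, one_pow, one_smul]
  have hTT : ∀ v, T (T v) = v := fun v => by
    have := LinearMap.congr_fun hper v
    rwa [sq] at this
  set c := s⁻¹ ^ (q + 1) with hc
  have hiso : ∀ u v, B (T u) (T v) = c * B u v := fun u v => by
    simp only [hT, LinearMap.smul_apply, LinearMap.map_smulₛₗ, map_smul, smul_eq_mul]
    rw [H.frob, ← mul_assoc, ← pow_succ', ← hc, gu_iso hB hy]
  have hc2 : c = 1 ∨ c = -1 := sq_eq_one_iff.mp (by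
    rw [hc, ← pow_mul, mul_comm, pow_mul, inv_pow, hs, inv_pow, hzn, inv_one])
  rcases hc2 with hc1 | hc1
  · have hunit : ((2 : ℕ) : F) ≠ 0 := by exact_mod_cast h2
    have h : PerIso B T 2 := ⟨H.refl, fun u v => by rw [hiso, hc1, one_mul], hper, hunit⟩
    obtain ⟨hAn, hRn⟩ := nds_parts H h
    obtain ⟨hsum, -⟩ := finrank_split h (inv_top (T := T))
    rw [top_inf_eq, top_inf_eq, finrank_top, hdim] at hsum
    obtain ⟨X, hX, hXn, hXd⟩ := exists_nds_le H hAn (min_le_right m _)
    obtain ⟨Y, hY, hYn, hYd⟩ := exists_nds_le H hRn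
      (a := m - min m (finrank F (LinearMap.ker (aeval T (Polynomial.X - C (1 : F)))))) (by omega)
    obtain ⟨h3, h4⟩ := nds_sup H hXn hYn fun a ha b hb => (fix_perp h (hX ha) (hY hb)).1
    refine hasND_of H hB hLT ⟨X ⊔ Y, Inv.sup (fun a ha => ?_) (fun b hb => ?_), h3, by omega⟩
    · rw [show T a = a by simpa [sub_eq_zero] using hX ha]
      exact ha
    · have h5 : b + T b = 0 := by
        simpa [geom, Finset.sum_range_succ] using hY hb
      rw [← neg_eq_of_add_eq_zero_right h5]
      exact Y.neg_mem hb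
  · have hiso' : ∀ u v, B (T u) (T v) = -B u v := fun u v => by rw [hiso, hc1, neg_one_mul]
    have hper' : PerIso B L (2 * (q + 1)) := ⟨H.refl, gu_iso hB hy, by
      rw [pow_mul, hLsq, _root_.smul_pow, one_pow, hzn, one_smul], by
      rw [Nat.cast_mul]; exact mul_ne_zero (by exact_mod_cast h2) (cast_ne_zero_add_one (p := p) hF)⟩
    obtain ⟨h3, h4⟩ := anti_dims H h2 hper' hLT hs0 hTT hiso' inv_top (nds_top H)
    rw [finrank_top, hdim] at h3 h4
    by_cases hme : Even m
    · obtain ⟨k, rfl⟩ := hme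
      obtain ⟨X, -, hXT, hXn, hXd⟩ := h4 k (by omega)
      exact hasND_of H hB hLT ⟨X, hXT, hXn, by omega⟩
    exfalso
    have hne : ¬ Odd n := Nat.not_odd_iff_even.mpr (even_iff_two_dvd.mpr h3)
    obtain ⟨hv, hq4⟩ := (hcond.resolve_left hne).resolve_left hme
    obtain ⟨o, rfl⟩ := h3
    obtain ⟨e, he⟩ : 4 ∣ q + 1 := by omega
    -- the determinant
    set A := LinearMap.ker (T - 1)
    set D := LinearMap.ker (T + 1)
    have hzero : ∀ e : F, e * e = 1 → σ e = e → ∀ a b, T a = e • a → T b = e • b → B a b = 0 :=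
      fun e he heσ a b ha hb => by
        have h1 := hiso' a b
        simp only [ha, hb, LinearMap.map_smulₛₗ, LinearMap.smul_apply, map_smul, smul_eq_mul, heσ, ← mul_assoc, he,
          one_mul] at h1
        exact (mul_eq_zero.mp (show (2 : F) * B a b = 0 by linear_combination h1)).resolve_left h2
    have hA : ∀ v ∈ A, T v = (1 : F) • v := fun v hv => by simpa [A, sub_eq_zero] using hv
    have hD : ∀ v ∈ D, T v = (-1 : F) • v := fun v hv => by
      simpa [D, neg_one_smul, add_eq_zero_iff_eq_neg] using hv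
    have hA2 := two_mul_le H (le_top : A ≤ ⊤) (fun u hu v hv => hzero 1 (one_mul 1) (map_one σ) u v (hA u hu) (hA v hv))
      (nds_top H)
    have hD2 := two_mul_le H (le_top : D ≤ ⊤)
      (fun u hu v hv => hzero (-1) (by ring) (by rw [map_neg, map_one]) u v (hD u hu) (hD v hv)) (nds_top H)
    rw [finrank_top, hdim] at hA2 hD2
    have hle : LinearMap.range (T - 1) ≤ D := by
      rintro _ ⟨v, rfl⟩
      simp [D, map_sub, hTT]
      abel
    have hrk := LinearMap.finrank_range_add_finrank_ker (T - 1)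
    rw [hdim] at hrk
    change finrank F (LinearMap.range (T - 1)) + finrank F A = _ at hrk
    have := Submodule.finrank_mono hle
    have hAT : A ≤ A.comap T := fun v hv => by
      show T v ∈ A
      rw [hA v hv, one_smul]
      exact hv
    have hdA := A.finrank_quotient_add_finrank
    rw [hdim] at hdA
    have hd1 := LinearMap.det_eq_det_mul_det A T hAT
    have hr1 : T.restrict (show ∀ x ∈ A, T x ∈ A from fun x hx => hAT hx) = 1 := LinearMap.ext fun v => Subtype.ext (by
      show T v = v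
      rw [hA v v.2, one_smul])
    have hq1 : A.mapQ A T hAT = (-1 : F) • 1 := LinearMap.ext fun w => by
      obtain ⟨w, rfl⟩ := Submodule.mkQ_surjective A w
      show A.mkQ (T w) = (-1 : F) • A.mkQ w
      rw [neg_one_smul, Submodule.mkQ_apply, Submodule.mkQ_apply, ← Submodule.Quotient.mk_neg, Submodule.Quotient.eq]
      simp [A, map_add, hTT, add_comm]
    rw [hr1, hq1, map_one, one_mul, LinearMap.det_smul (-1 : F), map_one, mul_one,
      show finrank F ((Fin (2 * o) → F) ⧸ A) = o by omega] at hd1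
    rw [hT, LinearMap.det_smul, hL, LinearMap.det_toLin', hdet, mul_one, hdim, pow_mul, inv_pow, hs, inv_pow] at hd1
    have hzo : (-z) ^ o = 1 := by
      have h5 : z ^ o ≠ 0 := pow_ne_zero _ (fun e0 => by rw [e0, zero_pow (Nat.succ_ne_zero q)] at hzn; exact zero_ne_one hzn)
      rw [neg_pow, ← hd1, inv_mul_cancel₀ h5]
    have ho : o ≠ 0 := by omega
    have hnzq : (-z) ^ (q + 1) = 1 := by rw [hq.add_one.neg_pow, hzn]
    have he0 : 2 * e ≠ 0 := by omega
    have hord : orderOf (-z) ∣ 2 * e := dvd_of_val Nat.prime_two he0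
      (by rw [show 2 * (2 * e) = q + 1 by omega]; exact orderOf_dvd_of_pow_eq_one hnzq) (by
        have h6 := (padicValNat_dvd_iff_le ho).mp (pow_padicValNat_dvd.trans (orderOf_dvd_of_pow_eq_one hzo) :
          2 ^ padicValNat 2 (orderOf (-z)) ∣ o)
        rw [show q + 1 = 2 * (2 * e) by omega, padicValNat.mul two_ne_zero ho, padicValNat.mul two_ne_zero he0,
          padicValNat.self one_lt_two] at hv
        omega)
    have h7 := orderOf_dvd_iff_pow_eq_one.mp hord
    rw [(even_two_mul e).neg_pow, ← hs, ← pow_mul, show 2 * (2 * e) = q + 1 by omega] at h7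
    rw [hc, inv_pow, h7, inv_one] at hc1
    exact h2 (by linear_combination hc1)

/-- An element with only even-dimensional invariant non-degenerate subspaces. -/
theorem nd_two_neg (hF : Fintype.card F = q ^ 2) (hp2 : p ≠ 2) (hn : 0 < n) (hne : Even n) (hmo : Odd m)
    (hv : ¬ (padicValNat 2 n ≤ padicValNat 2 (q + 1) ∧ q % 4 = 3)) :
    ∃ x : Matrix.SpecialLinearGroup (Fin n) F, x ∈ Cfsg.SU n F q ∧
      (∃ z : F, ((x ^ 2 : Matrix.SpecialLinearGroup (Fin n) F) : Matrix (Fin n) (Fin n) F) = z • 1) ∧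
      ¬ HasND q m (x : Matrix (Fin n) (Fin n) F) := by
  classical
  obtain ⟨h2, hq, hsq⟩ := sign_facts (p := p) hF hp2
  obtain ⟨u, hu⟩ := CfsgLib.UnitaryBasic.exists_zeta hF
  set V := padicValNat 2 (q + 1) with hV
  obtain ⟨d, hd⟩ : 2 ^ V ∣ q + 1 := pow_padicValNat_dvd
  have hd0 : d ≠ 0 := fun e => by rw [e, mul_zero] at hd; omega
  have hζ : orderOf (u ^ d) = 2 ^ V := by
    rw [orderOf_pow_of_dvd hd0 ⟨2 ^ V, by rw [hu, hd, mul_comm]⟩, hu, hd, Nat.mul_div_cancel _ (Nat.pos_of_ne_zero hd0)]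
  set z : F := Units.val (u ^ d) with hzdef
  have hzord : orderOf z = 2 ^ V := by rw [hzdef, orderOf_units, hζ]
  have hzq : z ^ (q + 1) = 1 := orderOf_dvd_iff_pow_eq_one.mp (hzord ▸ ⟨d, hd⟩)
  obtain ⟨s, hs⟩ := hsq z hzq
  obtain ⟨k, hk⟩ : 2 ∣ q + 1 := even_iff_two_dvd.mp hq.add_one
  have hsq1 : s ^ (q + 1) = -1 := by
    refine (sq_eq_one_iff.mp (by rw [← pow_mul, mul_comm, pow_mul, hs, hzq])).resolve_left fun e => ?_
    rw [hk, pow_mul, hs] at e
    have h3 := Nat.mul_dvd_mul_left 2 (orderOf_dvd_of_pow_eq_one e)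
    rw [hzord, ← hk, ← pow_succ'] at h3
    exact pow_succ_padicValNat_not_dvd (Nat.succ_ne_zero q) h3
  obtain ⟨o, rfl⟩ := even_iff_two_dvd.mp hne
  have ho : o ≠ 0 := by omega
  have hzo : (-z) ^ o = 1 := by
    by_cases h4 : q % 4 = 3
    · have hVo : 2 ^ V ∣ o := (padicValNat_dvd_iff_le ho).mpr (by
        have h6 : ¬ padicValNat 2 (2 * o) ≤ V := fun e => hv ⟨e, h4⟩
        rw [padicValNat.mul two_ne_zero ho, padicValNat.self one_lt_two] at h6
        omega)
      have hV2 : 1 ≤ V := one_le_padicValNat_of_dvd (Nat.succ_ne_zero q) ⟨k, hk⟩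
      have hoe : Even o := even_iff_two_dvd.mpr ((dvd_pow_self 2 (by omega)).trans hVo)
      rw [hoe.neg_pow]
      exact orderOf_dvd_iff_pow_eq_one.mp (hzord ▸ hVo)
    · have hV1 : V = 1 := le_antisymm (by
        by_contra h5
        push Not at h5
        have h6 : 2 ^ 2 ∣ q + 1 := (pow_dvd_pow 2 h5).trans pow_padicValNat_dvd
        obtain ⟨j, hj⟩ := hq
        omega) (one_le_padicValNat_of_dvd (Nat.succ_ne_zero q) ⟨k, hk⟩)
      rw [hV1, pow_one] at hzord
      have hz1 : z = -1 := (sq_eq_one_iff.mp (orderOf_dvd_iff_pow_eq_one.mp hzord.dvd)).resolve_left fun e => by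
        rw [e, orderOf_one] at hzord; omega
      rw [hz1, neg_neg, one_pow]
  let e : Fin (2 * o) ≃ Fin 2 × Fin o := finProdFinEquiv.symm
  let π : Equiv.Perm (Fin (2 * o)) := e.permCongr.symm ((Equiv.swap (0 : Fin 2) 1).prodCongr (Equiv.refl _))
  let D : Fin (2 * o) → F := fun i => if (e i).1 = 0 then z else 1
  let M : Matrix (Fin (2 * o)) (Fin (2 * o)) F := Matrix.diagonal D * π.permMatrix F
  have hMv : ∀ v i, Matrix.toLin' M v i = D i * v (π i) := fun v i => by
    rw [Matrix.toLin'_apply, ← Matrix.mulVec_mulVec, Matrix.mulVec_diagonal, Matrix.permMatrix_mulVec]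
    rfl
  have hπe : ∀ i, e (π i) = (Equiv.swap (0 : Fin 2) 1 (e i).1, (e i).2) := fun i => by
    simp [π, Prod.map]
  have hππ : ∀ i, π (π i) = i := fun i => e.injective (by rw [hπe, hπe]; simp)
  have hDD : ∀ i, D i * D (π i) = z := fun i => by
    simp only [D, hπe]
    generalize (e i).1 = a
    fin_cases a <;> simp
  have hsign : Equiv.Perm.sign π = (-1) ^ o := by
    rw [show π = e.symm.permCongr (Equiv.prodCongrLeft fun _ : Fin o => Equiv.swap (0 : Fin 2) 1) from
        Equiv.ext fun i => e.injective (by simp [hπe, Equiv.prodCongrLeft]),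
      Equiv.Perm.sign_permCongr, Equiv.Perm.sign_prodCongrLeft]
    simp
  have hdet : M.det = 1 := by
    rw [Matrix.det_mul, Matrix.det_diagonal, Matrix.det_permutation, hsign, ← e.symm.prod_comp D,
      Fintype.prod_prod_type, Fin.prod_univ_two]
    simp [D, ← mul_pow, hzo]
  let x : Matrix.SpecialLinearGroup (Fin (2 * o)) F := ⟨M, hdet⟩
  have hTsq : Matrix.toLin' M ^ 2 = z • (1 : Module.End F (Fin (2 * o) → F)) := LinearMap.ext fun v => funext fun i => by
    rw [sq, Module.End.mul_apply, hMv, hMv, hππ, ← mul_assoc, hDD]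
    rfl
  have hGU : ∀ a b, Cfsg.hermForm (2 * o) F q (M *ᵥ a) (M *ᵥ b) = Cfsg.hermForm (2 * o) F q a b := fun a b => by
    simp only [Cfsg.hermForm, ← Matrix.toLin'_apply, hMv]
    rw [← Equiv.sum_comp π fun i => a i * b i ^ q]
    refine Finset.sum_congr rfl fun i _ => ?_
    have h1 : D i ^ (q + 1) = 1 := by simp only [D]; split_ifs <;> simp [hzq]
    rw [pow_succ'] at h1
    linear_combination (a (π i) * b (π i) ^ q) * h1
  refine ⟨x, hGU, ⟨z, ?_⟩, fun hND => ?_⟩
  · refine Matrix.toLinAlgEquiv'.injective ?_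
    rw [Matrix.SpecialLinearGroup.coe_pow, map_pow, map_smul, map_one]
    exact hTsq
  obtain ⟨σ, B, H, hB⟩ := exists_herm hF (2 * o)
  have hz0 : z ≠ 0 := Units.ne_zero _
  have hs0 : s ≠ 0 := fun e0 => hz0 (by rw [← hs, e0, zero_pow two_ne_zero])
  set L := Matrix.toLin' M with hL
  set T : Module.End F (Fin (2 * o) → F) := s⁻¹ • L with hT
  have hLT : ∀ v, L v = s • T v := fun v => by rw [hT, LinearMap.smul_apply, smul_smul, mul_inv_cancel₀ hs0, one_smul]
  have hisoL : ∀ a b, B (L a) (L b) = B a b := fun a b => by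
    rw [hB, hB, hL, Matrix.toLin'_apply, Matrix.toLin'_apply, hGU]
  have hper : PerIso B L (2 * (q + 1)) := ⟨H.refl, hisoL, by
    rw [pow_mul, hTsq, _root_.smul_pow, one_pow, hzq, one_smul], by
    rw [Nat.cast_mul]; exact mul_ne_zero (by exact_mod_cast h2) (cast_ne_zero_add_one (p := p) hF)⟩
  have hTT : ∀ v, T (T v) = v := fun v => by
    have h1 := LinearMap.congr_fun hTsq v
    rw [sq, Module.End.mul_apply] at h1
    simp only [hT, LinearMap.smul_apply, map_smul, h1, smul_smul, Module.End.one_apply]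
    rw [← hs, show s⁻¹ * (s⁻¹ * s ^ 2) = 1 by field_simp, one_smul]
  have hiso : ∀ a b, B (T a) (T b) = -B a b := fun a b => by
    simp only [hT, LinearMap.smul_apply, LinearMap.map_smulₛₗ, map_smul, smul_eq_mul]
    rw [H.frob, ← mul_assoc, ← pow_succ', inv_pow, hsq1, inv_neg, inv_one, neg_one_mul, hisoL]
  obtain ⟨W, hWT, hWn, hWd⟩ := of_hasND H hB hs0 hLT hND
  obtain ⟨h3, -⟩ := anti_dims H h2 hper hLT hs0 hTT hiso hWT hWn
  rw [hWd] at h3
  exact Nat.not_even_iff_odd.mpr hmo (even_iff_two_dvd.mpr h3)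

end CfsgLib.HermIso
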