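/-
Unitary elements of order the characteristic: orthogonal decomposition into cyclic blocks.
-/
import Cfsg.Agent.Lib.HermIso.Frame
import Cfsg.Agent.Lib.PrimeIso.UniAlt

set_option autoImplicit false
set_option linter.unusedSectionVars false
set_option maxHeartbeats 1000000

namespace CfsgLib.HermIso

open Polynomial Module CfsgLib.PrimeIso

universe u v

variable {F : Type u} [Field F] [Fintype F] {σ : F →+* F} {V : Type v} [AddCommGroup V] [Module F V]
  [FiniteDimensional F V] {q : ℕ} {B : V →ₛₗ[σ] V →ₗ[F] F} {T : Module.End F V} {p : ℕ}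

/-- An isometry of order dividing the characteristic. -/
structure UniH (q : ℕ) (B : V →ₛₗ[σ] V →ₗ[F] F) (T : Module.End F V) (p : ℕ) : Prop where
  herm : Herm q B
  iso : ∀ x y, B (T x) (T y) = B x y
  per : T ^ p = 1
  char : ringChar F = p
  prime : p.Prime

namespace UniH

variable (h : UniH q B T p)
include h

theorem nilp : (T - 1) ^ p = 0 := by
  have : CharP F p := ringChar.of_eq h.char
  have := Fact.mk h.prime
  have h1 : ((X : F[X]) - 1) ^ p = X ^ p - 1 := by rw [sub_pow_char, one_pow]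
  have h2 := congrArg (aeval T) h1
  simpa [h.per] using h2

theorem inv_sub {W : Submodule F V} (hW : Inv T W) (i : ℕ) : ∀ x ∈ W, ((T - 1) ^ i) x ∈ W := by
  induction i with
  | zero => intro x hx; simpa using hx
  | succ i ih =>
    intro x hx
    rw [pow_succ', Module.End.mul_apply, LinearMap.sub_apply, Module.End.one_apply]
    exact W.sub_mem (hW _ (ih x hx)) (ih x hx)

theorem inv_perp {Y U : Submodule F V} (hY : Inv T Y) (hU : Inv T U) : Inv T (perpH B Y U) :=
  fun x hx => ⟨hU x hx.1, fun w hw => by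
    have hw' : T ((T ^ (p - 1)) w) = w := by
      rw [← Module.End.mul_apply, ← pow_succ', Nat.sub_add_cancel h.prime.pos, h.per, Module.End.one_apply]
    rw [← hw', h.iso]
    exact hx.2 _ (hY.pow _ w hw)⟩

theorem step (x y : V) (i j : ℕ) :
    B (((T - 1) ^ (i + 1)) x) (((T - 1) ^ j) y) + B (((T - 1) ^ i) x) (((T - 1) ^ (j + 1)) y) +
      B (((T - 1) ^ (i + 1)) x) (((T - 1) ^ (j + 1)) y) = 0 := by
  simp only [pow_succ', Module.End.mul_apply, LinearMap.sub_apply, Module.End.one_apply, map_sub]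
  linear_combination h.iso (((T - 1) ^ i) x) (((T - 1) ^ j) y)

omit h in
theorem pow_vanish {x : V} {k i : ℕ} (hx : ((T - 1) ^ k) x = 0) (hi : k ≤ i) : ((T - 1) ^ i) x = 0 := by
  obtain ⟨l, rfl⟩ := Nat.exists_eq_add_of_le hi
  rw [add_comm, pow_add, Module.End.mul_apply, hx, map_zero]

theorem vanish {x y : V} {k : ℕ} (hx : ((T - 1) ^ k) x = 0) (hy : ((T - 1) ^ k) y = 0) :
    ∀ i j, k ≤ i + j → B (((T - 1) ^ i) x) (((T - 1) ^ j) y) = 0 := by
  suffices key : ∀ n i j, k ≤ i + j → 2 * k ≤ i + j + n → B (((T - 1) ^ i) x) (((T - 1) ^ j) y) = 0 from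
    fun i j hij => key (2 * k) i j hij (by omega)
  intro n
  induction n with
  | zero =>
    intro i j _ h2
    rcases le_total k i with hi | hi
    · rw [pow_vanish hx hi, map_zero, LinearMap.zero_apply]
    · rw [pow_vanish hy (i := j) (by omega), map_zero]
  | succ n ih =>
    intro i
    induction i with
    | zero =>
      intro j hj _
      rw [pow_vanish hy (i := j) (by omega), map_zero]
    | succ i ih' =>
      intro j hj h2
      have h3 := h.step x y i j
      rw [ih' (j + 1) (by omega) (by omega), ih (i + 1) (j + 1) (by omega) (by omega), add_zero, add_zero] at h3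
      exact h3

theorem diag {x y : V} {k : ℕ} (hx : ((T - 1) ^ k) x = 0) (hy : ((T - 1) ^ k) y = 0) :
    ∀ i j, i + j + 1 = k → B (((T - 1) ^ i) x) (((T - 1) ^ j) y) = (-1 : F) ^ i * B x (((T - 1) ^ (k - 1)) y) := by
  intro i
  induction i with
  | zero =>
    intro j hj
    rw [show j = k - 1 by omega]
    simp
  | succ i ih =>
    intro j hj
    have h3 := h.step x y i j
    rw [ih (j + 1) (by omega), h.vanish hx hy (i + 1) (j + 1) (by omega), add_zero] at h3
    rw [pow_succ (-1 : F)]
    linear_combination h3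

/-- The span of a chain. -/
theorem chain {w : V} {k : ℕ} (hw : ((T - 1) ^ k) w = 0) (h1 : B w (((T - 1) ^ (k - 1)) w) ≠ 0) {U : Submodule F V}
    (hU : Inv T U) (hwU : w ∈ U) :
    ∃ P ≤ U, Inv T P ∧ NDS B P ∧ ∀ j, finrank F (P.map ((T - 1) ^ j)) = k - j := by
  classical
  let L : ∀ j, (Fin (k - j) → F) →ₗ[F] V := fun j =>
    Fintype.linearCombination F (fun i : Fin (k - j) => ((T - 1) ^ (j + i.val)) w)
  have hL : ∀ j c, L j c = ∑ i : Fin (k - j), c i • ((T - 1) ^ (j + i.val)) w :=
    fun j c => Fintype.linearCombination_apply ..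
  have hkey : ∀ j (c : Fin (k - j) → F), (∀ m : ℕ, B (L j c) (((T - 1) ^ m) w) = 0) → c = 0 := by
    intro j c hc
    suffices ∀ (n : ℕ) (i : Fin (k - j)), i.val = n → c i = 0 from funext fun i => this _ i rfl
    intro n
    induction n using Nat.strong_induction_on with
    | _ n ih =>
      rintro i rfl
      have h3 := hc (k - 1 - (j + i.val))
      rw [hL, map_sum, LinearMap.sum_apply, Finset.sum_eq_single i] at h3
      · rw [LinearMap.map_smulₛₗ, LinearMap.smul_apply,
          h.diag hw hw _ _ (by have := i.2; omega), smul_eq_mul] at h3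
        exact σ.injective (((mul_eq_zero.mp h3).resolve_right
          (mul_ne_zero (pow_ne_zero _ (neg_ne_zero.mpr one_ne_zero)) h1)).trans (map_zero σ).symm)
      · intro i' _ hne
        rw [LinearMap.map_smulₛₗ, LinearMap.smul_apply]
        rcases lt_trichotomy i'.val i.val with h4 | h4 | h4
        · rw [ih _ h4 i' rfl, map_zero, zero_smul]
        · exact absurd (Fin.ext h4) hne
        · rw [h.vanish hw hw _ _ (by have := i.2; omega), smul_zero]
      · exact fun hm => absurd (Finset.mem_univ _) hm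
  have hinj : ∀ j, Function.Injective (L j) := fun j => (injective_iff_map_eq_zero _).mpr fun c hc =>
    hkey j c fun m => by rw [hc, map_zero, LinearMap.zero_apply]
  have hgen : ∀ j i, ((T - 1) ^ (j + i)) w ∈ LinearMap.range (L j) := by
    intro j i
    by_cases hi : i < k - j
    · refine ⟨Pi.single ⟨i, hi⟩ 1, ?_⟩
      rw [hL, Finset.sum_eq_single (⟨i, hi⟩ : Fin (k - j)) (fun q _ hq => by rw [Pi.single_eq_of_ne hq, zero_smul])
        (fun hm => absurd (Finset.mem_univ _) hm), Pi.single_eq_same, one_smul]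
    · rw [pow_vanish hw (show k ≤ j + i by omega)]
      exact zero_mem _
  have hgen0 : ∀ i : ℕ, ((T - 1) ^ i) w ∈ LinearMap.range (L 0) := fun i => by
    simpa using hgen 0 i
  have hmap : ∀ j, (LinearMap.range (L 0)).map ((T - 1) ^ j) = LinearMap.range (L j) := by
    intro j
    refine le_antisymm ?_ ?_
    · rintro _ ⟨_, ⟨c, rfl⟩, rfl⟩
      rw [hL, map_sum]
      refine Submodule.sum_mem _ fun q _ => ?_
      rw [map_smul, ← Module.End.mul_apply, ← pow_add, ← add_assoc, add_zero]
      exact Submodule.smul_mem _ _ (hgen _ _)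
    · rintro _ ⟨c, rfl⟩
      rw [hL]
      refine Submodule.sum_mem _ fun q _ => Submodule.smul_mem _ _ ?_
      refine ⟨_, hgen0 q.val, ?_⟩
      rw [pow_add, Module.End.mul_apply]
  refine ⟨LinearMap.range (L 0), ?_, ?_, ?_, fun j => ?_⟩
  · rintro _ ⟨c, rfl⟩
    rw [hL]
    exact Submodule.sum_mem _ fun q _ => U.smul_mem _ (h.inv_sub hU _ _ hwU)
  · rintro _ ⟨c, rfl⟩
    rw [show T (L 0 c) = (T - 1) (L 0 c) + L 0 c by simp]
    refine add_mem ?_ ⟨c, rfl⟩
    rw [hL, map_sum]
    refine Submodule.sum_mem _ fun q _ => ?_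
    rw [map_smul, ← Module.End.mul_apply, ← pow_succ']
    exact Submodule.smul_mem _ _ (hgen0 _)
  · rintro _ ⟨c, rfl⟩ hp
    rw [hkey 0 c fun m => hp _ (hgen0 m), map_zero]
  · rw [hmap, LinearMap.finrank_range_of_inj (hinj j), Module.finrank_fintype_fun_eq_card, Fintype.card_fin]

/-- One block inside a non-degenerate invariant subspace. -/
theorem exists_chain_block {U : Submodule F V} (hU : Inv T U) (hn : NDS B U) (hne : U ≠ ⊥) :
    ∃ (k : ℕ) (P : Submodule F V), 0 < k ∧ k ≤ p ∧ P ≤ U ∧ Inv T P ∧ NDS B P ∧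
      ∀ j, finrank F (P.map ((T - 1) ^ j)) = k - j := by
  classical
  have hex : ∃ k : ℕ, ∀ x ∈ U, ((T - 1) ^ k) x = 0 := ⟨p, fun x _ => by rw [h.nilp, LinearMap.zero_apply]⟩
  set k := Nat.find hex
  have hk : ∀ x ∈ U, ((T - 1) ^ k) x = 0 := Nat.find_spec hex
  have hkp : k ≤ p := Nat.find_le fun x _ => by rw [h.nilp, LinearMap.zero_apply]
  have hk0 : 0 < k := Nat.pos_of_ne_zero fun h0 => by
    obtain ⟨x, hx, hx0⟩ := Submodule.exists_mem_ne_zero_of_ne_bot hne
    exact hx0 (by simpa [h0] using hk x hx)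
  obtain ⟨x, hx, hxx⟩ : ∃ x ∈ U, B x (((T - 1) ^ (k - 1)) x) ≠ 0 := by
    by_contra hno
    push Not at hno
    refine Nat.find_min hex (show k - 1 < k by omega) fun y hy => ?_
    refine hn _ (h.inv_sub hU _ y hy) fun z hz => h.herm.refl _ _ ?_
    exact polar_zero h.herm (B.compl₂ ((T - 1) ^ (k - 1))) (fun a ha => hno a ha) z hz y hy
  obtain ⟨P, hP⟩ := h.chain (hk x hx) hxx hU hx
  exact ⟨k, P, hk0, hkp, hP⟩

/-- The block sizes, with all their partial sums. -/
theorem decomp : ∀ (n : ℕ) (U : Submodule F V), finrank F U ≤ n → Inv T U → NDS B U →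
    ∃ μ : Multiset ℕ, (∀ a ∈ μ, 0 < a ∧ a ≤ p) ∧ (∀ j, finrank F (U.map ((T - 1) ^ j)) = profile μ j) ∧
      ∀ ν ≤ μ, ∃ W ≤ U, Inv T W ∧ NDS B W ∧ finrank F W = ν.sum := by
  classical
  intro n
  induction n using Nat.strong_induction_on with
  | _ n ih =>
    intro U hdim hU hn
    rcases eq_or_ne U ⊥ with rfl | hne
    · refine ⟨0, by simp, fun j => by simp [profile], fun ν hν => ?_⟩
      exact ⟨⊥, le_rfl, inv_bot, fun x hx _ => (Submodule.mem_bot F).mp hx, by simp [Multiset.le_zero.mp hν]⟩
    obtain ⟨k, P, hk0, hkp, hPU, hPT, hPn, hPr⟩ := h.exists_chain_block hU hn hne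
    obtain ⟨hQn, hinf, hsup, hdims⟩ := split_perpH h.herm hPU hPn hn
    set Q := perpH B P U
    have hQT : Inv T Q := h.inv_perp hPT hU
    have hPd : finrank F P = k := by
      have h3 := hPr 0
      rwa [pow_zero, Module.End.one_eq_id, Submodule.map_id, Nat.sub_zero] at h3
    obtain ⟨μ, hμp, hμr, hμw⟩ := ih _ (show finrank F Q < n by omega) Q le_rfl hQT hQn
    refine ⟨k ::ₘ μ, fun a ha => ?_, fun j => ?_, fun ν hν => ?_⟩
    · rcases Multiset.mem_cons.mp ha with rfl | ha
      exacts [⟨hk0, hkp⟩, hμp a ha]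
    · rw [← hsup, Submodule.map_sup, show profile (k ::ₘ μ) j = (k - j) + profile μ j by simp [profile], ← hμr j,
        ← hPr j]
      have hd := Submodule.finrank_sup_add_finrank_inf_eq (P.map ((T - 1) ^ j)) (Q.map ((T - 1) ^ j))
      have hle : P.map ((T - 1) ^ j) ⊓ Q.map ((T - 1) ^ j) ≤ P ⊓ Q := inf_le_inf
        (Submodule.map_le_iff_le_comap.mpr (h.inv_sub hPT j)) (Submodule.map_le_iff_le_comap.mpr (h.inv_sub hQT j))
      rw [hinf, le_bot_iff] at hle
      rwa [hle, finrank_bot, add_zero] at hd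
    · by_cases hkν : k ∈ ν
      · obtain ⟨ν', rfl⟩ := Multiset.exists_cons_of_mem hkν
        obtain ⟨W, hW, hWT, hWn, hWd⟩ := hμw ν' ((Multiset.cons_le_cons_iff k).mp hν)
        obtain ⟨h1, h2⟩ := nds_sup h.herm hPn hWn fun x hx y hy => (hW hy).2 x hx
        exact ⟨P ⊔ W, sup_le hPU (hW.trans perpH_le), hPT.sup hWT, h1, by rw [h2, hPd, hWd, Multiset.sum_cons]⟩
      · obtain ⟨W, hW, hW'⟩ := hμw ν ((Multiset.le_cons_of_notMem hkν).mp hν)
        exact ⟨W, hW.trans perpH_le, hW'⟩

/-- An invariant non-degenerate subspace takes some of the blocks. -/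
theorem sub_shape {U W : Submodule F V} (hU : Inv T U) (hn : NDS B U) (hWU : W ≤ U) (hW : Inv T W) (hWn : NDS B W)
    {μ : Multiset ℕ} (hμ : ∀ a ∈ μ, 0 < a) (hr : ∀ j, finrank F (U.map ((T - 1) ^ j)) = profile μ j) :
    ∃ ν ≤ μ, ν.sum = finrank F W := by
  classical
  obtain ⟨hQn, hinf, hsup, -⟩ := split_perpH h.herm hWU hWn hn
  set Q := perpH B W U
  have hQT : Inv T Q := h.inv_perp hW hU
  obtain ⟨ν, hν, hνr, -⟩ := h.decomp _ W le_rfl hW hWn
  obtain ⟨ν', hν', hνr', -⟩ := h.decomp _ Q le_rfl hQT hQn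
  have heq : ν + ν' = μ := eq_of_profile
    (fun a ha => by rcases Multiset.mem_add.mp ha with ha | ha <;> [exact (hν a ha).1; exact (hν' a ha).1])
    hμ fun j => by
    rw [← hr j, profile_add, ← hνr j, ← hνr' j, ← hsup, Submodule.map_sup]
    have hd := Submodule.finrank_sup_add_finrank_inf_eq (W.map ((T - 1) ^ j)) (Q.map ((T - 1) ^ j))
    have hle : W.map ((T - 1) ^ j) ⊓ Q.map ((T - 1) ^ j) ≤ W ⊓ Q := inf_le_inf
      (Submodule.map_le_iff_le_comap.mpr (h.inv_sub hW j)) (Submodule.map_le_iff_le_comap.mpr (h.inv_sub hQT j))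
    rw [hinf, le_bot_iff] at hle
    rw [hle, finrank_bot, add_zero] at hd
    exact hd.symm
  exact ⟨ν, heq ▸ Multiset.le_add_right ν ν', by
    rw [← profile_zero, ← hνr 0, pow_zero, Module.End.one_eq_id, Submodule.map_id]⟩

end UniH

/-- Models of all block structures. -/
theorem exists_uni_model (hF : Fintype.card F = q ^ 2) {σ : F →+* F} (hσ : ∀ a, σ a = a ^ q) {p : ℕ}
    [Fact p.Prime] [CharP F p] : ∀ μ : Multiset ℕ, (∀ a ∈ μ, 0 < a ∧ a ≤ p) →
    ∃ (V : Type u) (_ : AddCommGroup V) (_ : Module F V) (_ : FiniteDimensional F V)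
      (B : V →ₛₗ[σ] V →ₗ[F] F) (T : Module.End F V), UniH q B T p ∧ finrank F V = μ.sum ∧
      ∀ j, finrank F (LinearMap.range ((T - 1) ^ j)) = profile μ j := by
  classical
  have hinvol : ∀ a, σ (σ a) = a := fun a => by rw [hσ, hσ, ← pow_mul, ← sq, ← hF, FiniteField.pow_card]
  have hchar : ringChar F = p := ringChar.eq F p
  have hp : p.Prime := Fact.out
  intro μ
  induction μ using Multiset.induction_on with
  | empty =>
    intro _
    refine ⟨Fin 0 → F, inferInstance, inferInstance, inferInstance, 0, 1,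
      ⟨⟨hF, hσ, fun _ _ => by simp, fun x _ => Subsingleton.elim _ _⟩, fun _ _ => by simp, one_pow p, hchar, hp⟩,
      by simp, fun j => ?_⟩
    have := Submodule.finrank_le (LinearMap.range (((1 : Module.End F (Fin 0 → F)) - 1) ^ j))
    rw [Module.finrank_fintype_fun_eq_card, Fintype.card_fin] at this
    simp only [profile, Multiset.map_zero, Multiset.sum_zero]
    omega
  | cons a μ ih =>
    intro hμ
    obtain ⟨V', _, _, _, B', T', h', hd', hr'⟩ := ih fun x hx => hμ x (Multiset.mem_cons_of_mem hx)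
    obtain ⟨ha0, hap⟩ := hμ a (Multiset.mem_cons_self a μ)
    obtain ⟨k, rfl⟩ : ∃ k, a = k + 1 := ⟨a - 1, by omega⟩
    -- a single block
    obtain ⟨θ₁, hθ₁⟩ : ∃ θ, σ θ ≠ θ := h'.herm.moved
    set θ := θ₁ - σ θ₁
    have hθ0 : θ ≠ 0 := sub_ne_zero.mpr (Ne.symm hθ₁)
    have hθσ : σ θ = -θ := by rw [map_sub, hinvol, neg_sub]
    let ext : (Fin (k + 1) → F) → ℕ → F := fun x l => if h : l < k + 1 then x ⟨l, h⟩ else 0
    have hext : ∀ x (i : Fin (k + 1)), ext x i = x i := fun x i => dif_pos i.2
    let B₁ : (Fin (k + 1) → F) →ₛₗ[σ] (Fin (k + 1) → F) →ₗ[F] F :=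
      LinearMap.mk₂'ₛₗ σ (RingHom.id F) (fun x y => ∑ i, σ (x i) * y i.rev)
        (fun x x' y => by simp [add_mul, Finset.sum_add_distrib])
        (fun c x y => by simp [Finset.mul_sum, mul_assoc])
        (fun x y y' => by simp [mul_add, Finset.sum_add_distrib])
        (fun c x y => by simp [Finset.mul_sum, mul_left_comm])
    have hB₁ : ∀ x y, B₁ x y = ∑ i, σ (x i) * y i.rev := fun x y => rfl
    let N : Module.End F (Fin (k + 1) → F) :=
      { toFun := fun x i => if (i : ℕ) = 0 then 0 else θ * x ⟨(i : ℕ) - 1, by omega⟩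
        map_add' := fun x y => funext fun i => by
          simp only [Pi.add_apply]; split_ifs <;> ring
        map_smul' := fun c x => funext fun i => by
          simp only [Pi.smul_apply, RingHom.id_apply, smul_eq_mul]; split_ifs <;> ring }
    have hN : ∀ x (i : Fin (k + 1)), N x i = if (i : ℕ) = 0 then 0 else θ * x ⟨(i : ℕ) - 1, by omega⟩ := fun x i => rfl
    have hskew : ∀ x y, B₁ (N x) y + B₁ x (N y) = 0 := fun x y => by
      rw [hB₁, hB₁]
      conv_lhs => arg 1; rw [Fin.sum_univ_succ]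
      conv_lhs => arg 2; rw [Fin.sum_univ_castSucc]
      have h0 : σ (N x 0) = 0 := by rw [hN]; simp
      have hl : N y (Fin.last k).rev = 0 := by rw [hN]; simp
      rw [h0, hl, zero_mul, mul_zero, zero_add, add_zero, ← Finset.sum_add_distrib]
      refine Finset.sum_eq_zero fun i _ => ?_
      have h1 : N x i.succ = θ * x i.castSucc := by
        rw [hN, if_neg (by simp)]
        congr 1
      have h2 : N y i.castSucc.rev = θ * y i.succ.rev := by
        rw [hN, if_neg (by simp; omega)]
        congr 2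
      rw [h1, h2, map_mul, hθσ]
      ring
    have hNj : ∀ (j : ℕ) x (i : Fin (k + 1)),
        (N ^ j) x i = if (i : ℕ) < j then 0 else θ ^ j * x ⟨(i : ℕ) - j, by omega⟩ := by
      intro j
      induction j with
      | zero => intro x i; simp
      | succ j ih =>
        intro x i
        rw [pow_succ', Module.End.mul_apply, hN]
        by_cases hi : (i : ℕ) = 0
        · rw [if_pos hi, if_pos (by omega)]
        rw [if_neg hi, ih]
        by_cases hj : (i : ℕ) - 1 < j
        · rw [if_pos (by simpa using hj), if_pos (by omega), mul_zero]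
        · rw [if_neg (by simpa using hj), if_neg (by omega), pow_succ', mul_assoc]
          congr 3
          apply Fin.ext
          simp
          omega
    have hrank : ∀ j, finrank F (LinearMap.range (N ^ j)) = k + 1 - j := fun j => by
      let S : (Fin (k + 1 - j) → F) →ₗ[F] (Fin (k + 1) → F) :=
        { toFun := fun z i => if h : (i : ℕ) < j then 0 else z ⟨(i : ℕ) - j, by omega⟩
          map_add' := fun x y => funext fun i => by by_cases hi : (i : ℕ) < j <;> simp [hi]
          map_smul' := fun c x => funext fun i => by by_cases hi : (i : ℕ) < j <;> simp [hi] }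
      have hS : Function.Injective S := fun z z' e => funext fun l => by
        have h1 := congrFun e ⟨(l : ℕ) + j, by omega⟩
        simpa [S] using h1
      rw [show LinearMap.range (N ^ j) = LinearMap.range S from le_antisymm ?_ ?_,
        LinearMap.finrank_range_of_inj hS, Module.finrank_fintype_fun_eq_card, Fintype.card_fin]
      · rintro _ ⟨x, rfl⟩
        refine ⟨fun l => θ ^ j * x ⟨l, by omega⟩, funext fun i => ?_⟩
        rw [hNj]
        by_cases hi : (i : ℕ) < j <;> simp [S, hi]
      · rintro _ ⟨z, rfl⟩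
        refine ⟨fun i => if h : (i : ℕ) < k + 1 - j then (θ ^ j)⁻¹ * z ⟨i, h⟩ else 0, funext fun i => ?_⟩
        rw [hNj]
        by_cases hi : (i : ℕ) < j
        · simp [S, hi]
        · simp [S, hi, show (i : ℕ) - j < k + 1 - j by omega, hθ0]
    have hnil : N ^ (k + 1) = 0 := LinearMap.range_eq_bot.mp (Submodule.finrank_eq_zero.mp (by rw [hrank, Nat.sub_self]))
    obtain ⟨T₁, hiso, hrank₁⟩ : ∃ T₁ : Module.End F (Fin (k + 1) → F), (∀ x y, B₁ (T₁ x) (T₁ y) = B₁ x y) ∧
        ∀ j, finrank F (LinearMap.range ((T₁ - 1) ^ j)) = k + 1 - j := by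
      by_cases hp2 : p = 2
      · refine ⟨1 + N, fun x y => ?_, fun j => by rw [add_sub_cancel_left, hrank]⟩
        have hsq : N (N y) = 0 := by
          rw [← Module.End.mul_apply, ← sq, pow_eq_zero_of_le (show k + 1 ≤ 2 by omega) hnil, LinearMap.zero_apply]
        have h1 := hskew x (N y)
        rw [hsq, map_zero, add_zero] at h1
        simp only [LinearMap.add_apply, Module.End.one_apply, map_add]
        linear_combination hskew x y + h1
      have h2 : (2 : F) ≠ 0 := Ring.two_ne_zero (by rwa [hchar])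
      obtain ⟨u, hu⟩ := IsNilpotent.isUnit_one_sub ⟨k + 1, hnil⟩
      have hcomm : Commute N (↑u⁻¹ : Module.End F (Fin (k + 1) → F)) := by
        refine Commute.units_inv_right ?_
        rw [hu]
        exact (Commute.one_right N).sub_right (Commute.refl N)
      refine ⟨(1 + N) * ↑u⁻¹, fun x y => ?_, fun j => ?_⟩
      · have hxa : ∀ x, (1 - N) ((↑u⁻¹ : Module.End F (Fin (k + 1) → F)) x) = x := fun x => by
          rw [← hu, ← Module.End.mul_apply, Units.mul_inv, Module.End.one_apply]
        simp only [Module.End.mul_apply]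
        conv_rhs => rw [← hxa x, ← hxa y]
        generalize (↑u⁻¹ : Module.End F (Fin (k + 1) → F)) x = c
        generalize (↑u⁻¹ : Module.End F (Fin (k + 1) → F)) y = d
        simp only [LinearMap.add_apply, LinearMap.sub_apply, Module.End.one_apply, map_add, map_sub]
        linear_combination (2 : F) * hskew c d
      · have h3 : (1 + N) * ↑u⁻¹ - 1 = ((2 : F) • N) * ↑u⁻¹ := by
          have h4 : (1 : Module.End F (Fin (k + 1) → F)) = (1 - N) * ↑u⁻¹ := by rw [← hu, Units.mul_inv]
          nth_rewrite 2 [h4]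
          rw [← sub_mul, two_smul]
          congr 1
          abel
        rw [h3, (hcomm.smul_left 2).mul_pow, ← Units.val_pow_eq_pow_val, _root_.smul_pow, Module.End.mul_eq_comp,
          LinearMap.range_comp_of_range_eq_top _ (LinearMap.range_eq_top.mpr
            ((Module.End.isUnit_iff _).mp (u⁻¹ ^ j).isUnit).surjective),
          LinearMap.range_smul _ _ (pow_ne_zero j h2), hrank]
    have hB₁n : ∀ x, (∀ y, B₁ x y = 0) → x = 0 := fun x hx => funext fun i => σ.injective (by
      have h1 := hx (Pi.single i.rev 1)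
      rw [hB₁, Finset.sum_eq_single i (fun l _ hl => by
        rw [Pi.single_eq_of_ne (fun e => hl (Fin.rev_injective e)), mul_zero])
        (fun hm => absurd (Finset.mem_univ _) hm), Pi.single_eq_same, mul_one] at h1
      rw [h1, Pi.zero_apply, map_zero])
    have hB₁s : ∀ x y, B₁ y x = σ (B₁ x y) := fun x y => by
      rw [hB₁, hB₁, map_sum, ← Equiv.sum_comp Fin.revPerm]
      exact Finset.sum_congr rfl fun i _ => by simp [hinvol, mul_comm]
    let B : ((Fin (k + 1) → F) × V') →ₛₗ[σ] ((Fin (k + 1) → F) × V') →ₗ[F] F :=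
      LinearMap.mk₂'ₛₗ σ (RingHom.id F) (fun x y => B₁ x.1 y.1 + B' x.2 y.2)
        (fun x x' y => by simp; ring)
        (fun c x y => by simp [LinearMap.map_smulₛₗ]; ring)
        (fun x y y' => by simp; ring)
        (fun c x y => by simp; ring)
    have hB : ∀ x y, B x y = B₁ x.1 y.1 + B' x.2 y.2 := fun x y => rfl
    let T : Module.End F ((Fin (k + 1) → F) × V') := T₁.prodMap T'
    have hTj : ∀ j, (T - 1) ^ j = ((T₁ - 1) ^ j).prodMap ((T' - 1) ^ j) := fun j => by
      induction j with
      | zero => simp [LinearMap.prodMap_one]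
      | succ j ih =>
        rw [pow_succ, ih, pow_succ, pow_succ]
        exact LinearMap.ext fun v => rfl
    have hnil' : (T - 1) ^ p = 0 := by
      rw [hTj, h'.nilp, show (T₁ - 1) ^ p = 0 from LinearMap.range_eq_bot.mp (Submodule.finrank_eq_zero.mp (by
        rw [hrank₁]; omega))]
      exact LinearMap.ext fun v => rfl
    have hper : T ^ p = 1 := by
      have h1 : ((X : F[X]) - 1) ^ p = X ^ p - 1 := by rw [sub_pow_char, one_pow]
      have h2 := congrArg (aeval T) h1
      rw [map_pow, map_sub, map_sub, map_pow, aeval_X, map_one, hnil'] at h2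
      exact sub_eq_zero.mp h2.symm
    refine ⟨_, inferInstance, inferInstance, inferInstance, B, T,
      ⟨⟨hF, hσ, fun x y => by rw [hB, hB, map_add, ← hB₁s, ← h'.herm.symm], fun x hx => ?_⟩, fun x y => ?_, hper, hchar, hp⟩,
      ?_, fun j => ?_⟩
    · refine Prod.ext (hB₁n _ fun y => ?_) (h'.herm.nd _ fun y => ?_)
      · simpa [hB] using hx (y, 0)
      · simpa [hB] using hx (0, y)
    · simp [hB, T, hiso, h'.iso]
    · rw [Module.finrank_prod, Module.finrank_fintype_fun_eq_card, Fintype.card_fin, hd', Multiset.sum_cons]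
    · rw [hTj, LinearMap.range_prodMap]
      let E : (LinearMap.range ((T₁ - 1) ^ j)).prod (LinearMap.range ((T' - 1) ^ j)) ≃ₗ[F]
          (LinearMap.range ((T₁ - 1) ^ j) × LinearMap.range ((T' - 1) ^ j)) :=
        { toFun := fun v => (⟨v.1.1, v.2.1⟩, ⟨v.1.2, v.2.2⟩)
          invFun := fun v => ⟨(v.1.1, v.2.1), v.1.2, v.2.2⟩
          map_add' := fun _ _ => rfl
          map_smul' := fun _ _ => rfl
          left_inv := fun _ => rfl
          right_inv := fun _ => rfl }
      rw [E.finrank_eq, Module.finrank_prod, hrank₁, hr']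
      simp [profile]

end CfsgLib.HermIso
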