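/-
Unitary elements of order the characteristic and non-degenerate subspaces.
-/
import Cfsg.Agent.Lib.HermIso.Nondeg
import Cfsg.Agent.Lib.HermIso.Unipotent

set_option autoImplicit false
set_option linter.unusedSectionVars false
set_option maxHeartbeats 1000000

namespace CfsgLib.HermIso

open Polynomial Module CfsgLib.PrimeIso
open scoped Matrix MatrixGroups

universe u

variable {F : Type u} [Field F] [Fintype F] {q n m p : ℕ} [Fact p.Prime] [CharP F p]

/-- Every partition of `n` into parts at most `p` has parts adding up to `m`. -/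
def Splits (p n m : ℕ) : Prop :=
  ∀ μ : Multiset ℕ, (∀ a ∈ μ, 0 < a ∧ a ≤ p) → μ.sum = n → ∃ ν : Multiset ℕ, ν ≤ μ ∧ ν.sum = m

/-- Unipotent elements fix non-degenerate subspaces. -/
theorem nd_uni_pos (hF : Fintype.card F = q ^ 2) (hn : 0 < n) (hs : Splits p n m) {y : GL (Fin n) F}
    (hy : y ∈ Cfsg.GU n F q) {z : F} (hz : (y : Matrix (Fin n) (Fin n) F) ^ p = z • 1) :
    HasND q m (y : Matrix (Fin n) (Fin n) F) := by
  obtain ⟨σ, B, H, hB⟩ := exists_herm hF n
  have hp : p.Prime := Fact.out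
  have hzn := scalar_norm H hB hn (y := y ^ p) (pow_mem hy p) (by rw [Units.val_pow_eq_pow_val, hz])
  have hrq : ¬ p ∣ q + 1 := fun h => cast_ne_zero_add_one (p := p) hF ((CharP.cast_eq_zero_iff F p _).mpr h)
  obtain ⟨a, ha, ha1⟩ := exists_root_norm_one hrq hzn
  have ha0 : a ≠ 0 := fun e => by
    rw [e, zero_pow (Nat.succ_ne_zero q)] at ha1
    exact zero_ne_one ha1
  set T : Module.End F (Fin n → F) := a⁻¹ • Matrix.toLin' (y : Matrix (Fin n) (Fin n) F) with hT
  have hTv : ∀ v, Matrix.toLin' (y : Matrix (Fin n) (Fin n) F) v = a • T v := fun v => by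
    rw [hT, LinearMap.smul_apply, smul_smul, mul_inv_cancel₀ ha0, one_smul]
  have h : UniH q B T p := by
    refine ⟨H, fun u v => ?_, ?_, ringChar.eq F p, hp⟩
    · have hai : σ a⁻¹ * a⁻¹ = 1 := by rw [H.frob, ← pow_succ, inv_pow, ha1, inv_one]
      simp only [hT, LinearMap.map_smulₛₗ, LinearMap.smul_apply, map_smul, smul_eq_mul]
      rw [← mul_assoc, mul_comm a⁻¹, hai, one_mul, gu_iso hB hy]
    · have h1 : Matrix.toLinAlgEquiv' ((y : Matrix (Fin n) (Fin n) F) ^ p) = z • (1 : Module.End F (Fin n → F)) := by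
        rw [hz, map_smul, map_one]
      rw [map_pow] at h1
      rw [hT, _root_.smul_pow]
      refine (congrArg (fun M => a⁻¹ ^ p • M) h1).trans ?_
      rw [smul_smul, ← ha, ← mul_pow, inv_mul_cancel₀ ha0, one_pow, one_smul]
  obtain ⟨μ, hμ, hμr, hsub⟩ := h.decomp _ ⊤ le_rfl inv_top (nds_top H)
  have hsum : μ.sum = n := by
    have h1 := hμr 0
    rwa [pow_zero, Module.End.one_eq_id, Submodule.map_id, profile_zero, finrank_top,
      Module.finrank_fintype_fun_eq_card, Fintype.card_fin, eq_comm] at h1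
  obtain ⟨ν, hν, hνm⟩ := hs μ hμ hsum
  obtain ⟨W, -, hWT, hWn, hWd⟩ := hsub ν hν
  exact hasND_of H hB hTv ⟨W, hWT, hWn, hWd.trans hνm⟩

/-- A unipotent element without a fixed non-degenerate subspace. -/
theorem nd_uni_neg (hF : Fintype.card F = q ^ 2) (hs : ¬ Splits p n m) :
    ∃ x : Matrix.SpecialLinearGroup (Fin n) F, x ∈ Cfsg.SU n F q ∧
      (∃ z : F, ((x ^ p : Matrix.SpecialLinearGroup (Fin n) F) : Matrix (Fin n) (Fin n) F) = z • 1) ∧
      ¬ HasND q m (x : Matrix (Fin n) (Fin n) F) := by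
  unfold Splits at hs
  push Not at hs
  obtain ⟨μ, hμ, hsum, hno⟩ := hs
  obtain ⟨σ, B₀, H₀, hB₀⟩ := exists_herm hF n
  obtain ⟨V, _, _, _, B, T, h, hd, hr⟩ := exists_uni_model hF H₀.frob μ hμ
  obtain ⟨φ, y, hy, hφy, hφ⟩ := exists_gu_of h.herm (hd.trans hsum) T h.iso
  have hpow : ∀ (j : ℕ) v, φ (((Matrix.toLin' (y : Matrix (Fin n) (Fin n) F)) ^ j) v) = (T ^ j) (φ v) := fun j => by
    induction j with
    | zero => intro v; rfl
    | succ j ih => intro v; rw [pow_succ', pow_succ', Module.End.mul_apply, Module.End.mul_apply, hφy, ih]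
  have hyp : (y : Matrix (Fin n) (Fin n) F) ^ p = 1 := by
    refine Matrix.toLinAlgEquiv'.injective (LinearMap.ext fun v => φ.injective ?_)
    rw [map_pow, map_one]
    exact (hpow p v).trans (by rw [h.per]; rfl)
  have hdet : (y : Matrix (Fin n) (Fin n) F).det = 1 := by
    have h1 : (y : Matrix (Fin n) (Fin n) F).det ^ p = 1 := by rw [← Matrix.det_pow, hyp, Matrix.det_one]
    have h2 : ((y : Matrix (Fin n) (Fin n) F).det - 1) ^ p = 0 := by rw [sub_pow_char, one_pow, h1, sub_self]
    exact sub_eq_zero.mp (pow_eq_zero_iff h.prime.ne_zero |>.mp h2)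
  let x : Matrix.SpecialLinearGroup (Fin n) F := ⟨y, hdet⟩
  refine ⟨x, hy, ⟨1, ?_⟩, fun hND => ?_⟩
  · rw [Matrix.SpecialLinearGroup.coe_pow, show (x : Matrix (Fin n) (Fin n) F) = y from rfl, hyp, one_smul]
  obtain ⟨W, hWT, hWn, hWd⟩ := of_hasND H₀ hB₀ one_ne_zero (T := Matrix.toLin' (y : Matrix (Fin n) (Fin n) F))
    (fun v => (one_smul F _).symm) hND
  obtain ⟨ν, hν, hνs⟩ := h.sub_shape (U := ⊤) (W := W.map φ.toLinearMap) inv_top (nds_top h.herm) le_top
    (fun v hv => by
      obtain ⟨w, hw, rfl⟩ := hv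
      exact ⟨_, hWT w hw, hφy w⟩)
    (fun v hv hp => by
      obtain ⟨w, hw, rfl⟩ := hv
      rw [hWn w hw fun u hu => ?_, map_zero]
      rw [hB₀, ← hφ]
      exact hp _ ⟨u, hu, rfl⟩)
    (fun a ha => (hμ a ha).1) (fun j => by rw [Submodule.map_top, hr])
  exact hno ν hν (hνs.trans ((LinearEquiv.finrank_map_eq φ W).trans hWd))

/-- The partition condition in characteristic two. -/
theorem splits_two (hmn : m ≤ n) : Splits 2 n m ↔ Odd n ∨ Even m := by
  constructor
  · intro hs
    by_contra hno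
    push Not at hno
    obtain ⟨h1, h2⟩ := hno
    obtain ⟨o, ho⟩ := even_iff_two_dvd.mp (Nat.not_odd_iff_even.mp h1)
    obtain ⟨ν, hν, hνm⟩ := hs (Multiset.replicate o 2) (fun a ha => by rw [Multiset.eq_of_mem_replicate ha]; omega)
      (by rw [Multiset.sum_replicate, smul_eq_mul, ho, mul_comm])
    have h3 : ν = Multiset.replicate (Multiset.card ν) 2 := Multiset.eq_replicate_card.mpr fun a ha =>
      Multiset.eq_of_mem_replicate (Multiset.mem_of_le hν ha)
    rw [h3, Multiset.sum_replicate, smul_eq_mul] at hνm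
    obtain ⟨j, hj⟩ := Nat.not_even_iff_odd.mp h2
    omega
  · intro hcond μ hμ hsum
    have hμ' : μ = Multiset.replicate (μ.count 2) 2 + Multiset.replicate (μ.count 1) 1 := Multiset.ext.mpr fun a => by
      rw [Multiset.count_add, Multiset.count_replicate, Multiset.count_replicate]
      by_cases ha : a ∈ μ
      · obtain ⟨h1, h2⟩ := hμ a ha
        rcases (show a = 1 ∨ a = 2 by omega) with rfl | rfl <;> simp
      · have h0 := Multiset.count_eq_zero.mpr ha
        rw [h0]
        split_ifs with h1 h2 h2 <;> subst_vars <;> omega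
    set a := μ.count 2
    set b := μ.count 1
    rw [hμ', Multiset.sum_add, Multiset.sum_replicate, Multiset.sum_replicate, smul_eq_mul, smul_eq_mul] at hsum
    refine ⟨Multiset.replicate (min a (m / 2)) 2 + Multiset.replicate (m - 2 * min a (m / 2)) 1, ?_, ?_⟩
    · rw [hμ']
      refine add_le_add ((Multiset.replicate_le_replicate _).mpr (min_le_left _ _))
        ((Multiset.replicate_le_replicate _).mpr ?_)
      rcases hcond with ⟨j, hj⟩ | ⟨j, hj⟩ <;> omega
    · rw [Multiset.sum_add, Multiset.sum_replicate, Multiset.sum_replicate, smul_eq_mul, smul_eq_mul]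
      omega

end CfsgLib.HermIso
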